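import Cfsg.Agent.TensorInv.Sym
import Cfsg.Agent.MaxSub.OrthVectorGL
import Cfsg.Agent.Forms59.OmegaTools

/-!
The tensor product of a three-dimensional orthogonal space and a four-dimensional orthogonal space
without singular lines (minus type), over a field of odd order at least five (helper70).
-/

set_option autoImplicit false
set_option linter.unusedSectionVars false
set_option linter.unusedSimpArgs false

namespace Cfsg.Agent.OO34

open Matrix Cfsg.Agent.MaxSub Cfsg.Agent.TensorMax Cfsg.Agent.TensorInv Module QuadraticMap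
open Cfsg.Agent.UnitaryOrthogonal (PolarND)

variable {F : Type*} [Field F]

/-- The product of a symmetric form on `F³` and a symmetric form on `F⁴` of minus type. -/
structure OForm (F : Type*) [Field F] where
  f₁ : (Fin 3 → F) →ₗ[F] (Fin 3 → F) →ₗ[F] F
  f₂ : (Fin 4 → F) →ₗ[F] (Fin 4 → F) →ₗ[F] F
  sym₁ : Sym f₁
  sym₂ : Sym f₂
  Q : QuadraticForm F (V F 3 4)
  polar_emb : ∀ v w x y, polar Q (emb v x) (emb w y) = f₁ x y * f₂ v w
  five : 5 ≤ Nat.card F
  minus : ∀ n m, f₂ n n = 0 → f₂ n m = 0 → f₂ m m = 0 → n ≠ 0 → ∃ c : F, m = c • n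

namespace OForm

variable (S : OForm F)

include S in
theorem two : (2 : F) ≠ 0 := S.sym₁.two

theorem polar_emb' (v w : Fin 4 → F) (x y : Fin 3 → F) :
    polar S.Q (emb v x) (emb w y) = S.f₁ x y * S.f₂ v w := S.polar_emb v w x y

theorem two_mul_Q_emb (v : Fin 4 → F) (x : Fin 3 → F) :
    2 * S.Q (emb v x) = S.f₁ x x * S.f₂ v v := by
  rw [← S.polar_emb, QuadraticMap.polar_self, nsmul_eq_mul, Nat.cast_ofNat]

theorem Q_emb (v : Fin 4 → F) (x : Fin 3 → F) :
    S.Q (emb v x) = S.f₁ x x * S.f₂ v v / 2 := by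
  rw [← S.two_mul_Q_emb, mul_comm, mul_div_assoc, div_self S.two, mul_one]

theorem eq_zero_of_polar {z : V F 3 4} (h : ∀ v x, polar S.Q (emb v x) z = 0) : z = 0 := by
  have key : ∀ w y, polar S.Q (emb w y) z = 0 := h
  funext p
  -- contract against a pair of vectors representing the coordinate functionals
  have hz : ∀ v x, ∑ j, S.f₂ v (Pi.single j 1) * S.f₁ x (TensorInv.col j z) = 0 := fun v x => by
    have e := key v x
    rw [eq_sum_emb z] at e
    have : (polarBilin S.Q (emb v x)) (∑ j, emb (Pi.single j 1) (TensorInv.col j z)) = 0 := e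
    rw [map_sum] at this
    rw [← this]
    exact Finset.sum_congr rfl fun j _ => by
      rw [polarBilin_apply_apply, S.polar_emb]; ring
  have h2 : ∀ x, (fun j => S.f₁ x (TensorInv.col j z)) = 0 := fun x => S.sym₂.nd _ fun v => by
    rw [S.sym₂.symm, pi_eq_sum_univ' (fun j => S.f₁ x (TensorInv.col j z)), map_sum, ← hz v x]
    exact Finset.sum_congr rfl fun j _ => by rw [map_smul, smul_eq_mul, mul_comm]
  have h1 : TensorInv.col p.2 z = 0 := S.sym₁.nd _ fun x => by
    rw [S.sym₁.symm]; exact congrFun (h2 x) p.2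
  exact congrFun h1 p.1

theorem nd : PolarND S.Q := fun z hz => S.eq_zero_of_polar fun v x => by
  rw [polar_comm]; exact hz _

theorem five_le : 5 ≤ finrank F (V F 3 4) := by
  simp

theorem nondeg [Finite F] : (QuadraticMap.polarBilin S.Q).Nondegenerate :=
  ⟨fun z hz => S.nd z hz, fun z hz => S.nd z fun y => by rw [polar_comm]; exact hz y⟩

/-- The half-turn about `e`. -/
noncomputable def turn (e : Fin 3 → F) : GL (Fin 3) F :=
  mkGL (-reflMap S.f₁ e) (-reflMap S.f₁ e)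
    (fun x => by simp [reflMap_reflMap]) (fun x => by simp [reflMap_reflMap])

theorem turn_apply (e x : Fin 3 → F) :
    act (S.turn e) x = (2 * S.f₁ e x / S.f₁ e e) • e - x := by
  rw [turn, act_apply, mkGL_mulVec]
  simp [reflMap, div_mul_eq_mul_div]

end OForm

/-- A group between the tensor stabiliser in `Ω` and `Ω`. -/
structure Over (S : OForm F) (H : Subgroup (GL (Fin 3 × Fin 4) F)) : Prop where
  le : H ≤ Geo.omegaGL ⇑S.Q
  kr_mem : ∀ g k, kr g k ∈ Geo.omegaGL ⇑S.Q → kr g k ∈ H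

/-- The elements fixing the orthogonal of `F³ ⊗ n` pointwise. -/
def InZ (S : OForm F) (n : Fin 4 → F) (g : GL (Fin 3 × Fin 4) F) : Prop :=
  ∀ v x, S.f₂ n v = 0 → act g (emb v x) = emb v x

/-- Some non-trivial element of `H` has its centre inside some `F³ ⊗ n`. -/
def Root (S : OForm F) (H : Subgroup (GL (Fin 3 × Fin 4) F)) : Prop :=
  ∃ n, n ≠ 0 ∧ S.f₂ n n = 0 ∧ ∃ g ∈ H, g ≠ 1 ∧ InZ S n g

namespace OForm

variable (S : OForm F)

theorem mem_isometry_iff {g : GL (Fin 3 × Fin 4) F} :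
    g ∈ Cfsg.isometryGroup F ⇑S.Q ↔ ∀ z, S.Q (act g z) = S.Q z :=
  ⟨fun h z => h z 0, fun h z _ => h z⟩

theorem Q_act {g : GL (Fin 3 × Fin 4) F} (hg : g ∈ Geo.omegaGL ⇑S.Q) (z : V F 3 4) :
    S.Q (act g z) = S.Q z := by
  obtain ⟨g₀, -, rfl⟩ := hg
  exact g₀.2 z 0

theorem polar_act {g : GL (Fin 3 × Fin 4) F} (hg : g ∈ Geo.omegaGL ⇑S.Q) (z z' : V F 3 4) :
    polar S.Q (act g z) (act g z') = polar S.Q z z' := by
  simp only [QuadraticMap.polar, ← map_add, S.Q_act hg]

theorem Q_of_emb {g : GL (Fin 3 × Fin 4) F}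
    (h : ∀ v x w y, polar S.Q (act g (emb v x)) (act g (emb w y)) = S.f₁ x y * S.f₂ v w)
    (z : V F 3 4) : S.Q (act g z) = S.Q z := by
  let B : V F 3 4 →ₗ[F] V F 3 4 →ₗ[F] F := (polarBilin S.Q).compl₁₂ (act g) (act g)
  have h1 : ∀ v x z', B (emb v x) z' = polarBilin S.Q (emb v x) z' := fun v x z' => by
    conv_lhs => rw [eq_sum_emb z']
    conv_rhs => rw [eq_sum_emb z']
    rw [map_sum, map_sum]
    exact Finset.sum_congr rfl fun j _ => by
      show polar S.Q (act g _) (act g _) = polar S.Q _ _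
      rw [h, S.polar_emb]
  have h2 : B z z = polarBilin S.Q z z := by
    conv_lhs => rw [eq_sum_emb z]
    conv_rhs => rw [eq_sum_emb z]
    simp only [map_sum, LinearMap.sum_apply]
    exact Finset.sum_congr rfl fun j _ => Finset.sum_congr rfl fun k _ => h1 _ _ _
  have h3 : polar S.Q (act g z) (act g z) = polar S.Q z z := h2
  rw [polar_self, polar_self, nsmul_eq_mul, nsmul_eq_mul, Nat.cast_ofNat] at h3
  exact mul_left_cancel₀ S.two h3

theorem kr_mem_isometry {g : GL (Fin 3) F} {k : GL (Fin 4) F} {μ ν : F} (hμν : μ * ν = 1)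
    (hg : ∀ x y, S.f₁ (act g x) (act g y) = μ * S.f₁ x y)
    (hk : ∀ v w, S.f₂ (act k v) (act k w) = ν * S.f₂ v w) :
    kr g k ∈ Cfsg.isometryGroup F ⇑S.Q :=
  S.mem_isometry_iff.2 <| S.Q_of_emb fun v x w y => by
    rw [act_kr, act_kr, S.polar_emb, hg, hk]
    linear_combination (S.f₁ x y * S.f₂ v w) * hμν

variable [Fintype F]

theorem card_ne : Fintype.card F ≠ 2 ∨ Fintype.card (Fin 3 × Fin 4) ≠ 4 := Or.inr (by simp)

theorem sq_mem {g : GL (Fin 3 × Fin 4) F} (hg : g ∈ Cfsg.isometryGroup F ⇑S.Q) :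
    g * g ∈ Geo.omegaGL ⇑S.Q :=
  ⟨(⟨g, hg⟩ : Cfsg.isometryGroup F ⇑S.Q) * ⟨g, hg⟩,
    Forms59.sq_mem_omega S.nondeg (card_ne) _, rfl⟩

/-- Isometries of odd order lie in `Ω`. -/
theorem mem_of_odd {g : GL (Fin 3 × Fin 4) F} (hg : g ∈ Cfsg.isometryGroup F ⇑S.Q) {n : ℕ}
    (hn : Odd n) (hgn : g ^ n = 1) : g ∈ Geo.omegaGL ⇑S.Q := by
  obtain ⟨k, rfl⟩ := hn
  have h := S.sq_mem (pow_mem hg (k + 1))
  rwa [← pow_add, show k + 1 + (k + 1) = 2 * k + 1 + 1 by omega, pow_succ, hgn, one_mul] at h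

end OForm

end Cfsg.Agent.OO34
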