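import Cfsg.Agent.OO34.Normal

/-!
Square classes of the spaces cut out by diagonal elements, and existence of frames with prescribed
square classes (helper70).
-/

set_option autoImplicit false
set_option linter.unusedSectionVars false
set_option linter.unusedSimpArgs false
set_option linter.unusedVariables false

namespace Cfsg.Agent.OO34

open Matrix Cfsg.Agent.MaxSub Cfsg.Agent.TensorMax Cfsg.Agent.TensorInv Module QuadraticMap

variable {F : Type*} [Field F]

/-- Square classes multiply. -/
theorem isSquare_mul_iff_iff [Finite F] {x y : F} (h2 : (2 : F) ≠ 0) (hx : x ≠ 0) (hy : y ≠ 0) :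
    IsSquare (x * y) ↔ (IsSquare x ↔ IsSquare y) := by
  classical
  haveI := Fintype.ofFinite F
  have hF : ringChar F ≠ 2 := fun h => h2 (by
    have := ringChar.Nat.cast_ringChar (R := F)
    rw [h] at this
    exact_mod_cast this)
  rw [← quadraticChar_one_iff_isSquare hx, ← quadraticChar_one_iff_isSquare hy,
    ← quadraticChar_one_iff_isSquare (mul_ne_zero hx hy), map_mul]
  rcases quadraticChar_dichotomy hx with h | h <;> rcases quadraticChar_dichotomy hy with h' | h' <;>
    simp [h, h']

/-- A binary anisotropic form takes every value. -/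
theorem exists_sq_add [Finite F] (h2 : (2 : F) ≠ 0) {a b : F} (ha : a ≠ 0) (hb : b ≠ 0) (c : F) :
    ∃ x y : F, a * x ^ 2 + b * y ^ 2 = c := by
  classical
  haveI := Fintype.ofFinite F
  have hodd : Fintype.card F % 2 = 1 := FiniteField.odd_card_of_char_ne_two fun h => h2 (by
    have := ringChar.Nat.cast_ringChar (R := F)
    rw [h] at this
    exact_mod_cast this)
  obtain ⟨x, y, hxy⟩ := FiniteField.exists_root_sum_quadratic
    (f := Polynomial.C a * Polynomial.X ^ 2)
    (g := Polynomial.C b * Polynomial.X ^ 2 - Polynomial.C c)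
    (Polynomial.degree_C_mul_X_pow 2 ha)
    (by
      rw [Polynomial.degree_sub_eq_left_of_degree_lt, Polynomial.degree_C_mul_X_pow 2 hb]
      · rfl
      · rw [Polynomial.degree_C_mul_X_pow 2 hb]
        exact lt_of_le_of_lt Polynomial.degree_C_le (by norm_num))
    hodd
  refine ⟨x, y, ?_⟩
  simp at hxy
  linear_combination hxy

namespace OForm

variable (S : OForm F)

/-- The discriminant of the four-dimensional space is not a square. -/
theorem disc_nonsquare [Finite F] {l : Fin 4 → (Fin 4 → F)} (hl : Fam S.f₂ l) :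
    ¬ IsSquare (S.f₂ (l 0) (l 0) * S.f₂ (l 1) (l 1) * (S.f₂ (l 2) (l 2) * S.f₂ (l 3) (l 3))) := by
  rintro ⟨r, hr⟩
  have h0 := hl.aniso 0
  have h1 := hl.aniso 1
  have h2 := hl.aniso 2
  have h3 := hl.aniso 3
  obtain ⟨x, y, hxy⟩ := exists_sq_add S.two h0 h1 (-S.f₂ (l 2) (l 2))
  set γ := r / S.f₂ (l 3) (l 3) with hγ
  have hγ2 : γ * γ * S.f₂ (l 3) (l 3) =
      S.f₂ (l 0) (l 0) * S.f₂ (l 1) (l 1) * S.f₂ (l 2) (l 2) := by
    rw [hγ]; field_simp; linear_combination -hr
  set n := x • l 0 + y • l 1 + l 2 with hn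
  set m := (-(S.f₂ (l 1) (l 1) * y)) • l 0 + (S.f₂ (l 0) (l 0) * x) • l 1 + γ • l 3 with hm
  have o := hl.orth
  have hnn : S.f₂ n n = 0 := by
    simp [hn, o 0 1 (by decide), o 1 0 (by decide), o 0 2 (by decide), o 2 0 (by decide),
      o 1 2 (by decide), o 2 1 (by decide)]
    linear_combination hxy
  have hnm : S.f₂ n m = 0 := by
    simp [hn, hm, o 0 1 (by decide), o 1 0 (by decide), o 2 0 (by decide),
      o 2 1 (by decide), o 0 3 (by decide), o 1 3 (by decide), o 2 3 (by decide)]
    ring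
  have hmm : S.f₂ m m = 0 := by
    simp [hm, o 0 1 (by decide), o 1 0 (by decide), o 0 3 (by decide), o 3 0 (by decide),
      o 1 3 (by decide), o 3 1 (by decide)]
    linear_combination S.f₂ (l 0) (l 0) * S.f₂ (l 1) (l 1) * hxy + hγ2
  have hn0 : n ≠ 0 := fun h => h2 (by
    have h' := congrArg (S.f₂ (l 2)) h
    simpa [hn, o 2 0 (by decide), o 2 1 (by decide)] using h')
  obtain ⟨c, hc⟩ := S.minus n m hnn hnm hmm hn0
  have hc2 := congrArg (S.f₂ (l 2)) hc
  have hc3 := congrArg (S.f₂ (l 3)) hc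
  simp [hn, hm, o 2 0 (by decide), o 2 1 (by decide), o 2 3 (by decide), h2] at hc2
  simp [hn, hm, o 3 0 (by decide), o 3 1 (by decide), o 3 2 (by decide), hc2, h3] at hc3
  rw [hc3] at hγ2
  exact mul_ne_zero (mul_ne_zero h0 h1) h2 (by linear_combination -hγ2)

/-- An anisotropic vector of `F³` starts a basis whose first two square classes differ. -/
theorem exists_nonsquare_pair [Finite F] {v : Fin 3 → F} (hv : S.f₁ v v ≠ 0) :
    ∃ e : Fin 3 → (Fin 3 → F), Fam S.f₁ e ∧ e 0 = v ∧
      ¬ IsSquare (S.f₁ (e 0) (e 0) * S.f₁ (e 1) (e 1)) := by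
  classical
  haveI := Fintype.ofFinite F
  obtain ⟨e, he, rfl⟩ := exists_basis_from S.sym₁ hv
  obtain ⟨ε, hε⟩ := FiniteField.exists_nonsquare (F := F) fun h => S.two (by
    have := ringChar.Nat.cast_ringChar (R := F)
    rw [h] at this
    exact_mod_cast this)
  have hε0 : ε ≠ 0 := fun h => hε (h ▸ IsSquare.zero)
  obtain ⟨x, y, hxy⟩ := exists_sq_add S.two (he.aniso 1) (he.aniso 2)
    (ε * S.f₁ (e 0) (e 0))
  set u := x • e 1 + y • e 2 with hu
  have huu : S.f₁ u u = ε * S.f₁ (e 0) (e 0) := by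
    rw [← hxy]
    simp [hu, he.orth 1 2 (by decide), he.orth 2 1 (by decide)]
    ring
  have hu0 : S.f₁ u u ≠ 0 := by rw [huu]; exact mul_ne_zero hε0 hv
  have h01 : S.f₁ (e 0) u = 0 := by simp [hu, he.orth 0 1 (by decide), he.orth 0 2 (by decide)]
  have hfam : Fam S.f₁ ![e 0, u] := by
    refine ⟨fun i => ?_, fun i j hij => ?_⟩
    · fin_cases i
      · simpa using hv
      · simpa using hu0
    · fin_cases i <;> fin_cases j <;> simp at hij ⊢
      · exact h01
      · rw [S.sym₁.symm]; exact h01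
  obtain ⟨w, hw, hwp⟩ := S.sym₁.exists_aniso_fam hfam (by norm_num)
  have p0 : S.f₁ (e 0) w = 0 := by simpa using hwp 0
  have p1 : S.f₁ u w = 0 := by simpa using hwp 1
  refine ⟨![e 0, u, w], ⟨fun i => ?_, fun i j hij => ?_⟩, rfl, ?_⟩
  · fin_cases i
    · simpa using hv
    · simpa using hu0
    · simpa using hw
  · fin_cases i <;> fin_cases j <;> simp at hij ⊢
    · exact h01
    · exact p0
    · rw [S.sym₁.symm]; exact h01
    · exact p1
    · rw [S.sym₁.symm]; exact p0
    · rw [S.sym₁.symm]; exact p1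
  · simp only [Matrix.cons_val_zero, Matrix.cons_val_one]
    rw [huu, show S.f₁ (e 0) (e 0) * (ε * S.f₁ (e 0) (e 0)) =
      ε * (S.f₁ (e 0) (e 0) * S.f₁ (e 0) (e 0)) by ring,
      isSquare_mul_iff_iff S.two hε0 (mul_ne_zero hv hv)]
    exact fun h => hε (h.2 ⟨_, rfl⟩)

end OForm

namespace Frame

variable {S : OForm F} (R : Frame S)

/-- An element carrying diagonal elements to diagonal elements preserves the square class of
each common eigenspace. -/
theorem isSquare_prod (R' : Frame S) {h : GL (Fin 3 × Fin 4) F} {n : ℕ}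
    (hQ : ∀ z, S.Q (act h z) = S.Q z) (t t' : Fin n → (Fin 3 → Bool) × (Fin 4 → Bool))
    (hh : ∀ r, h * R.D (t r).1 (t r).2 = R'.D (t' r).1 (t' r).2 * h) (c : Fin n → Bool) :
    IsSquare ((∏ i ∈ Finset.univ.filter fun i => ∀ r, tbl (t r).1 (t r).2 i = c r,
        polar S.Q (R.p i) (R.p i)) *
      ∏ i ∈ Finset.univ.filter fun i => ∀ r, tbl (t' r).1 (t' r).2 i = c r,
        polar S.Q (R'.p i) (R'.p i)) := by
  classical
  set P := Finset.univ.filter fun i => ∀ r, tbl (t r).1 (t r).2 i = c r with hP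
  set P' := Finset.univ.filter fun i => ∀ r, tbl (t' r).1 (t' r).2 i = c r with hP'
  have hcard : P.card = P'.card := R.card_eq R' t t' hh c
  let e : P ≃ P' := Fintype.equivOfCardEq (by simpa using hcard)
  let M : Matrix P P F := Matrix.of fun i j =>
    polar S.Q (R'.p (e j)) (act h (R.p i)) / polar S.Q (R'.p (e j)) (R'.p (e j))
  have hexp : ∀ i : P, act h (R.p i) = ∑ j, M i j • R'.p (e j) := fun i => by
    conv_lhs => rw [← R'.expand (act h (R.p i))]
    rw [← Finset.sum_subset (Finset.subset_univ P') fun j _ hj => ?_,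
      ← Finset.sum_coe_sort P']
    · exact (Equiv.sum_comp e fun j : P' => (polar S.Q (R'.p j) (act h (R.p i)) /
        polar S.Q (R'.p j) (R'.p j)) • R'.p j).symm
    · obtain ⟨r, hr⟩ : ∃ r, tbl (t' r).1 (t' r).2 j ≠ c r := by
        by_contra hc
        push Not at hc
        exact hj (by simp [hP', hc])
      rw [R'.D_coord (c := c r) ?_ hr, zero_div, zero_smul]
      rw [← act_mul, ← hh r, act_mul, R.D_p, map_smul, (Finset.mem_filter.1 i.2).2 r]
  have hgram : Matrix.diagonal (fun i : P => polar S.Q (R.p i) (R.p i)) =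
      M * Matrix.diagonal (fun i : P => polar S.Q (R'.p (e i)) (R'.p (e i))) * Mᵀ := by
    ext i k
    have h1 : polar S.Q (R.p i) (R.p k) = polarBilin S.Q (act h (R.p i)) (act h (R.p k)) := by
      rw [polarBilin_apply_apply]
      simp only [QuadraticMap.polar, ← map_add, hQ]
    rw [Matrix.diagonal_apply]
    refine Eq.trans (b := polar S.Q (R.p i) (R.p k)) ?_ ?_
    · rw [R.polar_p i k]
      by_cases hik : i = k
      · subst hik; rw [if_pos rfl, if_pos rfl, R.polar_p, if_pos rfl]
      · rw [if_neg hik, if_neg fun h => hik (Subtype.ext h)]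
    · rw [h1, hexp, hexp, Matrix.mul_apply]
      simp only [map_sum, LinearMap.sum_apply, map_smul, LinearMap.smul_apply,
        polarBilin_apply_apply, smul_eq_mul, Matrix.mul_diagonal, Matrix.transpose_apply]
      refine Finset.sum_congr rfl fun j _ => ?_
      rw [Finset.sum_eq_single j]
      · ring
      · intro l _ hl
        rw [R'.polar_p (e l), if_neg fun h => hl (e.injective (Subtype.ext h)), mul_zero]
      · simp
  have hdet := congrArg Matrix.det hgram
  rw [Matrix.det_mul, Matrix.det_mul, Matrix.det_transpose, Matrix.det_diagonal,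
    Matrix.det_diagonal, Equiv.prod_comp e (fun j : P' => polar S.Q (R'.p j) (R'.p j)),
    Finset.prod_coe_sort P (fun j => polar S.Q (R.p j) (R.p j)),
    Finset.prod_coe_sort P' (fun j => polar S.Q (R'.p j) (R'.p j))] at hdet
  exact ⟨M.det * ∏ i ∈ P', polar S.Q (R'.p i) (R'.p i), by rw [hdet]; ring⟩

end Frame

end Cfsg.Agent.OO34
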