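import Cfsg.Agent.OO34.Disc

/-!
The fusion argument: two non-conjugate involutions, the tables of diagonal elements, and the
criterion by half-turns (helper70).
-/

set_option autoImplicit false
set_option linter.unusedSectionVars false
set_option linter.unusedSimpArgs false
set_option linter.unusedVariables false

namespace Cfsg.Agent.OO34

open Matrix Cfsg.Agent.MaxSub Cfsg.Agent.TensorMax Cfsg.Agent.TensorInv Module QuadraticMap

section Group

variable {G : Type*} [Group G] [Finite G]

/-- Two involutions, not conjugate even after a central twist: the conjugates of one lie in a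
subgroup containing the centralisers of the other and of the involutions of its centraliser. -/
theorem two_class (L K : Subgroup G) (Z : Set G) (hone : (1 : G) ∈ Z)
    (hZ : ∀ z ∈ Z, ∀ g ∈ L, g * z = z * g) {i x : G} (hiL : i ∈ L) (hxL : x ∈ L)
    (hii : i * i = 1) (hxx : x * x = 1) (hi : ∀ g ∈ L, g * i = i * g → g ∈ K)
    (hc : ∀ c ∈ L, c ∈ K → c * c = 1 → c * i = i * c → c ∈ Z ∨ ∀ g ∈ L, g * c = c * g → g ∈ K)
    (h0 : ∀ z ∈ Z, ∀ g ∈ L, g * x ≠ i * z * g)
    (h1 : ∀ z ∈ Z, z ≠ 1 → (∀ g ∈ L, g * i ≠ i * z * g) ∨ ∀ g ∈ L, g * x ≠ x * z * g)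
    {g : G} (hg : g ∈ L) : g * x * g⁻¹ ∈ K := by
  classical
  set j := g * x * g⁻¹ with hj
  have hjL : j ∈ L := L.mul_mem (L.mul_mem hg hxL) (L.inv_mem hg)
  have hjj : j * j = 1 := by
    rw [hj, mul_assoc (g * x), ← mul_assoc g⁻¹, ← mul_assoc g⁻¹, inv_mul_cancel, one_mul,
      ← mul_assoc, mul_assoc g, hxx, mul_one, mul_inv_cancel]
  have hgx : g * x = j * g := by rw [hj, inv_mul_cancel_right]
  set m := i * j with hm
  have him : i * m * i = m⁻¹ := by
    rw [hm, ← mul_assoc, hii, one_mul, eq_inv_iff_mul_eq_one]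
    rw [mul_assoc, ← mul_assoc i i, hii, one_mul, hjj]
  have hmp : ∀ k : ℕ, i * m ^ k * i = (m ^ k)⁻¹ := by
    intro k
    induction k with
    | zero => rw [pow_zero, mul_one, hii, inv_one]
    | succ k ih =>
      rw [pow_succ, _root_.mul_inv_rev, ← ih, ← him]
      have hcom : m ^ k * m = m * m ^ k := (Commute.pow_self m k).eq
      rw [hcom]
      simp only [mul_assoc]
      rw [← mul_assoc i i, hii, one_mul]
  have hflip : ∀ k : ℕ, m ^ k * i = i * (m ^ k)⁻¹ := fun k => by
    rw [← hmp, ← mul_assoc, ← mul_assoc, hii, one_mul]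
  have hju : ∀ k : ℕ, m ^ k * i * (m ^ k)⁻¹ = i * (m ^ (2 * k))⁻¹ := fun k => by
    rw [hflip, mul_assoc, ← _root_.mul_inv_rev, ← pow_add, two_mul]
  have hmL : m ∈ L := L.mul_mem hiL hjL
  have hij : j = i * m := by rw [hm, ← mul_assoc, hii, one_mul]
  -- the least exponent
  set N := orderOf m with hN
  have hmN : m ^ N = 1 := pow_orderOf_eq_one m
  have hNpos : 0 < N := orderOf_pos m
  rcases Nat.even_or_odd N with ⟨k, hk⟩ | ⟨l, hl⟩
  · set c := m ^ k with hc'
    have hcc : c * c = 1 := by rw [hc', ← pow_add, ← hk, hmN]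
    have hcL : c ∈ L := L.pow_mem hmL k
    have hcinv : c⁻¹ = c := inv_eq_of_mul_eq_one_right hcc
    have hci : c * i = i * c := by rw [hc', hflip, ← hc', hcinv]
    have hcm : c * m = m * c := by rw [hc']; exact (Commute.pow_self m k).eq
    have hcj : c * j = j * c := by rw [hij, ← mul_assoc, hci, mul_assoc, hcm, ← mul_assoc]
    have hcK : c ∈ K := hi c hcL hci
    rcases hc c hcL hcK hcc hci with hcZ | hgood
    · exfalso
      rcases Nat.even_or_odd k with ⟨r, hr⟩ | ⟨r, hr⟩
      · have hc1 : c ≠ 1 := fun h => by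
          have hdvd : N ∣ k := hN ▸ orderOf_dvd_of_pow_eq_one h
          have := Nat.le_of_dvd (by omega) hdvd
          omega
        set u := m ^ r
        have huL : u ∈ L := L.pow_mem hmL r
        have hu2 : m ^ (2 * r) = c := by rw [hc', hr, two_mul]
        have hui : u * i = i * c * u := by
          have h := hju r
          rw [hu2, hcinv] at h
          rw [← h, inv_mul_cancel_right]
        have hum : u * m = m * u := (Commute.pow_self m r).eq
        rcases h1 c hcZ hc1 with h | h
        · exact h u huL hui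
        · refine h (g⁻¹ * u * g) (L.mul_mem (L.mul_mem (L.inv_mem hg) huL) hg) ?_
          have huj : u * j = j * c * u := by
            rw [hij, ← mul_assoc, hui, mul_assoc (i * c), hum, ← mul_assoc, mul_assoc i c m, hcm,
              ← mul_assoc]
          have hgc : g * c * g⁻¹ = c := by rw [hZ c hcZ g hg, mul_inv_cancel_right]
          have hgx' : x = g⁻¹ * j * g := by rw [hj]; group
          calc g⁻¹ * u * g * x = g⁻¹ * (u * j) * g := by rw [hgx']; group
            _ = g⁻¹ * j * c * u * g := by rw [huj]; group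
            _ = g⁻¹ * j * (g * c * g⁻¹) * u * g := by rw [hgc]
            _ = x * c * (g⁻¹ * u * g) := by rw [hgx']; group
      · set m' := m * c with hm'
        have hmc : Commute m c := hcm.symm
        have hpow : m' ^ k = 1 := by
          rw [hm', hmc.mul_pow, ← hc', hr, pow_succ, pow_mul, _root_.sq, hcc, one_pow, one_mul, hcc]
        set u := m' ^ r with hu
        have hu' : u = m ^ r * c ^ r := hmc.mul_pow r
        have huL : u ∈ L := L.pow_mem (L.mul_mem hmL hcL) r
        have hui : u * i * u⁻¹ = i * (m' ^ (2 * r))⁻¹ := by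
          have hcri : c ^ r * i = i * c ^ r := (Commute.pow_left hci r).eq
          rw [hu', _root_.mul_inv_rev, hm', hmc.mul_pow]
          have hcr : (c ^ r)⁻¹ = c ^ r := by rw [← inv_pow, hcinv]
          have hc2r : c ^ (2 * r) = 1 := by rw [pow_mul, _root_.sq, hcc, one_pow]
          rw [hcr, hc2r, mul_one, ← hju r, mul_assoc (m ^ r) (c ^ r) i, hcri]
          simp only [mul_assoc]
          rw [← mul_assoc (c ^ r) (c ^ r), ← pow_add, ← two_mul, hc2r, one_mul]
        have hinv : (m' ^ (2 * r))⁻¹ = m' := by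
          refine inv_eq_of_mul_eq_one_right ?_
          rw [← pow_succ, ← hr, hpow]
        rw [hinv, hm', ← mul_assoc, ← hij] at hui
        refine h0 c hcZ (u⁻¹ * g) (L.mul_mem (L.inv_mem huL) hg) ?_
        have hucI : u⁻¹ * c = c * u⁻¹ := hZ c hcZ u⁻¹ (L.inv_mem huL)
        have hjc : j = u * i * u⁻¹ * c := by
          rw [hui, mul_assoc, hcc, mul_one]
        calc u⁻¹ * g * x = u⁻¹ * j * g := by rw [mul_assoc, hgx, ← mul_assoc]
          _ = i * (u⁻¹ * c) * g := by rw [hjc]; group
          _ = i * c * (u⁻¹ * g) := by rw [hucI]; group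
    · have := hgood j hjL hcj.symm
      exact this
  · exfalso
    set u := m ^ l
    have huL : u ∈ L := L.pow_mem hmL l
    have hui : u * i * u⁻¹ = j := by
      rw [hju, hij]
      congr 1
      refine inv_eq_of_mul_eq_one_right ?_
      rw [← pow_succ, ← hl, hmN]
    refine h0 1 hone (u⁻¹ * g) (L.mul_mem (L.inv_mem huL) hg) ?_
    rw [mul_one, mul_assoc, hgx, ← hui]
    simp only [mul_assoc, inv_mul_cancel_left]

end Group

variable {F : Type*} [Field F]

/-- A pair of sign vectors. -/
abbrev Tbl := (Fin 3 → Bool) × (Fin 4 → Bool)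

/-- The product of tables. -/
def tmul (s t : Tbl) : Tbl := (fun i => xor (s.1 i) (t.1 i), fun i => xor (s.2 i) (t.2 i))

/-- The trivial table. -/
def t0 : Tbl := (fun _ => false, fun _ => false)

/-- The tables generated by a list and the central one. -/
def spn : List Tbl → List Tbl
  | [] => [t0, (fun _ => false, fun _ => true)]
  | g :: l => spn l ++ (spn l).map (tmul g)

/-- Two lists of tables have equally many vectors of each pattern. -/
def CntEq {n : ℕ} (t t' : Fin n → Tbl) : Prop :=
  ∀ c : Fin n → Bool,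
    (Finset.univ.filter fun i => ∀ r, Frame.tbl (t r).1 (t r).2 i = c r).card =
      (Finset.univ.filter fun i => ∀ r, Frame.tbl (t' r).1 (t' r).2 i = c r).card

instance {n : ℕ} (t t' : Fin n → Tbl) : Decidable (CntEq t t') := by
  unfold CntEq; infer_instance

namespace Frame

variable {S : OForm F} (R : Frame S)

/-- The diagonal element of a table. -/
noncomputable def E (t : Tbl) : GL (Fin 3 × Fin 4) F := R.D t.1 t.2

theorem E_mul (s t : Tbl) : R.E s * R.E t = R.E (tmul s t) := R.D_mul _ _ _ _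

theorem E_t0 : R.E t0 = 1 := R.D_zero

theorem E_sq (t : Tbl) : R.E t * R.E t = 1 := R.D_sq _ _

theorem E_comm (s t : Tbl) : R.E s * R.E t = R.E t * R.E s := R.D_comm _ _ _ _

theorem act_E_neg (z : V F 3 4) : act (R.E (fun _ => false, fun _ => true)) z = -z := by
  conv_lhs => rw [← R.expand z]
  conv_rhs => rw [← R.expand z]
  rw [map_sum, ← Finset.sum_neg_distrib]
  exact Finset.sum_congr rfl fun i _ => by
    rw [map_smul, E, R.D_p]
    simp [tbl]

theorem comm_spn {h : GL (Fin 3 × Fin 4) F} : ∀ (l : List Tbl),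
    (∀ t ∈ l, h * R.E t = R.E t * h) → ∀ s ∈ spn l, h * R.E s = R.E s * h
  | [], _, s, hs => by
    simp only [spn, List.mem_cons, List.not_mem_nil, or_false] at hs
    rcases hs with rfl | rfl
    · rw [R.E_t0, mul_one, one_mul]
    · refine gl_ext fun z => ?_
      show act (h * _) z = act (_ * h) z
      rw [act_mul, act_mul, R.act_E_neg, R.act_E_neg, map_neg]
  | g :: l, hl, s, hs => by
    have ih := comm_spn l (fun t ht => hl t (List.mem_cons_of_mem _ ht))
    simp only [spn, List.mem_append, List.mem_map] at hs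
    rcases hs with hs | ⟨t, ht, rfl⟩
    · exact ih s hs
    · rw [← R.E_mul, ← mul_assoc, hl g List.mem_cons_self, mul_assoc, ih t ht, mul_assoc]

theorem E_spn (R' : Frame S) : ∀ (l : List Tbl),
    (∀ t ∈ l, R'.E t = R.E t) → ∀ s ∈ spn l, R'.E s = R.E s
  | [], _, s, hs => by
    simp only [spn, List.mem_cons, List.not_mem_nil, or_false] at hs
    rcases hs with rfl | rfl
    · rw [R.E_t0, R'.E_t0]
    · refine gl_ext fun z => ?_
      show act _ z = act _ z
      rw [R.act_E_neg, R'.act_E_neg]
  | g :: l, hl, s, hs => by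
    have ih := E_spn R' l (fun t ht => hl t (List.mem_cons_of_mem _ ht))
    simp only [spn, List.mem_append, List.mem_map] at hs
    rcases hs with hs | ⟨t, ht, rfl⟩
    · exact ih s hs
    · rw [← R.E_mul, ← R'.E_mul, hl g List.mem_cons_self, ih t ht]

/-- Diagonal elements with different counts are not conjugate. -/
theorem cnt_of_conj (R' : Frame S) {h : GL (Fin 3 × Fin 4) F} {n : ℕ} {t t' : Fin n → Tbl}
    (hh : ∀ r, h * R.E (t r) = R'.E (t' r) * h) : CntEq t t' :=
  fun c => R.card_eq R' t t' hh c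

theorem E_turn (k : Fin 3) : R.E (tv k, fun _ => false) = kr (S.turn (R.e k)) 1 :=
  (R.kr_turn k).symm

theorem E_left_congr (R' : Frame S) (hl : R'.l = R.l) (b : Fin 4 → Bool) :
    R'.E (fun _ => false, b) = R.E (fun _ => false, b) :=
  R.D_congr R' (fun x => by rw [sgnMap_zero S.sym₁ R'.he, sgnMap_zero S.sym₁ R.he])
    (fun x => by rw [hl])

theorem E_perm (σ : Equiv.Perm (Fin 3)) (τ : Equiv.Perm (Fin 4)) (t : Tbl) :
    (R.perm σ τ).E (fun i => t.1 (σ i), fun i => t.2 (τ i)) = R.E t := R.D_perm σ τ _ _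

theorem E_isom (t : Tbl) : R.E t ∈ Cfsg.isometryGroup F ⇑S.Q := R.D_form _ _

end Frame

variable {S : OForm F}

/-- An element carrying half-turns to half-turns lies in the tensor stabiliser. -/
theorem kron_of_turns [Fintype F] {h : GL (Fin 3 × Fin 4) F} (hQ : ∀ z, S.Q (act h z) = S.Q z)
    (hh : ∀ v, S.f₁ v v ≠ 0 → ∃ v', S.f₁ v' v' ≠ 0 ∧
      h * kr (S.turn v) 1 = kr (S.turn v') 1 * h) :
    h ∈ Geo.kroneckerSubgroup 3 4 F := by
  classical
  have h2 := S.two
  -- contraction against a vector of `F³`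
  let ctr1 : ∀ y : Fin 3 → F, V F 3 4 →ₗ[F] (Fin 4 → F) := fun y =>
    LinearMap.pi fun j => (S.f₁ y).comp (TensorInv.col j)
  have hctr : ∀ y w x, ctr1 y (emb w x) = S.f₁ y x • w := fun y w x => funext fun j => by
    simp only [ctr1, LinearMap.pi_apply, LinearMap.comp_apply, Pi.smul_apply, smul_eq_mul]
    rw [show TensorInv.col j (emb w x) = w j • x from funext fun i => by
      simp [TensorInv.col, emb, mul_comm], map_smul, smul_eq_mul, mul_comm]
  have hpol : ∀ z z', polar S.Q (act h z) (act h z') = polar S.Q z z' := fun z z' => by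
    simp only [QuadraticMap.polar, ← map_add, hQ]
  -- the image of `v ⊗ F⁴`
  have himg : ∀ v, S.f₁ v v ≠ 0 → ∃ (v' : Fin 3 → F) (A : (Fin 4 → F) →ₗ[F] (Fin 4 → F)),
      S.f₁ v' v' ≠ 0 ∧ ∀ w, act h (emb w v) = emb (A w) v' := by
    intro v hv
    obtain ⟨v', hv', hconj⟩ := hh v hv
    obtain ⟨R, rfl⟩ := exists_frame S hv'
    refine ⟨_, (S.f₁ (R.e 0) (R.e 0))⁻¹ • (ctr1 (R.e 0)) ∘ₗ act h ∘ₗ embR v, hv', fun w => ?_⟩
    have hfix : act (kr (S.turn (R.e 0)) 1) (act h (emb w v)) = act h (emb w v) := by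
      rw [← act_mul, ← hconj, act_mul, act_kr, act_one, S.turn_apply, mul_div_assoc, div_self hv,
        mul_one, two_smul, add_sub_cancel_right]
    rw [R.kr_turn] at hfix
    obtain ⟨w', hw'⟩ : ∃ w', act h (emb w v) = emb w' (R.e 0) := by
      refine ⟨∑ m, (polar S.Q (R.p (0, m)) (act h (emb w v)) /
        polar S.Q (R.p (0, m)) (R.p (0, m))) • R.l m, ?_⟩
      conv_lhs => rw [← R.expand (act h (emb w v))]
      rw [Fintype.sum_prod_type, Fin.sum_univ_three]
      have hz : ∀ k : Fin 3, k ≠ 0 → ∀ m, polar S.Q (R.p (k, m)) (act h (emb w v)) = 0 :=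
        fun k hk m => R.D_coord (c := false) (by rw [sig_false, one_smul]; exact hfix)
          (by simp [Frame.tbl, Frame.tv, hk])
      have hz1 := hz 1 (by decide)
      have hz2 := hz 2 (by decide)
      simp only [hz1, hz2, zero_div, zero_smul, Finset.sum_const_zero, add_zero]
      show _ = embR (R.e 0) _
      rw [map_sum]
      exact Finset.sum_congr rfl fun m _ => by rw [map_smul]; rfl
    rw [hw']
    refine congrArg (fun u => emb u (R.e 0)) ?_
    show _ = (S.f₁ (R.e 0) (R.e 0))⁻¹ • ctr1 (R.e 0) (act h (emb w v))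
    rw [hw', hctr, smul_smul, inv_mul_cancel₀ hv', one_smul]
  obtain ⟨v₀, hv₀⟩ := S.sym₁.exists_aniso (by norm_num)
  obtain ⟨e, he, -⟩ := exists_basis_from S.sym₁ hv₀
  choose a A ha hA using fun j => himg (e j) (he.aniso j)
  have hAinj : ∀ j, Function.Injective (A j) := fun j w u hwu => by
    have hne : e j ≠ 0 := fun h0 => he.aniso j (by rw [h0, map_zero])
    obtain ⟨i, hi⟩ := Function.ne_iff.mp hne
    have := act_injective h (show act h (emb w (e j)) = act h (emb u (e j)) by rw [hA, hA, hwu])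
    exact funext fun m => mul_left_cancel₀ hi (congrFun this (i, m))
  obtain ⟨u₀, hu₀⟩ := S.sym₂.exists_aniso (by norm_num)
  have hu0 : u₀ ≠ 0 := fun h0 => hu₀ (by rw [h0, map_zero])
  have horth : ∀ j k, j ≠ k → S.f₁ (a j) (a k) = 0 := by
    intro j k hjk
    by_contra hne
    have hz : A j u₀ = 0 := S.sym₂.nd _ fun y => by
      obtain ⟨u, hu⟩ := LinearMap.injective_iff_surjective.1 (hAinj k) y
      have hp := hpol (emb u₀ (e j)) (emb u (e k))
      rw [hA, hA, S.polar_emb, S.polar_emb, he.orth j k hjk, zero_mul, hu] at hp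
      exact (mul_eq_zero.1 hp).resolve_left hne
    exact hu0 (hAinj j (by rw [hz, map_zero]))
  -- the maps of `F⁴` are proportional
  have hprop : ∀ k, ∃ β : F, ∀ w, A k w = β • A 0 w := by
    intro k
    by_cases hk : (0 : Fin 3) = k
    · exact ⟨1, fun w => by rw [one_smul, hk]⟩
    obtain ⟨μ, hμ, hv⟩ : ∃ μ : F, μ ≠ 0 ∧ S.f₁ (e 0 + μ • e k) (e 0 + μ • e k) ≠ 0 := by
      have hval : ∀ μ : F, S.f₁ (e 0 + μ • e k) (e 0 + μ • e k) =
          S.f₁ (e 0) (e 0) + μ * μ * S.f₁ (e k) (e k) := fun μ => by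
        simp [he.orth 0 k hk, he.orth k 0 (Ne.symm hk)]
        ring
      by_cases h1 : S.f₁ (e 0) (e 0) + S.f₁ (e k) (e k) = 0
      · obtain ⟨μ, hμ⟩ : ∃ μ : F, μ ∉ ({0, 1, -1} : Finset F) := by
          by_contra hc
          push Not at hc
          have := Finset.card_le_card (fun x (_ : x ∈ (Finset.univ : Finset F)) => hc x)
          have h5 := S.five
          rw [Nat.card_eq_fintype_card] at h5
          rw [Finset.card_univ] at this
          have := this.trans Finset.card_le_three
          omega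
        simp only [Finset.mem_insert, Finset.mem_singleton, not_or] at hμ
        refine ⟨μ, hμ.1, fun h0 => ?_⟩
        rw [hval] at h0
        have : (μ * μ - 1) * S.f₁ (e k) (e k) = 0 := by linear_combination h0 - h1
        rcases mul_self_eq_one_iff.1 (sub_eq_zero.1 ((mul_eq_zero.1 this).resolve_right (he.aniso k)))
          with h | h
        · exact hμ.2.1 h
        · exact hμ.2.2 h
      · exact ⟨1, one_ne_zero, by rw [hval, one_mul, one_mul]; exact h1⟩
    obtain ⟨a', A', ha', hA'⟩ := himg _ hv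
    have key : ∀ w, emb (A' w) a' = emb (A 0 w) (a 0) + μ • emb (A k w) (a k) := fun w => by
      rw [← hA', ← hA, ← hA, map_add, map_smul, map_add, map_smul]
    have k0 : ∀ w, S.f₁ (a 0) a' • A' w = S.f₁ (a 0) (a 0) • A 0 w := fun w => by
      have := congrArg (ctr1 (a 0)) (key w)
      rwa [map_add, map_smul, hctr, hctr, hctr, horth 0 k hk, zero_smul, smul_zero, add_zero]
        at this
    have kk : ∀ w, S.f₁ (a k) a' • A' w = (μ * S.f₁ (a k) (a k)) • A k w := fun w => by
      have := congrArg (ctr1 (a k)) (key w)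
      rwa [map_add, map_smul, hctr, hctr, hctr, horth k 0 (Ne.symm hk), zero_smul, zero_add,
        smul_smul] at this
    have hc : S.f₁ (a 0) a' ≠ 0 := fun h0 => by
      have := k0 u₀
      rw [h0, zero_smul] at this
      exact hu0 (hAinj 0 (by rw [(smul_eq_zero.1 this.symm).resolve_left (ha 0), map_zero]))
    refine ⟨(μ * S.f₁ (a k) (a k))⁻¹ * S.f₁ (a k) a' *
      ((S.f₁ (a 0) a')⁻¹ * S.f₁ (a 0) (a 0)), fun w => ?_⟩
    rw [mul_smul, mul_smul, mul_smul, ← k0, smul_smul (S.f₁ (a 0) a')⁻¹, inv_mul_cancel₀ hc,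
      one_smul, kk, smul_smul, inv_mul_cancel₀ (mul_ne_zero hμ (ha k)), one_smul]
  choose β hβ using hprop
  let G : (Fin 3 → F) →ₗ[F] (Fin 3 → F) :=
    ∑ j, ((β j * (S.f₁ (e j) (e j))⁻¹) • S.f₁ (e j)).smulRight (a j)
  have hG : ∀ j, G (e j) = β j • a j := fun j => by
    simp only [G, LinearMap.sum_apply, LinearMap.smulRight_apply, LinearMap.smul_apply, smul_eq_mul]
    rw [Finset.sum_eq_single j]
    · rw [mul_assoc, inv_mul_cancel₀ (he.aniso j), mul_one]
    · intro i _ hi
      rw [he.orth i j hi, mul_zero, zero_smul]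
    · simp
  have hmain : ∀ w x, act h (emb w x) = emb (A 0 w) (G x) := fun w x => by
    have hexp : ((act h) ∘ₗ (emb w)) x = ((emb (A 0 w)) ∘ₗ G) x := by
      have hsum : x = ∑ j, ((S.f₁ (e j) (e j))⁻¹ * S.f₁ (e j) x) • e j := by
        refine sub_eq_zero.1 (S.sym₁.eq_zero_of_basis he fun i => ?_)
        rw [map_sub, map_sum, Finset.sum_eq_single i]
        · rw [map_smul, smul_eq_mul, mul_comm _ (S.f₁ (e i) x), mul_assoc,
            inv_mul_cancel₀ (he.aniso i), mul_one, sub_self]
        · intro j _ hj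
          rw [map_smul, he.orth i j (Ne.symm hj), smul_zero]
        · simp
      rw [hsum, map_sum, map_sum]
      refine Finset.sum_congr rfl fun j _ => ?_
      rw [LinearMap.comp_apply, LinearMap.comp_apply, map_smul, map_smul, hA, map_smul, hG, map_smul,
        map_smul, hβ j, emb_smul_left]
    exact hexp
  have hGinj : Function.Injective G := fun x y hxy => by
    have hne : u₀ ≠ 0 := hu0
    exact emb_injective hne (act_injective h (by rw [hmain, hmain, hxy]))
  let eG := LinearEquiv.ofInjectiveEndo G hGinj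
  let eA := LinearEquiv.ofInjectiveEndo (A 0) (hAinj 0)
  refine (show h = kr (mkGL G eG.symm.toLinearMap (fun x => eG.apply_symm_apply x)
      (fun x => eG.symm_apply_apply x))
    (mkGL (A 0) eA.symm.toLinearMap (fun x => eA.apply_symm_apply x)
      (fun x => eA.symm_apply_apply x)) from gl_ext_emb fun w x => ?_) ▸ kr_mem _ _
  rw [act_kr, hmain, act_apply, act_apply]
  exact (congrArg₂ (fun u y => emb u y) (mkGL_mulVec _ _ _ _ w) (mkGL_mulVec _ _ _ _ x)).symm

end Cfsg.Agent.OO34
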