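import Cfsg.Agent.OO34.RootFull

/-!
A group between the tensor stabiliser in `Ω` and `Ω` with a root element is `Ω` (helper88).
-/

set_option autoImplicit false
set_option linter.unusedSectionVars false
set_option linter.unusedSimpArgs false

namespace Cfsg.Agent.OO34

open Matrix Cfsg.Agent.MaxSub Cfsg.Agent.TensorMax Cfsg.Agent.TensorInv Module QuadraticMap

variable {F : Type*} [Field F] [Fintype F] {S : OForm F}
  {H : Subgroup (GL (Fin 3 × Fin 4) F)}

/-- `H` as a group of linear isometries. -/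
noncomputable def orthOf (S : OForm F) (H : Subgroup (GL (Fin 3 × Fin 4) F)) :
    Subgroup (UnitaryOrthogonal.orth S.Q) :=
  (H.comap (Cfsg.isometryGroup F ⇑S.Q).subtype).map
    (UnitaryOrthogonal.isometryGroupEquiv S.Q (f := ⇑S.Q) (fun _ => rfl)).toMonoidHom

theorem mem_orthOf (O : Over S H) {g : GL (Fin 3 × Fin 4) F} (hg : g ∈ H)
    {k : UnitaryOrthogonal.orth S.Q} (h : ∀ v x, act g (emb v x) = k.1 (emb v x)) :
    k ∈ orthOf S H := by
  refine ⟨⟨g, S.mem_isometry_iff.2 (S.Q_act (O.le hg))⟩, hg, UnitaryOrthogonal.orth_ext fun z => ?_⟩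
  exact ext_emb (f := act g) (g := k.1.toLinearMap) h z

theorem eich_emb_mem (O : Over S H) {n : Fin 4 → F} (hn : S.f₂ n n = 0) (hR : AllRt S H n)
    {a : Fin 3 → F} (ha : S.f₁ a a = 0) (y : Fin 3 → F) :
    UnitaryOrthogonal.eich S.Q (emb n a) (emb n y) ∈ orthOf S H := by
  obtain ⟨g, hg, e⟩ := hR a y
  refine mem_orthOf O hg fun v x => ?_
  rw [e, UnitaryOrthogonal.eich_apply (by rw [S.Q_emb, ha, zero_mul, zero_div])
    (by rw [S.polar_emb, hn, mul_zero]), S.polar_emb, S.polar_emb, S.Q_emb, hn,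
    OForm.wedge_apply]
  simp only [map_sub, map_smul, mul_zero, zero_div, zero_mul, zero_smul, sub_zero]
  module

/-- `eich u z` lies in `H`, for `z` orthogonal to `u`. -/
def Good (S : OForm F) (H : Subgroup (GL (Fin 3 × Fin 4) F)) (u z : V F 3 4) : Prop :=
  polar S.Q u z = 0 ∧ UnitaryOrthogonal.eich S.Q u z ∈ orthOf S H

namespace Good

variable {u z z' : V F 3 4}

theorem add (hu : S.Q u = 0) (h : Good S H u z) (h' : Good S H u z') : Good S H u (z + z') :=
  ⟨by rw [polar_add_right, h.1, h'.1, add_zero],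
    by rw [← UnitaryOrthogonal.eich_mul hu h.1 h'.1]; exact mul_mem h.2 h'.2⟩

theorem neg (hu : S.Q u = 0) (h : Good S H u z) : Good S H u (-z) :=
  ⟨by rw [polar_neg_right, h.1, neg_zero],
    by rw [← UnitaryOrthogonal.eich_inv hu h.1]; exact inv_mem h.2⟩

theorem sub (hu : S.Q u = 0) (h : Good S H u z) (h' : Good S H u z') : Good S H u (z - z') := by
  rw [sub_eq_add_neg]
  exact h.add hu (h'.neg hu)

theorem zero : Good S H u 0 :=
  ⟨by rw [polar_zero_right], by rw [UnitaryOrthogonal.eich_zero]; exact one_mem _⟩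

/-- The commutator of a good `z` with an element fixing `u`. -/
theorem shift (hu : S.Q u = 0) {k : UnitaryOrthogonal.orth S.Q} (hk : k ∈ orthOf S H)
    (hku : k.1 u = u) (h : Good S H u z) (hkz : k.1 z = z + z') : Good S H u z' := by
  have hp : polar S.Q u z' = 0 := by
    have := UnitaryOrthogonal.map_polar k u z
    rwa [hku, hkz, polar_add_right, h.1, zero_add] at this
  refine ⟨hp, ?_⟩
  have e : k * UnitaryOrthogonal.eich S.Q u z * k⁻¹ =
      UnitaryOrthogonal.eich S.Q u z * UnitaryOrthogonal.eich S.Q u z' := by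
    rw [UnitaryOrthogonal.conj_eich, hku, hkz, UnitaryOrthogonal.eich_mul hu h.1 hp]
  rw [← inv_mul_cancel_left (UnitaryOrthogonal.eich S.Q u z) (UnitaryOrthogonal.eich S.Q u z'), ← e]
  exact mul_mem (inv_mem h.2) (mul_mem (mul_mem hk h.2) (inv_mem hk))

end Good

section

variable (O : Over S H) (hall : ∀ m, m ≠ 0 → S.f₂ m m = 0 → AllRt S H m)
include O hall

theorem good_same {n : Fin 4 → F} (hn0 : n ≠ 0) (hn : S.f₂ n n = 0) {a : Fin 3 → F}
    (ha : S.f₁ a a = 0) (y : Fin 3 → F) : Good S H (emb n a) (emb n y) :=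
  ⟨by rw [S.polar_emb, hn, mul_zero], eich_emb_mem O hn (hall n hn0 hn) ha y⟩

/-- A singular centre and a vector on another singular line. -/
theorem good_other {a c d : Fin 3 → F} (R : S.Frame a c d) {n m : Fin 4 → F} (hn : S.f₂ n n = 0)
    (hm : S.f₂ m m = 0) (hnm : S.f₂ n m ≠ 0) {y : Fin 3 → F} (hy : S.f₁ a y = 0) :
    Good S H (emb n a) (emb m y) := by
  have hn0 : n ≠ 0 := fun e => hnm (by simp [e])
  have hm0 : m ≠ 0 := fun e => hnm (by simp [e])
  have hu : S.Q (emb n a) = 0 := by rw [S.Q_emb, hn, mul_zero, zero_div]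
  set l := S.f₂ n m with hl
  have hdd := R.dd
  have hmn : S.f₂ m n = l := S.sym₂.symm n m
  -- a pair `x`, `x'`
  obtain ⟨x, x', hyx, hax', hx'x⟩ : ∃ x x', S.f₁ y x = 0 ∧ S.f₁ x' a = 0 ∧ S.f₁ x' x * l = 1 := by
    set α := S.f₁ c y
    set r := S.f₁ d y / S.f₁ d d
    have hy' : y = α • a + r • d := by
      conv_lhs => rw [R.decomp S y, hy, zero_smul, add_zero]
    by_cases hr : r = 0
    · refine ⟨d, (S.f₁ d d * l)⁻¹ • d, ?_, ?_, ?_⟩
      · rw [hy', hr]; simp [R.ad]
      · simp [S.sym₁.symm a d, R.ad]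
      · rw [map_smul, LinearMap.smul_apply, smul_eq_mul]
        field_simp
    · refine ⟨c - (α / (r * S.f₁ d d)) • d, l⁻¹ • a, ?_, ?_, ?_⟩
      · rw [hy']
        simp only [map_add, map_sub, map_smul, LinearMap.add_apply, LinearMap.smul_apply,
          smul_eq_mul, R.ac, R.ad, S.sym₁.symm c d, R.cd, mul_zero, mul_one, sub_zero, zero_sub,
          add_zero, zero_add]
        field_simp
        ring
      · simp [R.aa]
      · simp only [map_sub, map_smul, LinearMap.smul_apply, smul_eq_mul, R.ac, R.ad, mul_zero,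
          sub_zero, mul_one]
        exact inv_mul_cancel₀ hnm
  obtain ⟨g, hg, e⟩ := hall m hm0 hm x' y
  obtain ⟨k, hk, hkx⟩ : ∃ k ∈ orthOf S H, ∀ p,
      k.1 (emb n p) = emb n p + emb m (l • (S.f₁ x' p • y - S.f₁ y p • x')) := by
    let k₀ : Cfsg.isometryGroup F ⇑S.Q := ⟨g, S.mem_isometry_iff.2 (S.Q_act (O.le hg))⟩
    refine ⟨UnitaryOrthogonal.isometryGroupEquiv S.Q (f := ⇑S.Q) (fun _ => rfl) k₀,
      ⟨k₀, hg, rfl⟩, fun p => ?_⟩
    show act g (emb n p) = _
    rw [e, hmn, OForm.wedge_apply, map_smul]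
  refine (good_same O hall hn0 hn R.aa x).shift hu hk ?_ ?_
  · rw [hkx, hax', S.sym₁.symm a y, hy]
    simp
  · rw [hkx, hyx, zero_smul, sub_zero, smul_smul, mul_comm, hx'x, one_smul]

/-- A singular centre and a vector in the anisotropic plane, second factor orthogonal. -/
theorem good_plane {a c d : Fin 3 → F} (R : S.Frame a c d) {n n' t : Fin 4 → F} (P : S.Hyp n n')
    (ht : S.f₂ n t = 0) (ht' : S.f₂ n' t = 0) {y : Fin 3 → F} (hy : S.f₁ a y = 0) :
    Good S H (emb n a) (emb t y) := by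
  have hu : S.Q (emb n a) = 0 := by rw [S.Q_emb, P.nn, mul_zero, zero_div]
  have h2 := S.two
  set q := S.f₂ t t / 2
  have e : emb t y = emb (n' + t - q • n) y - emb n' y + q • emb n y := by
    rw [emb_sub_left, emb_add_left, emb_smul_left]; abel
  have hs : q • emb n y = emb n (q • y) := (map_smul _ _ _).symm
  rw [e, hs]
  refine ((good_other O hall R P.nn ?_ ?_ hy).sub hu (good_other O hall R P.nn P.n'n' ?_ hy)).add hu
    (good_same O hall P.ne P.nn R.aa _)
  · simp only [map_add, map_sub, map_smul, LinearMap.add_apply, LinearMap.sub_apply,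
      LinearMap.smul_apply, smul_eq_mul, P.nn, P.n'n', P.nn', P.n'n, ht, ht',
      S.sym₂.symm n t, S.sym₂.symm n' t, q]
    field_simp
    ring
  · simp [P.nn, P.nn', ht]
  · rw [P.nn']; exact one_ne_zero

theorem full {a c d : Fin 3 → F} (R : S.Frame a c d) {n n' : Fin 4 → F} (P : S.Hyp n n') :
    OrthStab.Full (orthOf S H) (emb n a) := by
  have R' := OForm.Frame.symm S R
  have hu : S.Q (emb n a) = 0 := by rw [S.Q_emb, P.nn, mul_zero, zero_div]
  have hplane : ∀ t, S.f₂ n t = 0 → S.f₂ n' t = 0 → ∀ x, Good S H (emb n a) (emb t x) := by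
    intro t ht ht' x
    have e : emb t x = emb t (S.f₁ c x • a + (S.f₁ d x / S.f₁ d d) • d) +
        emb (S.f₁ a x • t) c := by
      rw [emb_smul_comm, ← map_add]
      congr 1
      conv_lhs => rw [R.decomp S x]
      abel
    rw [e]
    refine (good_plane O hall R P ht ht' (by simp [R.aa, R.ad])).add hu ?_
    -- a singular vector times the other singular vector of the frame
    set t₁ := S.f₁ a x • t
    have h1 : S.f₂ n t₁ = 0 := by simp [t₁, ht]
    have h2 : S.f₂ n' t₁ = 0 := by simp [t₁, ht']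
    have hc : S.Q (emb n c) = 0 := by rw [S.Q_emb, P.nn, mul_zero, zero_div]
    have hK := good_plane O hall R' P h1 h2 R.cc
    refine (good_other O hall R P.nn P.n'n' (by rw [P.nn']; exact one_ne_zero) R.aa).shift hu
      hK.2 ?_ ?_
    · rw [UnitaryOrthogonal.eich_apply hc hK.1, S.Q_emb, R.cc, S.polar_emb, S.polar_emb, P.nn,
        S.sym₂.symm n t₁, h1]
      simp
    · rw [UnitaryOrthogonal.eich_apply hc hK.1, S.Q_emb, R.cc, S.polar_emb, S.polar_emb, P.nn',
        S.sym₂.symm n' t₁, h2, R'.ac]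
      simp
  intro z hz
  have hz' : S.f₁ a (S.pr n z) = 0 := by
    rw [polar_comm, S.polar_pr] at hz
    rw [S.sym₁.symm]; exact hz
  let t : Fin 4 → (Fin 4 → F) := fun j =>
    Pi.single j 1 - S.f₂ n' (Pi.single j 1) • n - S.f₂ n (Pi.single j 1) • n'
  have hzsum : z = emb n (S.pr n' z) + emb n' (S.pr n z) + ∑ j, emb (t j) (TensorInv.col j z) := by
    conv_lhs => rw [eq_sum_emb z]
    simp only [S.pr_eq_sum, map_sum, map_smul, t, emb_sub_left, emb_smul_left,
      Finset.sum_sub_distrib]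
    abel
  suffices Good S H (emb n a) z from this.2
  rw [hzsum]
  refine ((good_same O hall P.ne P.nn R.aa _).add hu
    (good_other O hall R P.nn P.n'n' (by rw [P.nn']; exact one_ne_zero) hz')).add hu ?_
  refine Finset.sum_induction _ _ (fun _ _ h h' => h.add hu h') Good.zero fun j _ => hplane _ ?_ ?_ _
  · simp [t, P.nn, P.nn']
  · simp [t, P.n'n, P.n'n']

end

/-- A group between the tensor stabiliser in `Ω` and `Ω` with a root element is `Ω`. -/
theorem omega_le_of_root {S : OForm F} {H : Subgroup (GL (Fin 3 × Fin 4) F)} (O : Over S H)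
    (hR : Root S H) : Geo.omegaGL ⇑S.Q ≤ H := by
  obtain ⟨n, hn0, hn, g, hg, hg1, hZ⟩ := hR
  obtain ⟨n', P⟩ := S.exists_hyp hn0 hn
  obtain ⟨φ, hφ, hφ0, hrt⟩ := exists_rt O P hg hg1 hZ
  have hn' := allRt_of_rt O hn hφ hφ0 hrt
  have hall : ∀ m, m ≠ 0 → S.f₂ m m = 0 → AllRt S H m := fun m hm0 hm => hn'.all O hn0 hn hm0 hm
  obtain ⟨a, c, d, R⟩ := S.exists_frame
  have hle := OrthStab.eichGroup_le_of_hypPair (M := orthOf S H) S.nd OForm.five_le
    (e := emb n a) (f := emb n' c) (by rw [S.Q_emb, hn, mul_zero, zero_div])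
    (by rw [S.Q_emb, P.n'n', mul_zero, zero_div])
    (by rw [S.polar_emb, R.ac, P.nn', one_mul]; exact one_ne_zero)
    (full O hall R P) (full O hall (OForm.Frame.symm S R) (OForm.Hyp.symm S P))
  rintro _ ⟨g₀, hg₀, rfl⟩
  obtain ⟨g₁, hg₁, e⟩ := hle ((OrthStab.mem_omega_iff S.nd OForm.five_le g₀).1 hg₀)
  rw [← (UnitaryOrthogonal.isometryGroupEquiv S.Q (f := ⇑S.Q) (fun _ => rfl)).injective e]
  exact hg₁

end Cfsg.Agent.OO34
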