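import Cfsg.Agent.OO34.Base
import Cfsg.Agent.TensorInv.Frame

/-!
Orthogonal frames of the tensor product, the elements diagonal in a frame, their membership in
`Ω`, and the invariants that forbid conjugacy of two of them (helper70).
-/

set_option autoImplicit false
set_option linter.unusedSectionVars false
set_option linter.unusedSimpArgs false

namespace Cfsg.Agent.OO34

open Matrix Cfsg.Agent.MaxSub Cfsg.Agent.TensorMax Cfsg.Agent.TensorInv Module QuadraticMap

variable {F : Type*} [Field F]

/-- The sign of a truth value. -/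
def sig (F : Type*) [Field F] (b : Bool) : F := if b then -1 else 1

@[simp] theorem sig_false : sig F false = 1 := rfl

@[simp] theorem sig_true : sig F true = -1 := rfl

theorem sig_mul_sig (a b : Bool) : sig F a * sig F b = sig F (xor a b) := by
  cases a <;> cases b <;> simp

theorem sig_sq (a : Bool) : sig F a * sig F a = 1 := by cases a <;> simp

theorem sig_inj (h2 : (2 : F) ≠ 0) {a b : Bool} (h : sig F a = sig F b) : a = b := by
  cases a <;> cases b <;> simp at h ⊢
  · exact h2 (by linear_combination h)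
  · exact h2 (by linear_combination -h)

section Signs

variable {m : ℕ} {f : (Fin m → F) →ₗ[F] (Fin m → F) →ₗ[F] F}

/-- The map with given signs on an orthogonal basis. -/
def sgnMap (f : (Fin m → F) →ₗ[F] (Fin m → F) →ₗ[F] F) (w : Fin m → (Fin m → F))
    (a : Fin m → Bool) : (Fin m → F) →ₗ[F] (Fin m → F) :=
  ∑ i, ((sig F (a i) * (f (w i) (w i))⁻¹) • f (w i)).smulRight (w i)

theorem sgnMap_apply (w : Fin m → (Fin m → F)) (a : Fin m → Bool) (x : Fin m → F) :
    sgnMap f w a x = ∑ i, (sig F (a i) * ((f (w i) (w i))⁻¹ * f (w i) x)) • w i := by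
  simp [sgnMap, LinearMap.sum_apply, mul_assoc]

variable (hf : Sym f) {w : Fin m → (Fin m → F)} (hw : Fam f w)
include hf hw

theorem sgnMap_basis (a : Fin m → Bool) (j : Fin m) : sgnMap f w a (w j) = sig F (a j) • w j := by
  rw [sgnMap_apply, Finset.sum_eq_single j]
  · rw [inv_mul_cancel₀ (hw.aniso j), mul_one]
  · intro i _ hij
    rw [hw.orth i j hij, mul_zero, mul_zero, zero_smul]
  · simp

theorem perp_sgnMap (a : Fin m → Bool) (i : Fin m) (x : Fin m → F) :
    f (w i) (sgnMap f w a x) = sig F (a i) * f (w i) x := by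
  rw [sgnMap_apply, map_sum, Finset.sum_eq_single i]
  · rw [map_smul, smul_eq_mul]
    field_simp [hw.aniso i]
  · intro j _ hj
    rw [map_smul, hw.orth i j (Ne.symm hj), smul_zero]
  · simp

theorem sgnMap_sgnMap (a : Fin m → Bool) (x : Fin m → F) :
    sgnMap f w a (sgnMap f w a x) = x := by
  refine sub_eq_zero.1 (hf.eq_zero_of_basis hw fun i => ?_)
  rw [map_sub, perp_sgnMap hf hw, perp_sgnMap hf hw, ← mul_assoc, sig_sq, one_mul, sub_self]

/-- The isometry with given signs on an orthogonal basis. -/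
noncomputable def sgn (a : Fin m → Bool) : GL (Fin m) F :=
  mkGL (sgnMap f w a) (sgnMap f w a) (sgnMap_sgnMap hf hw a) (sgnMap_sgnMap hf hw a)

theorem sgn_apply (a : Fin m → Bool) (x : Fin m → F) :
    act (sgn hf hw a) x = sgnMap f w a x := mkGL_mulVec _ _ _ _ x

theorem sgn_form (a : Fin m → Bool) (x y : Fin m → F) :
    f (act (sgn hf hw a) x) (act (sgn hf hw a) y) = f x y := by
  have h : ∀ x y, f (sgnMap f w a x) y = f x (sgnMap f w a y) := fun x y => by
    rw [sgnMap_apply, sgnMap_apply]
    simp only [map_sum, map_smul, LinearMap.sum_apply, LinearMap.smul_apply, smul_eq_mul]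
    exact Finset.sum_congr rfl fun i _ => by rw [hf.symm (w i) x]; ring
  rw [sgn_apply, sgn_apply, h, sgnMap_sgnMap hf hw]

end Signs

/-- An orthogonal frame. -/
structure Frame (S : OForm F) where
  e : Fin 3 → (Fin 3 → F)
  l : Fin 4 → (Fin 4 → F)
  he : Fam S.f₁ e
  hl : Fam S.f₂ l

namespace Frame

variable {S : OForm F} (R : Frame S)

/-- The vectors of the frame. -/
def p (i : Fin 3 × Fin 4) : V F 3 4 := emb (R.l i.2) (R.e i.1)

/-- The sign table of a pair of sign vectors. -/
def tbl (a : Fin 3 → Bool) (b : Fin 4 → Bool) (i : Fin 3 × Fin 4) : Bool := xor (a i.1) (b i.2)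

/-- The element with given signs in the frame. -/
noncomputable def D (a : Fin 3 → Bool) (b : Fin 4 → Bool) : GL (Fin 3 × Fin 4) F :=
  kr (sgn S.sym₁ R.he a) (sgn S.sym₂ R.hl b)

theorem D_p (a : Fin 3 → Bool) (b : Fin 4 → Bool) (i : Fin 3 × Fin 4) :
    act (R.D a b) (R.p i) = sig F (tbl a b i) • R.p i := by
  rw [D, p, act_kr, sgn_apply, sgn_apply, sgnMap_basis S.sym₁ R.he, sgnMap_basis S.sym₂ R.hl,
    map_smul, emb_smul_left, smul_smul, sig_mul_sig, tbl]

theorem D_form (a : Fin 3 → Bool) (b : Fin 4 → Bool) :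
    R.D a b ∈ Cfsg.isometryGroup F ⇑S.Q :=
  S.kr_mem_isometry (μ := 1) (ν := 1) (one_mul 1)
    (fun x y => by rw [sgn_form, one_mul]) (fun v w => by rw [sgn_form, one_mul])

theorem D_kron (a : Fin 3 → Bool) (b : Fin 4 → Bool) :
    R.D a b ∈ Geo.kroneckerSubgroup 3 4 F := ⟨_, _, kr_coe _ _⟩

theorem polar_p (i j : Fin 3 × Fin 4) :
    polar S.Q (R.p i) (R.p j) =
      if i = j then S.f₁ (R.e i.1) (R.e i.1) * S.f₂ (R.l i.2) (R.l i.2) else 0 := by
  rw [p, p, S.polar_emb]
  split
  · subst ‹i = j›; rfl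
  · rename_i h
    by_cases h1 : i.1 = j.1
    · rw [R.hl.orth i.2 j.2 (fun h2 => h (Prod.ext h1 h2)), mul_zero]
    · rw [R.he.orth i.1 j.1 h1, zero_mul]

theorem polar_p_self (i : Fin 3 × Fin 4) : polar S.Q (R.p i) (R.p i) ≠ 0 := by
  rw [R.polar_p, if_pos rfl]; exact mul_ne_zero (R.he.aniso _) (R.hl.aniso _)

theorem Q_p (i : Fin 3 × Fin 4) :
    S.Q (R.p i) = S.f₁ (R.e i.1) (R.e i.1) * S.f₂ (R.l i.2) (R.l i.2) / 2 := S.Q_emb _ _

theorem Q_p_ne (i : Fin 3 × Fin 4) : S.Q (R.p i) ≠ 0 := by
  rw [R.Q_p]; exact div_ne_zero (mul_ne_zero (R.he.aniso _) (R.hl.aniso _)) S.two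

theorem indep : LinearIndependent F R.p := by
  rw [Fintype.linearIndependent_iff]
  intro g hg i
  have h := congrArg (polarBilin S.Q (R.p i)) hg
  rw [map_zero, map_sum, Finset.sum_eq_single i] at h
  · rw [map_smul, polarBilin_apply_apply, smul_eq_mul] at h
    exact (mul_eq_zero.1 h).resolve_right (R.polar_p_self i)
  · intro j _ hj
    rw [map_smul, polarBilin_apply_apply, R.polar_p, if_neg (Ne.symm hj), smul_zero]
  · simp

theorem expand (z : V F 3 4) :
    ∑ i, (polar S.Q (R.p i) z / polar S.Q (R.p i) (R.p i)) • R.p i = z := by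
  have hsp : Submodule.span F (Set.range R.p) = ⊤ := R.indep.span_eq_top_of_card_eq_finrank (by simp)
  obtain ⟨c, hc⟩ := (Submodule.mem_span_range_iff_exists_fun F).1 (hsp ▸ Submodule.mem_top (x := z))
  conv_rhs => rw [← hc]
  refine Finset.sum_congr rfl fun i _ => ?_
  have : polar S.Q (R.p i) z = c i * polar S.Q (R.p i) (R.p i) := by
    rw [← hc, ← polarBilin_apply_apply, map_sum, Finset.sum_eq_single i]
    · rw [map_smul, polarBilin_apply_apply, smul_eq_mul]
    · intro j _ hj
      rw [map_smul, polarBilin_apply_apply, R.polar_p, if_neg (Ne.symm hj), smul_zero]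
    · simp
  rw [this, mul_div_cancel_right₀ _ (R.polar_p_self i)]

theorem ext {g h : GL (Fin 3 × Fin 4) F} (H : ∀ i, act g (R.p i) = act h (R.p i)) : g = h :=
  gl_ext fun z => by
    show act g z = act h z
    rw [← R.expand z, map_sum, map_sum]
    exact Finset.sum_congr rfl fun i _ => by rw [map_smul, map_smul, H]

theorem D_mul (a a' : Fin 3 → Bool) (b b' : Fin 4 → Bool) :
    R.D a b * R.D a' b' = R.D (fun k => xor (a k) (a' k)) (fun m => xor (b m) (b' m)) := by
  refine R.ext fun i => ?_
  rw [act_mul, R.D_p, map_smul, R.D_p, R.D_p, smul_smul, sig_mul_sig]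
  congr 2
  simp only [tbl]
  cases a i.1 <;> cases a' i.1 <;> cases b i.2 <;> cases b' i.2 <;> rfl

theorem D_zero : R.D (fun _ => false) (fun _ => false) = 1 :=
  R.ext fun i => by rw [R.D_p, act_one]; simp [tbl]

theorem D_sq (a : Fin 3 → Bool) (b : Fin 4 → Bool) : R.D a b * R.D a b = 1 := by
  rw [R.D_mul]; simpa using R.D_zero

theorem D_comm (a a' : Fin 3 → Bool) (b b' : Fin 4 → Bool) :
    R.D a b * R.D a' b' = R.D a' b' * R.D a b := by
  rw [R.D_mul, R.D_mul]; congr 1 <;> funext k <;> exact Bool.xor_comm _ _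

theorem D_coord {a : Fin 3 → Bool} {b : Fin 4 → Bool} {z : V F 3 4} {c : Bool}
    (hz : act (R.D a b) z = sig F c • z) {i : Fin 3 × Fin 4} (hi : tbl a b i ≠ c) :
    polar S.Q (R.p i) z = 0 := by
  have h1 := congrArg (polar S.Q (R.p i)) hz
  have h2 : polar S.Q (act (R.D a b) (R.p i)) (act (R.D a b) z) = polar S.Q (R.p i) z := by
    simp only [QuadraticMap.polar, ← map_add, (S.mem_isometry_iff.1 (R.D_form a b))]
  rw [R.D_p, polar_smul_left, smul_eq_mul, h1, polar_smul_right, smul_eq_mul, ← mul_assoc,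
    sig_mul_sig] at h2
  have : (sig F (xor (tbl a b i) c) - 1) * polar S.Q (R.p i) z = 0 := by linear_combination h2
  refine (mul_eq_zero.1 this).resolve_left ?_
  revert hi
  cases tbl a b i <;> cases c <;> simp
  all_goals intro h; exact S.two (by linear_combination -h)

section Member

variable [Fintype F]

/-- The element diagonal in a frame is the product of the reflections in its negated vectors. -/
theorem reflProd_eq (a : Fin 3 → Bool) (b : Fin 4 → Bool) :
    (Forms59.reflProd S.Q
      ((Finset.univ.filter fun i => tbl a b i = true).toList.map R.p)).1 = R.D a b := by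
  classical
  set T := Finset.univ.filter fun i => tbl a b i = true with hT
  have key : ∀ L : List (Fin 3 × Fin 4), L.Nodup → ∀ i,
      act (Forms59.reflProd S.Q (L.map R.p)).1 (R.p i) =
        (if i ∈ L then (-1 : F) else 1) • R.p i := by
    intro L
    induction L with
    | nil => intro _ i; simp [Forms59.reflProd]
    | cons j L ih =>
      intro hL i
      rw [List.nodup_cons] at hL
      rw [List.map_cons, Forms59.reflProd_cons, Subgroup.coe_mul, act_mul, ih hL.2, map_smul,
        show act (Reflections.refl S.Q (R.p j)).1 (R.p i) =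
          R.p i - ((S.Q (R.p j))⁻¹ * polar S.Q (R.p j) (R.p i)) • R.p j from
            Reflections.act_refl (R.Q_p_ne j) _]
      by_cases hij : i = j
      · subst hij
        rw [if_neg hL.1, if_pos List.mem_cons_self, one_smul, R.polar_p, if_pos rfl, R.Q_p]
        have h1 := mul_ne_zero (R.he.aniso i.1) (R.hl.aniso i.2)
        have h2 := S.two
        rw [show (S.f₁ (R.e i.1) (R.e i.1) * S.f₂ (R.l i.2) (R.l i.2) / 2)⁻¹ *
          (S.f₁ (R.e i.1) (R.e i.1) * S.f₂ (R.l i.2) (R.l i.2)) = 2 by
            rw [inv_div, div_mul_cancel₀ _ h1]]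
        module
      · rw [R.polar_p, if_neg (Ne.symm hij), mul_zero, zero_smul, sub_zero]
        congr 1
        simp [hij]
  refine R.ext fun i => ?_
  rw [R.D_p]
  refine (key _ T.nodup_toList i).trans ?_
  congr 1
  simp only [Finset.mem_toList, hT, Finset.mem_filter, Finset.mem_univ, true_and]
  cases tbl a b i <;> simp

/-- The elements diagonal in a frame lie in `Ω` by a parity and a square class. -/
theorem D_mem {a : Fin 3 → Bool} {b : Fin 4 → Bool}
    (hev : Even (Finset.univ.filter fun i => tbl a b i = true).card)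
    (hsq : IsSquare (∏ i ∈ Finset.univ.filter fun i => tbl a b i = true, S.Q (R.p i))) :
    R.D a b ∈ Geo.omegaGL ⇑S.Q := by
  refine ⟨_, ?_, R.reflProd_eq a b⟩
  refine Forms59.mem_omega_of_even_square S.nondeg OForm.card_ne (by simp) _ (fun v hv => ?_) ?_ ?_
  · obtain ⟨j, -, rfl⟩ := List.mem_map.1 hv
    exact R.Q_p_ne j
  · rw [List.length_map, Finset.length_toList]; exact hev
  · rw [List.map_map]
    rw [← Finset.prod_map_toList] at hsq
    exact hsq

/-- The elements diagonal in a frame and in `Ω` have an even number of signs. -/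
theorem D_even {a : Fin 3 → Bool} {b : Fin 4 → Bool} (h : R.D a b ∈ Geo.omegaGL ⇑S.Q) :
    Even (Finset.univ.filter fun i => tbl a b i = true).card := by
  obtain ⟨g, hg, hgD⟩ := h
  have he : g = Forms59.reflProd S.Q
      ((Finset.univ.filter fun i => tbl a b i = true).toList.map R.p) :=
    Subtype.ext (hgD.trans (R.reflProd_eq a b).symm)
  subst he
  have := (Forms59.even_and_square_of_mem_omega S.nondeg OForm.card_ne _ (fun v hv => by
    obtain ⟨j, -, rfl⟩ := List.mem_map.1 hv
    exact R.Q_p_ne j) hg).1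
  rwa [List.length_map, Finset.length_toList] at this

end Member

/-- An element carrying one diagonal element of a frame to one of another carries eigenvectors
to eigenvectors: the patterns occur equally often. -/
theorem card_le (R' : Frame S) {h : GL (Fin 3 × Fin 4) F} {n : ℕ}
    (t t' : Fin n → (Fin 3 → Bool) × (Fin 4 → Bool))
    (hh : ∀ r, h * R.D (t r).1 (t r).2 = R'.D (t' r).1 (t' r).2 * h) (c : Fin n → Bool) :
    (Finset.univ.filter fun i => ∀ r, tbl (t r).1 (t r).2 i = c r).card ≤
      (Finset.univ.filter fun i => ∀ r, tbl (t' r).1 (t' r).2 i = c r).card := by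
  classical
  set P := Finset.univ.filter fun i => ∀ r, tbl (t r).1 (t r).2 i = c r
  set P' := Finset.univ.filter fun i => ∀ r, tbl (t' r).1 (t' r).2 i = c r with hP'
  have hin : ∀ i : P, act h (R.p i) ∈ Submodule.span F (Set.range fun j : P' => R'.p j) := by
    intro i
    rw [← R'.expand (act h (R.p i))]
    refine Submodule.sum_mem _ fun j _ => ?_
    by_cases hj : j ∈ P'
    · exact Submodule.smul_mem _ _ (Submodule.subset_span ⟨⟨j, hj⟩, rfl⟩)
    · obtain ⟨r, hr⟩ : ∃ r, tbl (t' r).1 (t' r).2 j ≠ c r := by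
        by_contra hc
        push Not at hc
        exact hj (by simp [hP', hc])
      have hi : tbl (t r).1 (t r).2 i = c r := (Finset.mem_filter.1 i.2).2 r
      rw [R'.D_coord (c := c r) ?_ hr, zero_div, zero_smul]
      · exact zero_mem _
      · rw [← act_mul, ← hh r, act_mul, R.D_p, map_smul, hi]
  have hli : LinearIndependent F fun i : P => act h (R.p i) :=
    (R.indep.comp _ Subtype.val_injective).map' (act h)
      (LinearMap.ker_eq_bot.2 (act_injective h))
  have hle : Submodule.span F (Set.range fun i : P => act h (R.p i)) ≤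
      Submodule.span F (Set.range fun j : P' => R'.p j) := by
    rw [Submodule.span_le]; rintro _ ⟨i, rfl⟩; exact hin i
  have h1 := Submodule.finrank_mono hle
  rw [finrank_span_eq_card hli] at h1
  have h2 : finrank F (Submodule.span F (Set.range fun j : P' => R'.p j)) = Fintype.card P' :=
    finrank_span_eq_card (R'.indep.comp _ Subtype.val_injective)
  rw [h2] at h1
  simpa using h1

theorem card_eq (R' : Frame S) {h : GL (Fin 3 × Fin 4) F} {n : ℕ}
    (t t' : Fin n → (Fin 3 → Bool) × (Fin 4 → Bool))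
    (hh : ∀ r, h * R.D (t r).1 (t r).2 = R'.D (t' r).1 (t' r).2 * h) (c : Fin n → Bool) :
    (Finset.univ.filter fun i => ∀ r, tbl (t r).1 (t r).2 i = c r).card =
      (Finset.univ.filter fun i => ∀ r, tbl (t' r).1 (t' r).2 i = c r).card :=
  le_antisymm (R.card_le R' t t' hh c) <| R'.card_le R (h := h⁻¹) t' t (fun r => by
    rw [eq_mul_inv_iff_mul_eq, mul_assoc, inv_mul_eq_iff_eq_mul]
    exact (hh r).symm) c

/-- A pattern occurring once: the square classes agree. -/
theorem isSquare_of_single (R' : Frame S) {h : GL (Fin 3 × Fin 4) F} {n : ℕ}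
    (hQ : ∀ z, S.Q (act h z) = S.Q z) (t t' : Fin n → (Fin 3 → Bool) × (Fin 4 → Bool))
    (hh : ∀ r, h * R.D (t r).1 (t r).2 = R'.D (t' r).1 (t' r).2 * h) (c : Fin n → Bool)
    {i j : Fin 3 × Fin 4} (hi : ∀ r, tbl (t r).1 (t r).2 i = c r)
    (hj : (Finset.univ.filter fun i => ∀ r, tbl (t' r).1 (t' r).2 i = c r) = {j}) :
    IsSquare (S.Q (R.p i) * S.Q (R'.p j)) := by
  classical
  have he : act h (R.p i) = (polar S.Q (R'.p j) (act h (R.p i)) /
      polar S.Q (R'.p j) (R'.p j)) • R'.p j := by
    conv_lhs => rw [← R'.expand (act h (R.p i))]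
    refine Finset.sum_eq_single j (fun k _ hk => ?_) (fun hc => absurd (Finset.mem_univ j) hc)
    obtain ⟨r, hr⟩ : ∃ r, tbl (t' r).1 (t' r).2 k ≠ c r := by
      by_contra hc
      push Not at hc
      exact hk (Finset.mem_singleton.1 (hj ▸ by simp [hc]))
    rw [R'.D_coord (c := c r) ?_ hr, zero_div, zero_smul]
    rw [← act_mul, ← hh r, act_mul, R.D_p, map_smul, hi r]
  have h1 := hQ (R.p i)
  rw [he, QuadraticMap.map_smul, smul_eq_mul] at h1
  exact ⟨polar S.Q (R'.p j) (act h (R.p i)) / polar S.Q (R'.p j) (R'.p j) * S.Q (R'.p j), by rw [← h1]; ring⟩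

end Frame

end Cfsg.Agent.OO34
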