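import Cfsg.Agent.OO34.Pairs

/-!
An overgroup in which the centralisers of half-turns lie in the tensor stabiliser lies in the tensor
stabiliser (helper70).
-/

set_option autoImplicit false
set_option linter.unusedSectionVars false
set_option linter.unusedSimpArgs false
set_option linter.unusedVariables false
set_option maxRecDepth 4000
set_option synthInstance.maxSize 2048
set_option synthInstance.maxHeartbeats 200000

namespace Cfsg.Agent.OO34

open Matrix Cfsg.Agent.MaxSub Cfsg.Agent.TensorMax Cfsg.Agent.TensorInv Module QuadraticMap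

variable {F : Type*} [Field F] {S : OForm F} {H : Subgroup (GL (Fin 3 × Fin 4) F)}

def zTwo : Fin 1 → Tbl := ![(o₃, b₁)]

def zThree : Fin 1 → Tbl := ![(Frame.tv 0, b₁)]

def zNone : Fin 0 → Tbl := ![]

namespace Frame

variable (R : Frame S)

/-- Commutation in a permuted frame. -/
theorem comm_perm (σ : Equiv.Perm (Fin 3)) (τ : Equiv.Perm (Fin 4)) {t t' : Tbl}
    {h : GL (Fin 3 × Fin 4) F} (ht : h * R.E t = R.E t * h)
    (he : ((fun i => t.1 (σ i), fun i => t.2 (τ i)) : Tbl) = t') :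
    h * (R.perm σ τ).E t' = (R.perm σ τ).E t' * h := by
  subst he
  rw [R.E_perm]
  exact ht

/-- Pattern `FTFT` gives an element of `H`. -/
theorem E_b₂_mem [Fintype F] (O : Over S H)
    (hsq : IsSquare (S.f₂ (R.l 1) (R.l 1) * S.f₂ (R.l 3) (R.l 3))) : R.E (o₃, b₂) ∈ H := by
  refine O.kr_mem _ _ (R.D_mem (a := o₃) (b := b₂) (by decide +kernel) ?_)
  have hT : (Finset.univ.filter fun i : Fin 3 × Fin 4 => tbl o₃ b₂ i = true) =
      (Finset.univ : Finset (Fin 3)) ×ˢ ({1, 3} : Finset (Fin 4)) := by decide +kernel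
  rw [hT, Finset.prod_product]
  refine Finset.prod_induction _ IsSquare (fun _ _ => IsSquare.mul) IsSquare.one fun k _ => ?_
  rw [Finset.prod_pair (by decide), R.Q_p, R.Q_p]
  have := (show IsSquare ((S.f₁ (R.e k) (R.e k) / 2) * (S.f₁ (R.e k) (R.e k) / 2)) from
    ⟨_, rfl⟩).mul hsq
  refine (congrArg IsSquare ?_).mp this
  ring

end Frame

/-- A permutation putting two signs in standard position with a square pairing. -/
theorem exists_select [Fintype F] (R : Frame S) {b : Fin 4 → Bool}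
    (hb : (Finset.univ.filter fun i => b i = true).card = 2) :
    ∃ τ : Equiv.Perm (Fin 4), (fun i => b (τ i)) = b₁ ∧
      IsSquare (S.f₂ (R.l (τ 1)) (R.l (τ 1)) * S.f₂ (R.l (τ 3)) (R.l (τ 3))) := by
  classical
  have key : ∀ (q b : Fin 4 → Bool), ((q 0 == q 1) == (q 2 == q 3)) = false →
      (Finset.univ.filter fun i => b i = true).card = 2 →
      ∃ i j k : Fin 4,
        (fun m => b ((Equiv.swap 0 i * Equiv.swap 1 j * Equiv.swap 2 k) m)) = b₁ ∧
        q ((Equiv.swap 0 i * Equiv.swap 1 j * Equiv.swap 2 k) 1) =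
          q ((Equiv.swap 0 i * Equiv.swap 1 j * Equiv.swap 2 k) 3) := by
    decide +kernel
  have hne := R.hl.aniso
  have hq := S.disc_nonsquare R.hl
  rw [isSquare_mul_iff_iff S.two (mul_ne_zero (hne 0) (hne 1)) (mul_ne_zero (hne 2) (hne 3)),
    isSquare_mul_iff_iff S.two (hne 0) (hne 1), isSquare_mul_iff_iff S.two (hne 2) (hne 3)] at hq
  obtain ⟨i, j, k, h1, h2⟩ := key (fun m => decide (IsSquare (S.f₂ (R.l m) (R.l m)))) b (by
    by_cases p0 : IsSquare (S.f₂ (R.l 0) (R.l 0)) <;> by_cases p1 : IsSquare (S.f₂ (R.l 1) (R.l 1)) <;>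
      by_cases p2 : IsSquare (S.f₂ (R.l 2) (R.l 2)) <;>
      by_cases p3 : IsSquare (S.f₂ (R.l 3) (R.l 3)) <;> simp [p0, p1, p2, p3] at hq ⊢) hb
  refine ⟨_, h1, (isSquare_mul_iff_iff S.two (hne _) (hne _)).2 ?_⟩
  exact decide_eq_decide.mp h2

variable [Fintype F] (O : Over S H) (hT : TurnGood S H) (R : Frame S)
include O hT

/-- An element of `F⁴`-type. -/
theorem good_two (hsq : IsSquare (S.f₂ (R.l 1) (R.l 1) * S.f₂ (R.l 3) (R.l 3))) :
    CentGood S H R zTwo := by
  intro h hh hz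
  have hsep : ∀ i j, b₁ i = b₁ j → b₂ i = b₂ j → i = j := by decide +kernel
  refine kron_of_turns (S.Q_act (O.le hh)) fun v hv => ?_
  obtain ⟨e, he, rfl⟩ := exists_basis_from S.sym₁ hv
  let R₁ : Frame S := ⟨e, R.l, he, R.hl⟩
  have hR₁ : ∀ r, R₁.E (zTwo r) = R.E (zTwo r) := fun r => by
    fin_cases r; exact R.E_left_congr R₁ rfl b₁
  have hz₁ : ∀ r, h * R₁.E (zTwo r) = R₁.E (zTwo r) * h := fun r => by rw [hR₁]; exact hz r
  have hclass : ∀ (a : Fin 3 → Bool) (b : Fin 4 → Bool),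
      Even (Finset.univ.filter fun i => a i = true).card →
      Even (Finset.univ.filter fun i => b i = true).card →
      (a, b) ∈ spn (List.ofFn zTwo) ∨
        (∃ k, tt k ∈ spn (List.ofFn (Matrix.vecCons (a, b) zTwo))) ∨
        (o₃, b₂) ∈ spn (List.ofFn (Matrix.vecCons (a, b) zTwo)) ∨
        ∃ k, (Frame.tv k, b₂) ∈ spn (List.ofFn (Matrix.vecCons (a, b) zTwo)) := by decide +kernel
  have hcand : ∀ (a : Fin 3 → Bool) (b : Fin 4 → Bool),
      Even (Finset.univ.filter fun i => a i = true).card →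
      Even (Finset.univ.filter fun i => b i = true).card →
      CntEq (Matrix.vecCons (tt 0) zTwo) (Matrix.vecCons (a, b) zTwo) →
      ∃ k, (a, b) = tt k := by decide +kernel
  obtain ⟨j, hjH, hjK, hjΩ, hjj, hjz, hconj, hQ⟩ :=
    image_mem O R₁ zTwo (o₃, b₂) (tt 0) (R₁.E_b₂_mem O hsq) (R₁.turn_E_mem O 0)
      (fun g hg hgz hgi => good_pure O R₁ hT g hg (Fin.forall_fin_two.2 ⟨hgz 0, hgi⟩))
      (fun c hcH hcK hcc hcz hci => by
        obtain ⟨R', a, b, ha, hb, -, hl, rfl⟩ := R₁.exists_normal₂ o₃ o₃ b₁ b₂ hsep hcK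
          (O.le hcH) hcc (hcz 0) hci
        have hR' : ∀ r, R'.E (zTwo r) = R₁.E (zTwo r) := fun r => by
          fin_cases r; exact R₁.E_left_congr R' hl b₁
        rcases hclass a b ha hb with hs | hrest
        · refine Or.inl ⟨(a, b), hs, ?_⟩
          rw [← R₁.E_spn_fn R' hR' hs, Frame.E]
        refine Or.inr fun g hg hgz hgc => ?_
        have hgz' : ∀ r, g * R'.E (zTwo r) = R'.E (zTwo r) * g := fun r => by
          rw [hR']; exact hgz r
        have hcons := R'.comm_cons (t := (a, b)) hgc hgz'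
        rcases hrest with ⟨k, hk⟩ | hp | ⟨k, hk⟩
        · exact R'.good_of_turn hT hg hcons hk
        · exact good_pure O R' hT g hg
            (Fin.forall_fin_two.2 ⟨hgz' 0, R'.comm_spn_fn hcons hp⟩)
        · refine good_mixed O (R'.perm (Equiv.swap 0 k) 1) hT g hg (Fin.forall_fin_two.2
            ⟨R'.comm_perm _ _ (hgz' 0) ?_, R'.comm_perm _ _ (R'.comm_spn_fn hcons hk) ?_⟩)
          · rfl
          · clear hk; revert k; decide +kernel)
      (fun g hg hgz he' => (by decide +kernel :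
          ¬ CntEq (Matrix.vecCons (tt 0) zTwo) (Matrix.vecCons (o₃, b₂) zTwo))
        (R₁.cnt_of_conj R₁ (R₁.conj_cons R₁ he' hgz fun _ => rfl)))
      (by decide +kernel) hh hz₁
  obtain ⟨R', a, b, ha, hb, -, -, h0, rfl⟩ := R₁.exists_normal o₃ b₁ hjK hjΩ hjj (hjz 0)
  have hR' : ∀ r, R'.E (zTwo r) = R₁.E (zTwo r) := fun r => by fin_cases r; exact h0
  obtain ⟨k, hk⟩ := hcand a b ha hb
    (R₁.cnt_of_conj R' (R₁.conj_cons R' (t' := (a, b)) hconj hz₁ hR'))
  refine ⟨R'.e k, R'.he.aniso k, ?_⟩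
  rw [← R'.E_turn k, ← show R₁.E (tt 0) = kr (S.turn (e 0)) 1 from R₁.E_turn 0,
    show (Frame.tv k, fun _ : Fin 4 => false) = (a, b) from hk.symm]
  exact hconj

/-- A mixed element. -/
theorem good_three (hsq : IsSquare (S.f₂ (R.l 1) (R.l 1) * S.f₂ (R.l 3) (R.l 3))) :
    CentGood S H R zThree := by
  intro h hh hz
  have hsep : ∀ i j, b₁ i = b₁ j → b₂ i = b₂ j → i = j := by decide +kernel
  have hclass : ∀ (a : Fin 3 → Bool) (b : Fin 4 → Bool),
      Even (Finset.univ.filter fun i => a i = true).card →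
      Even (Finset.univ.filter fun i => b i = true).card →
      (a, b) ∈ spn (List.ofFn zThree) ∨
        (∃ k, tt k ∈ spn (List.ofFn (Matrix.vecCons (a, b) zThree))) ∨
        (o₃, b₂) ∈ spn (List.ofFn (Matrix.vecCons (a, b) zThree)) ∨
        (o₃, b₃) ∈ spn (List.ofFn (Matrix.vecCons (a, b) zThree)) ∨
        (∃ k, k ≠ 0 ∧ (Frame.tv k, b₂) ∈ spn (List.ofFn (Matrix.vecCons (a, b) zThree))) ∨
        ∃ k, k ≠ 0 ∧ (Frame.tv k, b₃) ∈ spn (List.ofFn (Matrix.vecCons (a, b) zThree)) := by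
    decide +kernel
  have hcand : ∀ (a : Fin 3 → Bool) (b : Fin 4 → Bool),
      Even (Finset.univ.filter fun i => a i = true).card →
      Even (Finset.univ.filter fun i => b i = true).card →
      CntEq (Matrix.vecCons (tt 0) zThree) (Matrix.vecCons (a, b) zThree) →
      ∃ k, (a, b) = tt k := by decide +kernel
  obtain ⟨j, hjH, hjK, hjΩ, hjj, hjz, hconj, hQ⟩ :=
    image_mem O R zThree (o₃, b₂) (tt 0) (R.E_b₂_mem O hsq) (R.turn_E_mem O 0)
      (fun g hg hgz hgi => good_mixed O (R.perm 1 (Equiv.swap 1 2)) hT g hg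
        (Fin.forall_fin_two.2 ⟨R.comm_perm _ _ hgi (by decide +kernel),
          R.comm_perm _ _ (hgz 0) (by decide +kernel)⟩))
      (fun c hcH hcK hcc hcz hci => by
        obtain ⟨R', a, b, ha, hb, h0, hl, rfl⟩ := R.exists_normal₂ (Frame.tv 0) o₃ b₁ b₂ hsep hcK
          (O.le hcH) hcc (hcz 0) hci
        have hR' : ∀ r, R'.E (zThree r) = R.E (zThree r) := fun r => by
          fin_cases r; exact h0 b₁
        rcases hclass a b ha hb with hs | hrest
        · refine Or.inl ⟨(a, b), hs, ?_⟩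
          rw [← R.E_spn_fn R' hR' hs, Frame.E]
        refine Or.inr fun g hg hgz hgc => ?_
        have hgz' : ∀ r, g * R'.E (zThree r) = R'.E (zThree r) * g := fun r => by
          rw [hR']; exact hgz r
        have hcons := R'.comm_cons (t := (a, b)) hgc hgz'
        rcases hrest with ⟨k, hk⟩ | hp | hp | ⟨k, hk0, hk⟩ | ⟨k, hk0, hk⟩
        · exact R'.good_of_turn hT hg hcons hk
        · exact good_mixed O (R'.perm 1 (Equiv.swap 1 2)) hT g hg (Fin.forall_fin_two.2
            ⟨R'.comm_perm _ _ (R'.comm_spn_fn hcons hp) (by decide +kernel),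
              R'.comm_perm _ _ (hgz' 0) (by decide +kernel)⟩)
        · exact good_mixed O (R'.perm 1 (Equiv.swap 1 2 * Equiv.swap 1 3)) hT g hg
            (Fin.forall_fin_two.2 ⟨R'.comm_perm _ _ (R'.comm_spn_fn hcons hp) (by decide +kernel),
              R'.comm_perm _ _ (hgz' 0) (by decide +kernel)⟩)
        · refine good_triple O (R'.perm (Equiv.swap k 1) 1) hT g hg (Fin.forall_fin_two.2
            ⟨R'.comm_perm _ _ (hgz' 0) ?_, R'.comm_perm _ _ (R'.comm_spn_fn hcons hk) ?_⟩)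
          · clear hk; revert hk0; revert k; decide +kernel
          · clear hk; revert hk0; revert k; decide +kernel
        · refine good_triple O (R'.perm (Equiv.swap k 1) (Equiv.swap 2 3)) hT g hg
            (Fin.forall_fin_two.2
              ⟨R'.comm_perm _ _ (hgz' 0) ?_, R'.comm_perm _ _ (R'.comm_spn_fn hcons hk) ?_⟩)
          · clear hk; revert hk0; revert k; decide +kernel
          · clear hk; revert hk0; revert k; decide +kernel)
      (fun g hg hgz he' => (by decide +kernel :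
          ¬ CntEq (Matrix.vecCons (tt 0) zThree) (Matrix.vecCons (o₃, b₂) zThree))
        (R.cnt_of_conj R (R.conj_cons R he' hgz fun _ => rfl)))
      (by decide +kernel) hh hz
  obtain ⟨R', a, b, ha, hb, hd, hd₁, hd₂, rfl⟩ :=
    R.exists_normal (Frame.tv 0) b₁ hjK hjΩ hjj (hjz 0)
  have hR' : ∀ r, R'.E (zThree r) = R.E (zThree r) := fun r => by fin_cases r; exact hd
  obtain ⟨k, hk⟩ := hcand a b ha hb
    (R.cnt_of_conj R' (R.conj_cons R' (t' := (a, b)) hconj hz hR'))
  have hconj' : h * R.E (tt 0) = R'.E (tt k) * h := by rw [← hk]; exact hconj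
  by_cases hk0 : k = 0
  · subst hk0
    refine R.good_of_turn hT hh (zs := ![tt 0]) (k := 0) (fun r => ?_) (by decide +kernel)
    fin_cases r
    rw [show R'.E (tt 0) = R.E (tt 0) from hd₁] at hconj'
    exact hconj'
  exfalso
  have hA := R.isSquare_prod R' hQ _ _ (R.conj_cons R' hconj' hz hR') (fun _ => false)
  have hB := R.isSquare_prod R' (h := 1) (fun z => by rw [act_one]) ![tt 0, (o₃, b₁)]
    ![tt 0, (o₃, b₁)] (Fin.forall_fin_two.2 ⟨by rw [one_mul, mul_one]; exact hd₁.symm,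
      by rw [one_mul, mul_one]; exact hd₂.symm⟩) ![false, true]
  have e1 : (Finset.univ.filter fun p => ∀ r, Frame.tbl (Matrix.vecCons (tt 0) zThree r).1
      (Matrix.vecCons (tt 0) zThree r).2 p = (fun _ => false : Fin 2 → Bool) r) =
        {((0 : Fin 3), (0 : Fin 4)), (0, 1)} := by decide +kernel
  have e2 : ∀ k : Fin 3, k ≠ 0 →
      (Finset.univ.filter fun p => ∀ r, Frame.tbl (Matrix.vecCons (tt k) zThree r).1
        (Matrix.vecCons (tt k) zThree r).2 p = (fun _ => false : Fin 2 → Bool) r) =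
          {(k, (2 : Fin 4)), (k, 3)} := by decide +kernel
  have e3 : (Finset.univ.filter fun p => ∀ r, Frame.tbl ((![tt 0, (o₃, b₁)] : Fin 2 → Tbl) r).1
      ((![tt 0, (o₃, b₁)] : Fin 2 → Tbl) r).2 p = (![false, true] : Fin 2 → Bool) r) =
        {((0 : Fin 3), (2 : Fin 4)), (0, 3)} := by decide +kernel
  rw [e1, e2 k hk0, Finset.prod_pair (by simp), Finset.prod_pair (by simp)] at hA
  rw [e3, Finset.prod_pair (by simp), Finset.prod_pair (by simp)] at hB
  simp only [Frame.polar_p_prod] at hA hB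
  refine S.disc_nonsquare R.hl (isSquare_cancel (b := S.f₁ (R.e 0) (R.e 0) * S.f₁ (R.e 0) (R.e 0) *
    (S.f₁ (R'.e k) (R'.e k) * S.f₁ (R'.e 0) (R'.e 0) *
      (S.f₂ (R'.l 2) (R'.l 2) * S.f₂ (R'.l 3) (R'.l 3)))) ?_ ?_)
  · exact mul_ne_zero (mul_ne_zero (R.he.aniso _) (R.he.aniso _))
      (mul_ne_zero (mul_ne_zero (R'.he.aniso _) (R'.he.aniso _))
        (mul_ne_zero (R'.hl.aniso _) (R'.hl.aniso _)))
  refine (congrArg IsSquare ?_).mp (hA.mul hB)
  ring

/-- Centralisers of half-turns control the overgroup. -/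
theorem le_kronecker : H ≤ Geo.kroneckerSubgroup 3 4 F := by
  intro h hh
  have hclass : ∀ (a : Fin 3 → Bool) (b : Fin 4 → Bool),
      Even (Finset.univ.filter fun i => a i = true).card →
      Even (Finset.univ.filter fun i => b i = true).card →
      (a, b) ∈ spn (List.ofFn zNone) ∨
        (∃ k, tt k ∈ spn (List.ofFn (Matrix.vecCons (a, b) zNone))) ∨
        ((Finset.univ.filter fun i => b i = true).card = 2 ∧ (a = o₃ ∨ ∃ k, a = Frame.tv k)) := by
    decide +kernel
  have hcand : ∀ (a : Fin 3 → Bool) (b : Fin 4 → Bool),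
      Even (Finset.univ.filter fun i => a i = true).card →
      Even (Finset.univ.filter fun i => b i = true).card →
      CntEq (Matrix.vecCons (tt 0) zNone) (Matrix.vecCons (a, b) zNone) →
      ∃ k, (a, b) = tt k := by decide +kernel
  refine kron_of_turns (S.Q_act (O.le hh)) fun v hv => ?_
  obtain ⟨R, rfl⟩ := exists_frame S hv
  obtain ⟨τ, hτ, hsq⟩ := exists_select R (b := b₁) (by decide +kernel)
  let R₁ : Frame S :=
    ⟨R.e, fun i => R.l (τ i), R.he, (R.perm 1 τ).hl⟩
  have hcom : ∀ (R' : Frame S) (c : GL (Fin 3 × Fin 4) F),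
      c * R'.D o₃ o₄ = R'.D o₃ o₄ * c := fun R' c => by
    rw [show R'.D o₃ o₄ = 1 from R'.D_zero, mul_one, one_mul]
  obtain ⟨j, hjH, hjK, hjΩ, hjj, hjz, hconj, hQ⟩ :=
    image_mem O R₁ zNone (o₃, b₂) (tt 0) (R₁.E_b₂_mem O hsq) (R₁.turn_E_mem O 0)
      (fun g hg hgz hgi => by
        obtain ⟨π, hπ, hsq'⟩ := exists_select R₁ (b := b₂) (by decide +kernel)
        refine good_two O hT (R₁.perm 1 π) hsq' g hg fun r => ?_
        fin_cases r
        exact R₁.comm_perm 1 π hgi (Prod.ext rfl hπ))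
      (fun c hcH hcK hcc hcz hci => by
        obtain ⟨R', a, b, ha, hb, -, -, -, rfl⟩ :=
          R₁.exists_normal o₃ o₄ hcK (O.le hcH) hcc (hcom R₁ c)
        have hR' : ∀ r, R'.E (zNone r) = R₁.E (zNone r) := fun r => r.elim0
        rcases hclass a b ha hb with hs | ⟨k, hk⟩ | ⟨hb2, hak⟩
        · refine Or.inl ⟨(a, b), hs, ?_⟩
          rw [← R₁.E_spn_fn R' hR' hs, Frame.E]
        · exact Or.inr fun g hg hgz hgc => R'.good_of_turn hT hg
            (R'.comm_cons (t := (a, b)) (zs := zNone) hgc (fun r => r.elim0)) hk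
        · refine Or.inr fun g hg hgz hgc => ?_
          obtain ⟨π, hπ, hsq'⟩ := exists_select R' hb2
          rcases hak with rfl | ⟨k, rfl⟩
          · refine good_two O hT (R'.perm 1 π) hsq' g hg fun r => ?_
            fin_cases r
            exact R'.comm_perm 1 π (t := (o₃, b)) hgc (Prod.ext rfl hπ)
          · refine good_three O hT (R'.perm (Equiv.swap 0 k) π) hsq' g hg fun r => ?_
            fin_cases r
            exact R'.comm_perm _ π (t := (Frame.tv k, b)) hgc (Prod.ext ((by decide +kernel :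
              ∀ k : Fin 3, (fun i => Frame.tv k (Equiv.swap 0 k i)) = Frame.tv 0) k) hπ))
      (fun g hg hgz he' => (by decide +kernel :
          ¬ CntEq (Matrix.vecCons (tt 0) zNone) (Matrix.vecCons (o₃, b₂) zNone))
        (R₁.cnt_of_conj R₁ (R₁.conj_cons R₁ he' hgz fun _ => rfl)))
      (by decide +kernel) hh (fun r => r.elim0)
  obtain ⟨R', a, b, ha, hb, -, -, -, rfl⟩ :=
    R₁.exists_normal o₃ o₄ hjK hjΩ hjj (hcom R₁ j)
  obtain ⟨k, hk⟩ := hcand a b ha hb
    (R₁.cnt_of_conj R' (R₁.conj_cons R' (t' := (a, b)) (zs := zNone) hconj (fun r => r.elim0)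
      fun r => r.elim0))
  refine ⟨R'.e k, R'.he.aniso k, ?_⟩
  rw [← R'.E_turn k, ← show R₁.E (tt 0) = kr (S.turn (R.e 0)) 1 from R₁.E_turn 0,
    show (Frame.tv k, fun _ : Fin 4 => false) = (a, b) from hk.symm]
  exact hconj

end Cfsg.Agent.OO34
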