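import Cfsg.Agent.OO34.ParabolicBase
import Cfsg.Agent.Lib.PGroup.Basic

/-!
Tools for the centraliser of a half-turn: a fixed element of a `p`-group acting on a group of order
divisible by `p`, unipotents of `O₃` fixing an anisotropic vector, and the contraction with a
vector of the first factor (helper74).
-/

set_option autoImplicit false
set_option linter.unusedSectionVars false
set_option linter.unusedSimpArgs false

namespace Cfsg.Agent.OO34

open Matrix Cfsg.Agent.MaxSub Cfsg.Agent.TensorMax Cfsg.Agent.TensorInv Module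

/-- A `p`-group normalising a group of order divisible by `p` centralises one of its elements of
order `p`. -/
theorem exists_centralized {G : Type*} [Group G] [Finite G] {p : ℕ} [Fact p.Prime]
    (A D : Subgroup G) (hA : IsPGroup p A) (hAD : A ≤ Subgroup.normalizer (D : Set G))
    (hd : p ∣ Nat.card D) : ∃ d ∈ D, d ≠ 1 ∧ d ^ p = 1 ∧ ∀ a ∈ A, a * d = d * a := by
  let : MulDistribMulAction A D :=
    { smul := fun y k => ⟨y * k * (y : G)⁻¹, (Subgroup.mem_normalizer_iff.mp (hAD y.2) k).mp k.2⟩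
      one_smul := fun k => Subtype.ext (by
        change ((1 : A) : G) * k * ((1 : A) : G)⁻¹ = k
        simp)
      mul_smul := fun x y k => Subtype.ext (by
        change ((x * y : A) : G) * k * ((x * y : A) : G)⁻¹ = x * (y * k * (y : G)⁻¹) * (x : G)⁻¹
        simp [mul_assoc])
      smul_mul := fun y a b => Subtype.ext (by
        change (y : G) * ((a * b : D) : G) * (y : G)⁻¹ = y * a * (y : G)⁻¹ * (y * b * (y : G)⁻¹)
        simp [mul_assoc])
      smul_one := fun y => Subtype.ext (by
        change (y : G) * ((1 : D) : G) * (y : G)⁻¹ = 1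
        simp) }
  have hn : ¬ p ∣ Nat.card (Sylow p D) := not_dvd_card_sylow p D
  obtain ⟨R, hR⟩ := hA.nonempty_fixed_point_of_prime_not_dvd_card (Sylow p D) hn
  set R' := (R : Subgroup D).map D.subtype with hR'
  have hAR : A ≤ Subgroup.normalizer (R' : Set G) := by
    intro y hy
    rw [Subgroup.mem_normalizer_iff_map_conj_eq]
    refine Subgroup.eq_of_le_of_card_ge ?_
      (le_of_eq (Subgroup.card_map_of_injective (MulAut.conj y).injective).symm)
    rintro _ ⟨_, ⟨k, hk, rfl⟩, rfl⟩
    refine ⟨(⟨y, hy⟩ : A) • k, ?_, rfl⟩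
    rw [SetLike.mem_coe, ← congrArg Sylow.toSubgroup (hR ⟨y, hy⟩)]
    exact Subgroup.smul_mem_pointwise_smul k _ _ hk
  have hJ : IsPGroup p ↥(A ⊔ R') :=
    IsPGroup.to_sup_of_normal_right' hA (R.isPGroup'.map D.subtype) hAR
  haveI : (R'.subgroupOf (A ⊔ R')).Normal :=
    Subgroup.normal_subgroupOf_of_le_normalizer (sup_le hAR Subgroup.le_normalizer)
  have hne : R'.subgroupOf (A ⊔ R') ≠ ⊥ := by
    rw [ne_eq, Subgroup.subgroupOf_eq_bot, disjoint_iff, inf_eq_left.mpr le_sup_right, hR',
      Subgroup.map_eq_bot_iff_of_injective _ D.subtype_injective]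
    exact R.ne_bot_of_dvd_card hd
  obtain ⟨d, hd', hd1, hdp⟩ := PGroup.exists_mem_pow_eq_one hJ (PGroup.inf_center_ne_bot hJ hne)
  refine ⟨d, Subgroup.map_subtype_le _ hd'.1, fun h => hd1 (Subtype.ext h), ?_, fun a ha => ?_⟩
  · exact_mod_cast congrArg Subtype.val hdp
  · exact congrArg Subtype.val (Subgroup.mem_center_iff.mp hd'.2 ⟨a, Subgroup.mem_sup_left ha⟩)

variable {F : Type*} [Field F] [Fintype F] (S : OForm F)

/-- An element of order `p` of `O₃` fixing an anisotropic vector is trivial. -/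
theorem eq_one_of_fix {p : ℕ} [CharP F p] [hp : Fact p.Prime] {e : Fin 3 → F}
    (he : S.f₁ e e ≠ 0) {g : GL (Fin 3) F}
    (hg : ∀ x y, S.f₁ (act g x) (act g y) = S.f₁ x y) (hge : act g e = e) (hgp : g ^ p = 1) :
    g = 1 := by
  classical
  set X : Matrix (Fin 3) (Fin 3) F :=
    (g : Matrix (Fin 3) (Fin 3) F) - ((g⁻¹ : GL (Fin 3) F) : Matrix (Fin 3) (Fin 3) F) with hX
  have hXp : X ^ p = 0 := by
    rw [hX, sub_pow_char_of_commute _ (Commute.units_val ((Commute.refl g).inv_right)),
      ← Units.val_pow_eq_pow_val, ← Units.val_pow_eq_pow_val, inv_pow, hgp, inv_one, sub_self]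
  let φ : (Fin 3 → F) →ₗ[F] (Fin 3 → F) := act g - act g⁻¹
  have hφ : ∀ x, φ x = X *ᵥ x := fun x => by
    simp [φ, hX, sub_mulVec, act_apply]
  have hskew : ∀ x y, S.f₁ (φ x) y = -S.f₁ x (φ y) := fun x y => by
    have e1 : S.f₁ (act g x) y = S.f₁ x (act g⁻¹ y) := by
      conv_lhs => rw [← act_act_inv g y]
      rw [hg]
    have e2 : S.f₁ (act g⁻¹ x) y = S.f₁ x (act g y) := by
      conv_rhs => rw [← act_act_inv g x]
      rw [hg]
    simp only [φ, LinearMap.sub_apply, map_sub, e1, e2]
    ring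
  obtain ⟨b, hb, hb0⟩ := exists_basis_from S.sym₁ he
  have h0 : φ (b 0) = 0 := by
    rw [hb0]
    simp only [φ, LinearMap.sub_apply, hge]
    conv_lhs => arg 2; rw [← hge, act_inv_act]
    exact sub_self e
  have hdiag : ∀ x, S.f₁ x (φ x) = 0 := fun x => by
    have := hskew x x
    rw [S.sym₁.symm x (φ x)] at this
    exact (mul_eq_zero.1 (show (2 : F) * S.f₁ x (φ x) = 0 by linear_combination this)).resolve_left
      S.two
  have hperp : ∀ j, S.f₁ (b 0) (φ (b j)) = 0 := fun j => by
    have := hskew (b 0) (b j)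
    rw [h0, map_zero, LinearMap.zero_apply, eq_comm, neg_eq_zero] at this
    exact this
  set s := S.f₁ (b 2) (φ (b 1)) / S.f₁ (b 2) (b 2) with hs
  set t := S.f₁ (b 1) (φ (b 2)) / S.f₁ (b 1) (b 1) with ht
  have h1 : φ (b 1) = s • b 2 := by
    refine sub_eq_zero.1 (S.sym₁.eq_zero_of_basis hb fun i => ?_)
    fin_cases i
    · simp [hperp, hb.orth 0 2 (by decide)]
    · simp [hdiag, hb.orth 1 2 (by decide)]
    · simp [hs, hb.aniso 2]
  have h2 : φ (b 2) = t • b 1 := by
    refine sub_eq_zero.1 (S.sym₁.eq_zero_of_basis hb fun i => ?_)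
    fin_cases i
    · simp [hperp, hb.orth 0 1 (by decide)]
    · simp [ht, hb.aniso 1]
    · simp [hdiag, hb.orth 2 1 (by decide)]
  have hpow : ∀ k, X ^ (2 * k) *ᵥ b 1 = (s * t) ^ k • b 1 := by
    intro k
    induction k with
    | zero => simp
    | succ k ih =>
      rw [mul_add, mul_one, pow_add, ← mulVec_mulVec, pow_two, ← mulVec_mulVec, ← hφ, ← hφ, h1,
        map_smul, h2, mulVec_smul, mulVec_smul, ih, smul_smul, smul_smul]
      congr 1
      ring
  have hst : s * t = 0 := by
    have := hpow p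
    rw [two_mul, pow_add, hXp, mul_zero, zero_mulVec, eq_comm, smul_eq_zero] at this
    exact eq_zero_of_pow_eq_zero (this.resolve_right fun h => hb.aniso 1 (by rw [h, map_zero]))
  have hrel : s * S.f₁ (b 2) (b 2) = -(t * S.f₁ (b 1) (b 1)) := by
    have := hskew (b 1) (b 2)
    rw [h1, h2, map_smul, LinearMap.smul_apply, map_smul, smul_eq_mul, smul_eq_mul] at this
    exact this
  obtain ⟨hs0, ht0⟩ : s = 0 ∧ t = 0 := by
    rcases mul_eq_zero.1 hst with h | h
    · rw [h, zero_mul, eq_comm, neg_eq_zero, mul_eq_zero] at hrel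
      exact ⟨h, hrel.resolve_right (hb.aniso 1)⟩
    · rw [h, zero_mul, neg_zero, mul_eq_zero] at hrel
      exact ⟨hrel.resolve_right (hb.aniso 2), h⟩
  have hgg : g * g = 1 := by
    refine gl_ext fun x => ?_
    show act (g * g) x = act (1 : GL (Fin 3) F) x
    have hzero : ∀ x, φ x = 0 := fun x => by
      have hφb : ∀ j, φ (b j) = 0 := fun j => by
        fin_cases j
        · exact h0
        · show φ (b 1) = 0
          rw [h1, hs0, zero_smul]
        · show φ (b 2) = 0
          rw [h2, ht0, zero_smul]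
      refine sub_eq_zero.1 (S.sym₁.eq_zero_of_basis hb fun i => ?_)
      rw [sub_zero, S.sym₁.symm, hskew, hφb, map_zero, neg_zero]
    have := hzero x
    simp only [φ, LinearMap.sub_apply, sub_eq_zero] at this
    rw [act_mul, this, act_act_inv, act_one]
  have hodd : Odd p := hp.out.odd_of_ne_two fun h => by
    subst h
    exact S.two CharTwo.two_eq_zero
  obtain ⟨k, hk⟩ := hodd
  rw [hk, pow_succ, pow_mul, pow_two, hgg, one_pow, one_mul] at hgp
  exact hgp

namespace OForm

/-- The contraction with a vector of the first factor. -/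
def prl (e : Fin 3 → F) : V F 3 4 →ₗ[F] (Fin 4 → F) :=
  LinearMap.pi fun j => (S.f₁ e e)⁻¹ • (S.f₁ e ∘ₗ TensorInv.col j)

theorem prl_emb (e : Fin 3 → F) (v : Fin 4 → F) (x : Fin 3 → F) :
    S.prl e (emb v x) = ((S.f₁ e e)⁻¹ * S.f₁ e x) • v := by
  funext j
  have hc : TensorInv.col j (emb v x) = v j • x := funext fun i => mul_comm _ _
  simp [prl, hc]
  ring

/-- The fixed points of a half-turn. -/
theorem eq_emb_of_turn_fix {e : Fin 3 → F} (he : S.f₁ e e ≠ 0) {z : V F 3 4}
    (hz : act (kr (S.turn e) (1 : GL (Fin 4) F)) z = z) : z = emb (S.prl e z) e := by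
  have h : ∀ z, act (kr (S.turn e) (1 : GL (Fin 4) F)) z + z = (2 : F) • emb (S.prl e z) e := by
    intro z
    refine ext_emb (f := act (kr (S.turn e) (1 : GL (Fin 4) F)) + LinearMap.id)
      (g := (2 : F) • (TensorInv.embR e ∘ₗ S.prl e)) (fun v x => ?_) z
    simp only [LinearMap.add_apply, LinearMap.id_apply, LinearMap.smul_apply, LinearMap.comp_apply,
      act_kr, act_one, S.turn_apply, prl_emb, map_sub, map_smul, map_smul]
    show _ = (2 : F) • ((S.f₁ e e)⁻¹ * S.f₁ e x) • emb v e
    rw [smul_smul, ← map_smul, sub_add_cancel, map_smul]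
    congr 1
    ring
  have := h z
  rw [hz, ← two_smul F] at this
  exact smul_right_injective _ S.two this

end OForm

end Cfsg.Agent.OO34
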