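import Cfsg.Agent.OO34.Parabolic
import Cfsg.Agent.OO34.TurnTools
import Cfsg.Agent.Lib.Coprime.Generation

/-!
Without root elements, the centraliser in `H` of a half-turn of the first factor lies in the tensor
stabiliser (helper74).
-/

set_option autoImplicit false
set_option linter.unusedSectionVars false
set_option linter.unusedSimpArgs false

namespace Cfsg.Agent.OO34

open Matrix Cfsg.Agent.MaxSub Cfsg.Agent.TensorMax Cfsg.Agent.TensorInv Module QuadraticMap

variable {F : Type*} [Field F] [Fintype F] {S : OForm F}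
  {H : Subgroup (GL (Fin 3 × Fin 4) F)}

/-- The elements fixing `e ⊗ F⁴` pointwise. -/
def fixer (e : Fin 3 → F) : Subgroup (GL (Fin 3 × Fin 4) F) where
  carrier := {h | ∀ v : Fin 4 → F, act h (emb v e) = emb v e}
  one_mem' := fun v => act_one _
  mul_mem' := fun {a b} ha hb v => by rw [act_mul, hb, ha]
  inv_mem' := fun {a} ha v => by
    conv_lhs => rw [← ha v]
    rw [act_inv_act]

/-- An element of the tensor stabiliser fixing `e ⊗ F⁴` pointwise comes from the first factor. -/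
theorem eq_kr_left {e : Fin 3 → F} (he : e ≠ 0) {h : GL (Fin 3 × Fin 4) F}
    (hk : h ∈ Cfsg.Geo.kroneckerSubgroup 3 4 F) (hf : h ∈ fixer e) :
    ∃ g, h = kr g 1 ∧ act g e = e := by
  obtain ⟨g, k, hgk⟩ := hk
  have h' : h = kr g k := Units.ext (by rw [kr_coe]; exact hgk)
  have h1 : ∀ v, emb (act k v) (act g e) = emb v e := fun v => by
    rw [← act_kr, ← h']; exact hf v
  have h2 : ∀ v j, act k v j • act g e = v j • e := fun v j => by
    have := congrArg (TensorInv.col (a := 3) j) (h1 v)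
    have hc : ∀ (v : Fin 4 → F) (x : Fin 3 → F), TensorInv.col j (emb v x) = v j • x :=
      fun v x => funext fun i => mul_comm _ _
    rwa [hc, hc] at this
  set c := act k (Pi.single 0 1) 0 with hc
  have h3 : c • act g e = e := by
    have := h2 (Pi.single 0 1) 0
    rwa [Pi.single_eq_same, one_smul] at this
  have hc0 : c ≠ 0 := fun h0 => he (by rw [← h3, h0, zero_smul])
  have hkc : ∀ v, act k v = c • v := fun v => funext fun j => by
    have h4 := h2 v j
    nth_rewrite 2 [← h3] at h4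
    rw [smul_smul] at h4
    have h5 := smul_left_injective F (fun h0 => he (by rw [← h3, h0, smul_zero]) : act g e ≠ 0) h4
    rw [Pi.smul_apply, smul_eq_mul, mul_comm]
    exact h5
  refine ⟨mkGL (c • act g) (c⁻¹ • act g⁻¹)
    (fun x => by rw [LinearMap.smul_apply, LinearMap.smul_apply, map_smul, act_act_inv, smul_smul,
      mul_inv_cancel₀ hc0, one_smul])
    (fun x => by rw [LinearMap.smul_apply, LinearMap.smul_apply, map_smul, act_inv_act, smul_smul,
      inv_mul_cancel₀ hc0, one_smul]), ?_, ?_⟩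
  · refine gl_ext_emb fun v x => ?_
    rw [h', act_kr, act_kr, act_one, hkc, act_apply (mkGL _ _ _ _), mkGL_mulVec,
      LinearMap.smul_apply, emb_smul_comm]
  · rw [act_apply (mkGL _ _ _ _), mkGL_mulVec, LinearMap.smul_apply, h3]

/-- The first factor of an isometry preserves the form. -/
theorem form_of_kr_left {g : GL (Fin 3) F}
    (h : kr g (1 : GL (Fin 4) F) ∈ Cfsg.isometryGroup F ⇑S.Q) (x y : Fin 3 → F) :
    S.f₁ (act g x) (act g y) = S.f₁ x y := by
  obtain ⟨v, hv⟩ := S.sym₂.exists_aniso (by norm_num)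
  have := S.polar_iso h (emb v x) (emb v y)
  rw [act_kr, act_kr, act_one, S.polar_emb, S.polar_emb] at this
  exact mul_right_cancel₀ hv this

/-- An element of the first factor acting trivially has trivial power. -/
theorem eq_one_of_kr_eq {g : GL (Fin 3) F} (h : kr g (1 : GL (Fin 4) F) = 1) : g = 1 := by
  refine gl_ext fun x => ?_
  show act g x = act (1 : GL (Fin 3) F) x
  rw [act_one]
  have := congrArg (fun M => act M (emb (Pi.single (0 : Fin 4) (1 : F)) x)) h
  simp only [act_kr, act_one] at this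
  exact emb_injective (by simp) this

variable (O : Over S H) (hR : ¬ Root S H)
include O hR

/-- The centraliser of a half-turn lies in the tensor stabiliser. -/
theorem kron_of_comm_turn {e : Fin 3 → F} (he : S.f₁ e e ≠ 0) {h : GL (Fin 3 × Fin 4) F}
    (hh : h ∈ H)
    (hc : ∀ z, act h (act (kr (S.turn e) 1) z) = act (kr (S.turn e) 1) (act h z)) :
    h ∈ Cfsg.Geo.kroneckerSubgroup 3 4 F := by
  classical
  obtain ⟨p, _⟩ := CharP.exists F
  haveI hp : Fact p.Prime := ⟨CharP.char_is_prime F p⟩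
  have he0 : e ≠ 0 := fun h0 => he (by simp [h0])
  set X := kr (S.turn e) (1 : GL (Fin 4) F) with hX
  set Cx := Subgroup.centralizer ({X} : Set (GL (Fin 3 × Fin 4) F)) with hCx
  have hmemC : ∀ g, g ∈ Cx ↔ g * X = X * g := fun g => Subgroup.mem_centralizer_singleton_iff
  have hhC : h ∈ Cx := (hmemC h).2 (gl_ext fun z => by
    show act (h * X) z = act (X * h) z
    rw [act_mul, act_mul]; exact hc z)
  have hkC : ∀ k, kr (1 : GL (Fin 3) F) k ∈ Cx := fun k => (hmemC _).2 (by
    rw [hX, kr_mul, kr_mul, one_mul, mul_one, one_mul, mul_one])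
  set D := H ⊓ Cx ⊓ fixer e with hD
  -- a singular pair and the group of Siegel elements
  obtain ⟨n, hn, hnn⟩ := S.sym₂.exists_singular (by norm_num)
  obtain ⟨n', P⟩ := S.exists_hyp hn hnn
  set L := S.proj n n' with hL
  have hLn : ∀ v, S.f₂ n (L v) = 0 := fun v => (S.proj_mem P v).1
  let ψ : Multiplicative (Fin 4 → F) →* GL (Fin 3 × Fin 4) F :=
    { toFun := fun v => kr 1 (siegel S.f₂ n (L v.toAdd))
      map_one' := by rw [toAdd_one, map_zero, siegel_zero S.sym₂ hnn, kr_one]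
      map_mul' := fun v w => by
        rw [toAdd_mul, map_add, ← siegel_mul S.sym₂ hnn (hLn _) (hLn _), kr_mul, one_mul] }
  have hψ : ∀ v, ψ (Multiplicative.ofAdd v) = kr 1 (siegel S.f₂ n (L v)) := fun v => rfl
  set A := ψ.range with hA
  haveI : IsMulCommutative A := ⟨⟨fun a b => by
    obtain ⟨_, v, rfl⟩ := a
    obtain ⟨_, w, rfl⟩ := b
    exact Subtype.ext (by
      show ψ v * ψ w = ψ w * ψ v
      rw [← map_mul, ← map_mul, mul_comm])⟩⟩
  have hAE : ∀ a ∈ A, ∃ t, S.f₂ n t = 0 ∧ S.f₂ n' t = 0 ∧ a = kr 1 (siegel S.f₂ n t) := by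
    rintro _ ⟨v, rfl⟩
    exact ⟨L v.toAdd, (S.proj_mem P _).1, (S.proj_mem P _).2, rfl⟩
  have hsp : ∀ {n t : Fin 4 → F}, S.f₂ n n = 0 → S.f₂ n t = 0 →
      siegel S.f₂ n t ^ p = 1 := fun hnn ht => by
    rw [siegel_pow S.sym₂ hnn ht, CharP.cast_eq_zero, zero_smul, siegel_zero S.sym₂ hnn]
  have hAp : IsPGroup p A := fun a => by
    obtain ⟨t, ht, -, hat⟩ := hAE a.1 a.2
    refine ⟨1, Subtype.ext ?_⟩
    show (a : GL (Fin 3 × Fin 4) F) ^ p ^ 1 = 1
    rw [pow_one, hat, kr_pow, one_pow, hsp hnn ht, kr_one]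
  have hnotcyc : ¬ IsCyclic A := by
    intro hcyc
    obtain ⟨t₀, ht0, hts⟩ := exists_perp S.f₂ ![n, n'] (by norm_num)
    have ht₀ : S.f₂ n t₀ = 0 := hts 0
    have ht₀' : S.f₂ n' t₀ = 0 := hts 1
    obtain ⟨t₁, ht1, hts'⟩ := exists_perp S.f₂ ![n, n', t₀] (by norm_num)
    have ht₁ : S.f₂ n t₁ = 0 := hts' 0
    have ht₁' : S.f₂ n' t₁ = 0 := hts' 1
    have h01 : S.f₂ t₀ t₁ = 0 := hts' 2
    obtain ⟨⟨_, v, rfl⟩, hv⟩ := hcyc.exists_generator
    obtain ⟨w, hw⟩ : ∃ w, w = L v.toAdd := ⟨_, rfl⟩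
    have mul : ∀ t, S.f₂ n t = 0 → S.f₂ n' t = 0 → ∃ c : F, t = c • w := by
      intro t ht ht'
      have hmem : ψ (Multiplicative.ofAdd t) ∈ A := ⟨_, rfl⟩
      obtain ⟨i, hi⟩ := Subgroup.mem_zpowers_iff.mp (hv ⟨_, hmem⟩)
      have hi' : ψ (v ^ i) = ψ (Multiplicative.ofAdd t) := by
        rw [map_zpow]; simpa using congrArg Subtype.val hi
      have hLi : L (v ^ i).toAdd = (i : F) • w := by
        rw [toAdd_zpow, map_zsmul, ← hw, ← Int.cast_smul_eq_zsmul F]
      refine ⟨i, ?_⟩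
      have h1 : ∀ s, S.f₂ n s = 0 → S.f₂ n' s = 0 →
          act (kr (1 : GL (Fin 3) F) (siegel S.f₂ n s)) (emb n' e) =
            emb (n' + s - (S.f₂ s s / 2) • n) e := fun s hs hs' => by
        rw [act_kr, act_one, siegel_apply S.sym₂ hnn hs, P.nn', S.sym₂.symm n' s, hs', one_smul,
          zero_smul, sub_zero, mul_one]
      have hiw : S.f₂ n ((i : F) • w) = 0 ∧ S.f₂ n' ((i : F) • w) = 0 := by
        rw [hw, map_smul, map_smul, (S.proj_mem P _).1, (S.proj_mem P _).2]
        simp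
      rw [show ψ (v ^ i) = kr 1 (siegel S.f₂ n (L (v ^ i).toAdd)) from rfl, hLi, hψ,
        show L t = t from S.proj_eq ht ht'] at hi'
      have h2 := congrArg (fun M => act M (emb n' e)) hi'
      simp only [h1 _ hiw.1 hiw.2, h1 t ht ht'] at h2
      have h3 : n' + (i : F) • w - (S.f₂ ((i : F) • w) ((i : F) • w) / 2) • n =
          n' + t - (S.f₂ t t / 2) • n := by
        have hinj : Function.Injective fun z : Fin 4 → F => emb z e := fun z z' hz => by
          have := congrArg (S.prl e) hz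
          simpa [OForm.prl_emb, he] using this
        exact hinj h2
      have h4 := congrArg (S.proj n n') h3
      simp only [map_add, map_sub, map_smul, S.proj_n P, S.proj_n' P, smul_zero, sub_zero,
        zero_add, S.proj_eq ht ht'] at h4
      rw [hw, hL, S.proj_eq (S.proj_mem P _).1 (S.proj_mem P _).2] at h4
      rw [hw, hL]
      exact h4.symm
    obtain ⟨a, ha⟩ := mul t₀ ht₀ ht₀'
    obtain ⟨b, hb⟩ := mul t₁ ht₁ ht₁'
    have h00 := OForm.Hyp.aniso S P ht₀ ht₀' ht0
    rw [ha, hb] at h01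
    rw [ha] at h00
    simp only [map_smul, LinearMap.smul_apply, smul_eq_mul] at h01 h00
    rcases eq_or_ne b 0 with hb0 | hb0
    · exact ht1 (by rw [hb, hb0, zero_smul])
    · refine h00 ?_
      have ha0 : a ≠ 0 := fun h => h00 (by rw [h]; ring)
      have : S.f₂ w w = 0 := by
        simpa [ha0, hb0] using h01
      rw [this]; ring
  -- `D` consists of elements of the first factor
  have hDkr : ∀ d ∈ D, d ∈ Cfsg.Geo.kroneckerSubgroup 3 4 F →
      ∃ g, d = kr g 1 ∧ act g e = e ∧ ∀ x y, S.f₁ (act g x) (act g y) = S.f₁ x y := by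
    intro d hd hk
    obtain ⟨g, rfl, hge⟩ := eq_kr_left he0 hk hd.2
    exact ⟨g, rfl, hge, form_of_kr_left (S.mem_iso_of_omega (O.le hd.1.1))⟩
  have hDcent : ∀ a ∈ A, a ≠ 1 → ∀ d ∈ D, a * d = d * a →
      d ∈ Cfsg.Geo.kroneckerSubgroup 3 4 F := by
    intro a ha ha1 d hd had
    obtain ⟨t, ht, ht', rfl⟩ := hAE a ha
    have ht0 : t ≠ 0 := fun h0 => ha1 (by rw [h0, siegel_zero S.sym₂ hnn, kr_one])
    refine kron_of_comm_siegel O hR hn hnn ht (OForm.Hyp.aniso S P ht ht' ht0) hd.1.1 fun z => ?_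
    rw [← act_mul, ← act_mul, had]
  have hAD : A ≤ Subgroup.normalizer (D : Set (GL (Fin 3 × Fin 4) F)) := by
    intro a ha
    rw [Subgroup.mem_normalizer_iff_map_conj_eq]
    refine Subgroup.eq_of_le_of_card_ge ?_
      (le_of_eq (Subgroup.card_map_of_injective (MulAut.conj a).injective).symm)
    rintro _ ⟨d, hd, rfl⟩
    obtain ⟨t, ht, -, rfl⟩ := hAE a ha
    have haH := O.siegel₂_mem hnn ht
    refine ⟨⟨H.mul_mem (H.mul_mem haH hd.1.1) (H.inv_mem haH),
      Cx.mul_mem (Cx.mul_mem (hkC _) hd.1.2) (Cx.inv_mem (hkC _))⟩, fun v => ?_⟩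
    show act (_ * d * _⁻¹) (emb v e) = emb v e
    rw [act_mul, act_mul, kr_inv, inv_one, act_kr, act_one, hd.2, act_kr, act_one, act_act_inv]
  have hpD : ¬ p ∣ Nat.card D := by
    intro hdvd
    obtain ⟨d, hd, hd1, hdp, hda⟩ := exists_centralized A D hAp hAD hdvd
    obtain ⟨a, ha⟩ : ∃ a : A, a ≠ 1 := by
      by_contra hno
      push Not at hno
      haveI : Subsingleton A := ⟨fun x y => (hno x).trans (hno y).symm⟩
      exact hnotcyc isCyclic_of_subsingleton
    obtain ⟨g, rfl, hge, hgf⟩ := hDkr d hd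
      (hDcent a.1 a.2 (fun h => ha (Subtype.ext h)) d hd (hda a.1 a.2))
    rw [kr_pow, one_pow] at hdp
    exact hd1 (by rw [eq_one_of_fix S he hgf hge (eq_one_of_kr_eq hdp), kr_one])
  have hcop : (Nat.card A).Coprime (Nat.card D) := by
    obtain ⟨k, hk⟩ := IsPGroup.iff_card.mp hAp
    rw [hk]
    exact ((Fact.out : p.Prime).coprime_iff_not_dvd.mpr hpD).pow_left k
  have hDle : D ≤ Cfsg.Geo.kroneckerSubgroup 3 4 F :=
    Coprime.le_of_centralizer_le A D _ hnotcyc hAD hcop fun a ha ha1 d hd =>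
      hDcent a ha ha1 d hd.1 (Subgroup.mem_centralizer_singleton_iff.mp hd.2).symm
  -- the restriction to `e ⊗ F⁴`
  have hfixX : ∀ v, act X (emb v e) = emb v e := fun v => by
    rw [hX, act_kr, act_one, S.turn_self he]
  let Am : (Fin 4 → F) →ₗ[F] (Fin 4 → F) := S.prl e ∘ₗ act h ∘ₗ TensorInv.embR e
  have hAm : ∀ v, act h (emb v e) = emb (Am v) e := fun v =>
    S.eq_emb_of_turn_fix he (by rw [← hc, hfixX])
  have hAf : ∀ v w, S.f₂ (Am v) (Am w) = S.f₂ v w := fun v w => by
    have := S.polar_iso (S.mem_iso_of_omega (O.le hh)) (emb v e) (emb w e)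
    rw [hAm, hAm, S.polar_emb, S.polar_emb] at this
    exact mul_left_cancel₀ he this
  have hAi : Function.Injective Am := (injective_iff_map_eq_zero _).2 fun w hw =>
    S.sym₂.nd _ fun v => by rw [← hAf, hw, map_zero, LinearMap.zero_apply]
  let Ae := LinearEquiv.ofBijective Am ⟨hAi, LinearMap.injective_iff_surjective.1 hAi⟩
  let k : GL (Fin 4) F :=
    mkGL Am Ae.symm.toLinearMap (Ae.apply_symm_apply) (Ae.symm_apply_apply)
  have hk : ∀ v, act k v = Am v := fun v => mkGL_mulVec _ _ _ _ v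
  have hhk : ∀ v, act h (emb v e) = emb (act k v) e := fun v => by rw [hAm, hk]
  have hhk' : ∀ v, act h⁻¹ (emb v e) = emb (act k⁻¹ v) e := fun v => by
    apply act_injective h
    rw [act_act_inv, hhk, act_act_inv]
  set h₀ := kr 1 k⁻¹ * h with hh₀
  have hcomm : ∀ n t, S.f₂ n n = 0 → S.f₂ n t = 0 →
      ∀ z, act h₀ (act (kr 1 (siegel S.f₂ n t)) z) =
        act (kr 1 (siegel S.f₂ n t)) (act h₀ z) := by
    intro n t hnn ht
    set E := siegel S.f₂ n t with hE
    set E' := siegel S.f₂ (act k n) (act k t) with hE'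
    have hknn : S.f₂ (act k n) (act k n) = 0 := by rw [hk, hAf, hnn]
    have hknt : S.f₂ (act k n) (act k t) = 0 := by rw [hk, hk, hAf, ht]
    have hEk : k * E = E' * k := gl_ext fun x => by
      show act (k * E) x = act (E' * k) x
      rw [act_mul, act_mul, hE, hE', siegel_apply S.sym₂ hnn ht,
        siegel_apply S.sym₂ hknn hknt]
      simp only [map_add, map_sub, map_smul, hk, hAf]
    set u := h * kr 1 E * h⁻¹ with hu
    set d := u * (kr (1 : GL (Fin 3) F) E')⁻¹ with hd
    have hdD : d ∈ D := by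
      refine ⟨⟨H.mul_mem (H.mul_mem (H.mul_mem hh (O.siegel₂_mem hnn ht)) (H.inv_mem hh))
          (H.inv_mem (O.siegel₂_mem hknn hknt)),
        Cx.mul_mem (Cx.mul_mem (Cx.mul_mem hhC (hkC _)) (Cx.inv_mem hhC))
          (Cx.inv_mem (hkC _))⟩, fun v => ?_⟩
      show act d (emb v e) = emb v e
      rw [hd, hu, act_mul, act_mul, act_mul, kr_inv, inv_one, act_kr, act_one, hhk', act_kr,
        act_one, hhk, ← act_mul, ← act_mul, ← act_mul,
        show k * E * k⁻¹ * E'⁻¹ = 1 by rw [hEk]; group, act_one]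
    obtain ⟨g, hdg, hge, hgf⟩ := hDkr d hdD (hDle hdD)
    have hug : u = kr g E' := by
      rw [← inv_mul_cancel_right u (kr (1 : GL (Fin 3) F) E'), ← hd, hdg, kr_mul, mul_one, one_mul]
    have hg1 : g = 1 := by
      have h1 : u ^ p = 1 := by
        rw [hu, conj_pow, kr_pow, one_pow, hsp hnn ht, kr_one, mul_one, mul_inv_cancel]
      rw [hug, kr_pow, hsp hknn hknt] at h1
      exact eq_one_of_fix S he hgf hge (eq_one_of_kr_eq h1)
    have heq : h₀ * kr 1 E = kr 1 E * h₀ := by
      rw [hh₀, mul_assoc, show h * kr 1 E = u * h by rw [hu]; group, hug, hg1, ← mul_assoc,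
        ← mul_assoc, kr_mul, kr_mul, one_mul, show k⁻¹ * E' = E * k⁻¹ by
          rw [inv_mul_eq_iff_eq_mul, ← mul_assoc, hEk, mul_inv_cancel_right]]
    intro z
    rw [← act_mul, ← act_mul, heq]
  -- `h₀` acts on the first factor only
  obtain ⟨t₀, ht0, hts⟩ := exists_perp S.f₂ ![n, n'] (by norm_num)
  have htt := OForm.Hyp.aniso S P (hts 0) (hts 1) ht0
  let g : (Fin 3 → F) →ₗ[F] (Fin 3 → F) := S.pr n' ∘ₗ act h₀ ∘ₗ emb n
  let g' : (Fin 3 → F) →ₗ[F] (Fin 3 → F) := S.pr n ∘ₗ act h₀ ∘ₗ emb n'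
  have hg : ∀ x, act h₀ (emb n x) = emb n (g x) := fun x => by
    obtain ⟨y, hy⟩ := line_of_comm hn hnn (hts 0) htt (hcomm n t₀ hnn (hts 0)) x
    simp only [g, LinearMap.comp_apply, hy, S.pr_emb, P.n'n, one_smul]
  have hg' : ∀ x, act h₀ (emb n' x) = emb n' (g' x) := fun x => by
    obtain ⟨y, hy⟩ := line_of_comm P.symm.ne P.n'n' (hts 1) htt (hcomm n' t₀ P.n'n' (hts 1)) x
    simp only [g', LinearMap.comp_apply, hy, S.pr_emb, P.nn', one_smul]
  have hmove : ∀ t, S.f₂ n t = 0 → S.f₂ n' t = 0 → ∀ x,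
      act h₀ (emb t x) = emb t (g' x) + (S.f₂ t t / 2) • emb n (g x - g' x) := by
    intro t ht ht' x
    have h1 := hcomm n t hnn ht (emb n' x)
    rw [hg', act_kr, act_kr, act_one, act_one, siegel_apply S.sym₂ hnn ht, P.nn',
      S.sym₂.symm n' t, ht', one_smul, zero_smul, sub_zero, mul_one, emb_sub_left, emb_add_left,
      emb_smul_left, map_sub, map_add, map_smul, hg, hg', emb_sub_left, emb_add_left,
      emb_smul_left] at h1
    rw [map_sub, smul_sub]
    linear_combination (norm := module) h1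
  have hgg : ∀ x, g x = g' x := by
    intro x
    have h1 := hmove t₀ (hts 0) (hts 1) x
    have h2 := hmove (-t₀) (by rw [map_neg, show S.f₂ n t₀ = 0 from hts 0, neg_zero])
      (by rw [map_neg, show S.f₂ n' t₀ = 0 from hts 1, neg_zero]) x
    rw [emb_neg_left, emb_neg_left, map_neg (act h₀), h1, map_neg S.f₂, LinearMap.neg_apply,
      map_neg (S.f₂ t₀), neg_neg] at h2
    have h3 : (S.f₂ t₀ t₀) • emb n (g x - g' x) = 0 := by
      have h2' := S.two
      linear_combination (norm := (match_scalars <;> field_simp <;> ring)) -h2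
    rcases smul_eq_zero.1 h3 with h | h
    · exact absurd h htt
    · exact sub_eq_zero.1 (emb_injective hn (h.trans (map_zero _).symm))
  have hall : ∀ v x, act h₀ (emb v x) = emb v (g x) := by
    intro v x
    have hd := S.proj_add (n := n) (n' := n') v
    conv_lhs => rw [← hd]
    conv_rhs => rw [← hd]
    rw [emb_add_left, emb_add_left, emb_add_left, emb_add_left, emb_smul_left, emb_smul_left,
      emb_smul_left, emb_smul_left, map_add, map_add, map_smul, map_smul, hg, hg',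
      hmove _ (S.proj_mem P v).1 (S.proj_mem P v).2, ← hgg, sub_self, map_zero, smul_zero,
      add_zero]
  have hgi : Function.Injective g := fun x y hxy =>
    emb_injective hn (act_injective h₀ (by rw [hall, hall, hxy]))
  let ge := LinearEquiv.ofBijective g ⟨hgi, LinearMap.injective_iff_surjective.1 hgi⟩
  let G₁ : GL (Fin 3) F := mkGL g ge.symm.toLinearMap (ge.apply_symm_apply) (ge.symm_apply_apply)
  have h₀eq : h₀ = kr G₁ 1 := gl_ext_emb fun v x => by
    rw [hall, act_kr, act_one, show act G₁ x = g x from mkGL_mulVec _ _ _ _ x]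
  have : h = kr 1 k * kr G₁ 1 := by
    rw [← h₀eq, hh₀, ← mul_assoc, kr_mul, one_mul, mul_inv_cancel, kr_one, one_mul]
  rw [this]
  exact mul_mem (kr_mem _ _) (kr_mem _ _)

end Cfsg.Agent.OO34
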