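import Cfsg.Agent.OO34.Fusion
import Cfsg.Agent.OO34.Turn
import Cfsg.Agent.OO34.Finish
import Cfsg.Agent.TensorOO.Maximal
import Cfsg.Agent.Omega12.Minus

/-!
The stabiliser of a tensor decomposition `F³ ⊗ F⁴`, the second factor of minus type, is maximal in
`Ω` (helper70).
-/

set_option autoImplicit false
set_option linter.unusedSectionVars false
set_option linter.unusedSimpArgs false

namespace Cfsg.Agent.OO34

open Matrix hiding col
open Cfsg.Agent.MaxSub Cfsg.Agent.TensorMax Cfsg.Agent.TensorInv Module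
open Cfsg.Agent.TensorOO (phi phi_mulVec omegaGL_eq_commutator)

variable {F : Type*} [Field F] {a b : ℕ} {ι : Type} [Fintype ι] [DecidableEq ι]

/-- Transfer to a quadratic form similar to a tensor product of symmetric forms. -/
theorem transfer₂ (h2 : (2 : F) ≠ 0) (Qf : QuadraticForm F (ι → F)) (e : ι ≃ Fin a × Fin b)
    (P : GL ι F) (f₁ : (Fin a → F) → (Fin a → F) → F) (f₂ : (Fin b → F) → (Fin b → F) → F)
    (hf₁ : Cfsg.Geo.IsSymmetricForm f₁) (hf₂ : Cfsg.Geo.IsSymmetricForm f₂)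
    (hT : Cfsg.Geo.IsTensorFormStructure id (QuadraticMap.polar ⇑Qf) f₁ f₂ e P)
    (key : ∀ S : TensorOO.OForm F a b, (∀ v w, S.f₂ v w = f₂ v w) →
      Cfsg.Geo.IsMaximalIn (Cfsg.Geo.omegaGL ⇑S.quad)
        (Cfsg.Geo.kroneckerSubgroup a b F ⊓ Cfsg.Geo.omegaGL ⇑S.quad)) :
    Cfsg.Geo.IsMaximalIn (Cfsg.Geo.omegaGL ⇑Qf)
      (Cfsg.Geo.tensorProductSubgroup a b e P ⊓ Cfsg.Geo.omegaGL ⇑Qf) := by
  classical
  obtain ⟨c, hc, hT⟩ := hT
  have hb₁ := hf₁.bilinear
  have hb₂ := hf₂.bilinear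
  let S : TensorOO.OForm F a b :=
    { f₁ := c • LinearMap.mk₂ F f₁ hb₁.add_left hb₁.smul_left hb₁.add_right hb₁.smul_right
      f₂ := LinearMap.mk₂ F f₂ hb₂.add_left hb₂.smul_left hb₂.add_right hb₂.smul_right
      h₁ := ⟨fun x y => by simp [hf₁.symm x y], fun x hx => by
        by_contra h0
        obtain ⟨y, hy⟩ := (hf₁.nondegenerate x h0).2
        exact hy (by simpa [hc] using hx y), h2⟩
      h₂ := ⟨fun x y => by simp [hf₂.symm x y], fun x hx => by
        by_contra h0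
        obtain ⟨y, hy⟩ := (hf₂.nondegenerate x h0).2
        exact hy (hx y), h2⟩ }
  let L : V F a b →ₗ[F] (ι → F) :=
    (P : Matrix ι ι F).mulVecLin ∘ₗ LinearMap.funLeft F F e
  have hLs : Function.Surjective L := fun x =>
    ⟨(((P⁻¹ : GL ι F) : Matrix ι ι F) *ᵥ x) ∘ e.symm, by
      show (P : Matrix ι ι F) *ᵥ _ = x
      rw [show LinearMap.funLeft F F e _ = _ ∘ e from rfl, Function.comp_assoc,
        Equiv.symm_comp_self, Function.comp_id, MaxSub.mulVec_inv_mulVec]⟩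
  have hpol : ∀ z z', QuadraticMap.polar ⇑Qf (L z) (L z') = S.om z z' := by
    have h : ∀ v x w y, QuadraticMap.polar ⇑Qf (L (emb v x)) (L (emb w y)) =
        S.f₁ x y * S.f₂ v w := fun v x w y =>
      NotMax.form_ten (σ := RingHom.id F) hT
        (NotMax.eq_formOfGram _ hb₁.add_left hb₁.smul_left hb₁.add_right hb₁.smul_right)
        (NotMax.eq_formOfGram _ hb₂.add_left hb₂.smul_left hb₂.add_right hb₂.smul_right) x y v w
    intro z z'
    let B : V F a b →ₗ[F] V F a b →ₗ[F] F := (QuadraticMap.polarBilin Qf).compl₁₂ L L - S.omL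
    have hB : B z z' = 0 := by
      rw [eq_sum_emb z, eq_sum_emb z']
      simp only [map_sum, LinearMap.sum_apply]
      refine Finset.sum_eq_zero fun i _ => Finset.sum_eq_zero fun j _ => ?_
      show QuadraticMap.polar ⇑Qf _ _ - S.om _ _ = 0
      rw [h, S.om_emb_emb, sub_self]
    exact sub_eq_zero.1 hB
  have hQ : ∀ z, S.quad z = Qf (L z) := fun z => by
    rw [S.quad_apply, ← hpol, QuadraticMap.polar_self, nsmul_eq_mul]
    push_cast
    field_simp
  have hinj : Function.Injective (phi e P).toMonoidHom := (phi e P).injective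
  have hI : (Cfsg.isometryGroup F ⇑S.quad).map (phi e P).toMonoidHom =
      Cfsg.isometryGroup F ⇑Qf := by
    ext g
    constructor
    · rintro ⟨k, hk, rfl⟩ u _
      obtain ⟨z, rfl⟩ := hLs u
      show Qf ((phi e P k : Matrix ι ι F) *ᵥ (L z)) = Qf (L z)
      rw [show L z = (P : Matrix ι ι F) *ᵥ (z ∘ e) from rfl, phi_mulVec]
      exact (hQ _).symm.trans ((hk z 0).trans (hQ z))
    · intro hg
      refine ⟨(phi e P).symm g, fun z _ => ?_, (phi e P).apply_symm_apply g⟩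
      show S.quad _ = S.quad z
      rw [hQ, hQ, Units.coeHom_apply, show L _ = (P : Matrix ι ι F) *ᵥ (_ ∘ e) from rfl,
        ← phi_mulVec, MulEquiv.apply_symm_apply]
      exact hg _ 0
  have hΩ : (Cfsg.Geo.omegaGL ⇑S.quad).map (phi e P).toMonoidHom = Cfsg.Geo.omegaGL ⇑Qf := by
    rw [omegaGL_eq_commutator, omegaGL_eq_commutator, Subgroup.map_commutator, hI]
  have hK : (Cfsg.Geo.kroneckerSubgroup a b F ⊓ Cfsg.Geo.omegaGL ⇑S.quad).map
      (phi e P).toMonoidHom = Cfsg.Geo.tensorProductSubgroup a b e P ⊓ Cfsg.Geo.omegaGL ⇑Qf := by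
    rw [Subgroup.map_inf _ _ _ hinj, hΩ, Cfsg.Geo.tensorProductSubgroup, Subgroup.map_map]
    rfl
  obtain ⟨hlt, hmax⟩ := key S fun _ _ => rfl
  rw [← hK, ← hΩ]
  refine ⟨(Subgroup.map_lt_map_iff_of_injective hinj).mpr hlt, fun M m1 m2 => ?_⟩
  have hM : (M.comap (phi e P).toMonoidHom).map (phi e P).toMonoidHom = M :=
    Subgroup.map_comap_eq_self_of_surjective (phi e P).surjective M
  rcases hmax (M.comap (phi e P).toMonoidHom) (Subgroup.map_le_iff_le_comap.mp m1)
    (by rw [← Subgroup.map_le_map_iff_of_injective hinj, hM]; exact m2) with h | h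
  · left; rw [← hM, h]
  · right; rw [← hM, h]

/-- The tensor stabiliser is maximal. -/
theorem tensor_isMaximalIn [Fintype F] (hodd : Odd (Fintype.card F)) (hq : 5 ≤ Fintype.card F)
    {Q : (ι → F) → F} (hQ : Cfsg.Geo.IsNondegenerateQuadraticForm Q) (e : ι ≃ Fin 3 × Fin 4)
    (P : GL ι F) (f₁ : (Fin 3 → F) → (Fin 3 → F) → F) (f₂ : (Fin 4 → F) → (Fin 4 → F) → F)
    (hf₁ : Cfsg.Geo.IsSymmetricForm f₁) (hf₂ : Cfsg.Geo.IsSymmetricForm f₂)
    (hf₂m : ¬ Cfsg.Geo.IsPlusTypeOn (fun v : Fin 4 → F => f₂ v v) ⊤)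
    (hT : Cfsg.Geo.IsTensorFormStructure id (QuadraticMap.polar Q) f₁ f₂ e P) :
    Cfsg.Geo.IsMaximalIn (Cfsg.Geo.omegaGL Q)
      (Cfsg.Geo.tensorProductSubgroup 3 4 e P ⊓ Cfsg.Geo.omegaGL Q) := by
  classical
  obtain ⟨Qf, rfl, -⟩ := OrthStab.exists_form hQ
  have h2 : (2 : F) ≠ 0 := Ring.two_ne_zero fun h => Nat.not_even_iff_odd.2 hodd
    (Nat.even_iff.2 (FiniteField.even_card_of_char_two h))
  refine transfer₂ h2 Qf e P f₁ f₂ hf₁ hf₂ hT fun T hT₂ => ?_
  let S : OForm F :=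
    { f₁ := T.f₁
      f₂ := T.f₂
      sym₁ := T.h₁
      sym₂ := T.h₂
      Q := T.quad
      polar_emb := fun v w x y => by rw [T.polar_quad, T.om_emb_emb]
      five := by rwa [Nat.card_eq_fintype_card]
      minus := fun n m hnn hnm hmm hn => by
        by_contra hc
        push Not at hc
        have hli : LinearIndependent F ![n, m] :=
          (LinearIndependent.pair_iff' hn).2 fun d hd => hc d hd.symm
        refine hf₂m ⟨Submodule.span F (Set.range ![n, m]), le_top, fun w hw => ?_, ?_⟩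
        · obtain ⟨d, rfl⟩ := (Submodule.mem_span_range_iff_exists_fun F).1 hw
          show f₂ _ _ = 0
          rw [← hT₂]
          simp [Fin.sum_univ_two, hnn, hnm, hmm, T.h₂.symm n m]
        · rw [finrank_span_eq_card hli, finrank_top, Module.finrank_fin_fun, Fintype.card_fin] }
  refine ⟨lt_of_le_not_ge inf_le_right fun h => ?_, fun M h1 h2 => ?_⟩
  · obtain ⟨g, hg, hgK⟩ := TensorOO.exists_not_kronecker T le_rfl (by norm_num)
    exact hgK (h hg).1
  have O : Over S M := ⟨h2, fun g k hgk => h1 ⟨kr_mem g k, hgk⟩⟩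
  by_cases hR : Root S M
  · exact Or.inr (le_antisymm h2 (omega_le_of_root O hR))
  · obtain ⟨v, hv⟩ := S.sym₁.exists_aniso (by norm_num)
    obtain ⟨R, -⟩ := exists_frame S hv
    exact Or.inl (le_antisymm (le_inf (le_kronecker O fun v hv h hh hc =>
      kron_of_comm_turn O hR hv hh fun z => by rw [← act_mul, hc, act_mul]) h2) h1)

end Cfsg.Agent.OO34
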