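import Cfsg.Agent.OO34.Frame

/-!
Half-turns and frames: existence of frames and membership of the half-turns in `Ω` (helper70).
-/

set_option autoImplicit false
set_option linter.unusedSectionVars false
set_option linter.unusedSimpArgs false

namespace Cfsg.Agent.OO34

open Matrix Cfsg.Agent.MaxSub Cfsg.Agent.TensorMax Cfsg.Agent.TensorInv Module QuadraticMap

variable {F : Type*} [Field F] (S : OForm F)

/-- An anisotropic vector of a symmetric form starts an orthogonal basis. -/
theorem exists_basis_from {m : ℕ} {f : (Fin (m + 1) → F) →ₗ[F] (Fin (m + 1) → F) →ₗ[F] F}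
    (hf : Sym f) {v : Fin (m + 1) → F} (hv : f v v ≠ 0) :
    ∃ e : Fin (m + 1) → (Fin (m + 1) → F), Fam f e ∧ e 0 = v := by
  have : ∀ k, k ≤ m → ∃ e : Fin (k + 1) → (Fin (m + 1) → F), Fam f e ∧ e 0 = v := by
    intro k hk
    induction k with
    | zero => exact ⟨fun _ => v, ⟨fun _ => hv, fun i j h => absurd (Fin.ext (by omega)) h⟩, rfl⟩
    | succ k ih =>
      obtain ⟨e, he, he0⟩ := ih (by omega)
      obtain ⟨u, hu, hue⟩ := hf.exists_aniso_fam he (by omega)
      refine ⟨Fin.snoc e u, ⟨fun i => ?_, fun i j hij => ?_⟩, ?_⟩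
      · refine Fin.lastCases ?_ (fun i => ?_) i
        · simpa using hu
        · simpa using he.aniso i
      · revert hij
        refine Fin.lastCases ?_ (fun i => ?_) i <;> refine Fin.lastCases ?_ (fun j => ?_) j
        · simp
        · intro _; simpa [hf.symm u] using hue j
        · intro _; simpa using hue i
        · intro h
          simpa using he.orth i j fun h' => h (by rw [h'])
      · rw [← Fin.castSucc_zero, Fin.snoc_castSucc, he0]
  exact this m le_rfl

/-- A frame through an anisotropic vector of `F³`. -/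
theorem exists_frame {v : Fin 3 → F} (hv : S.f₁ v v ≠ 0) : ∃ R : Frame S, R.e 0 = v := by
  obtain ⟨e, he, he0⟩ := exists_basis_from S.sym₁ hv
  obtain ⟨u, hu⟩ := S.sym₂.exists_aniso (by norm_num)
  obtain ⟨l, hl, -⟩ := exists_basis_from S.sym₂ hu
  exact ⟨⟨e, l, he, hl⟩, he0⟩

namespace Frame

variable {S} (R : Frame S)

/-- The sign vector of the half-turn about the `k`-th vector. -/
def tv (k : Fin 3) : Fin 3 → Bool := fun j => decide (j ≠ k)

theorem kr_turn (k : Fin 3) : kr (S.turn (R.e k)) 1 = R.D (tv k) (fun _ => false) := by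
  refine R.ext fun i => ?_
  rw [R.D_p, Frame.p, act_kr, act_one, S.turn_apply, tbl, tv]
  by_cases h : i.1 = k
  · simp only [ne_eq, h, not_true_eq_false, decide_false, Bool.xor_false, sig_false, one_smul]
    rw [mul_div_assoc, div_self (R.he.aniso k), mul_one, two_smul, add_sub_cancel_right]
  · simp only [ne_eq, h, not_false_eq_true, decide_true, Bool.xor_false, sig_true]
    rw [R.he.orth k i.1 (Ne.symm h), mul_zero, zero_div, zero_smul, zero_sub, map_neg]
    simp

/-- An even table constant along `F⁴` gives an element of `Ω`. -/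
theorem D_mem_left [Fintype F] {a : Fin 3 → Bool}
    (ha : Even (Finset.univ.filter fun k => a k = true).card) :
    R.D a (fun _ => false) ∈ Geo.omegaGL ⇑S.Q := by
  classical
  have hT : (Finset.univ.filter fun i : Fin 3 × Fin 4 => tbl a (fun _ => false) i = true) =
      (Finset.univ.filter fun k => a k = true) ×ˢ (Finset.univ : Finset (Fin 4)) := by
    ext i; simp [tbl]
  refine R.D_mem ?_ ?_
  · rw [hT, Finset.card_product, Finset.card_univ, Fintype.card_fin]
    exact (show Even 4 by decide).mul_left _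
  · rw [hT, Finset.prod_product]
    have hsplit : ∀ k m, S.Q (R.p (k, m)) =
        (S.f₁ (R.e k) (R.e k) / 2) * S.f₂ (R.l m) (R.l m) := fun k m => by
      rw [R.Q_p]; ring
    simp only [hsplit, Finset.prod_mul_distrib, Finset.prod_const, Finset.card_univ,
      Fintype.card_fin]
    obtain ⟨j, hj⟩ := ha
    rw [hj, ← two_mul, Finset.prod_pow]
    exact ((show Even 4 by decide).isSquare_pow _).mul ((even_two_mul j).isSquare_pow _) 

theorem tv_even (k : Fin 3) : Even (Finset.univ.filter fun j => tv k j = true).card := by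
  revert k; decide

theorem turn_mem [Fintype F] (k : Fin 3) : kr (S.turn (R.e k)) 1 ∈ Geo.omegaGL ⇑S.Q := by
  rw [R.kr_turn]; exact R.D_mem_left (tv_even k)

end Frame

/-- Half-turns lie in `Ω`. -/
theorem turn_mem [Fintype F] {v : Fin 3 → F} (hv : S.f₁ v v ≠ 0) :
    kr (S.turn v) 1 ∈ Geo.omegaGL ⇑S.Q := by
  obtain ⟨R, rfl⟩ := exists_frame S hv
  exact R.turn_mem 0

theorem turn_mem_over [Fintype F] {H : Subgroup (GL (Fin 3 × Fin 4) F)} (O : Over S H)
    {v : Fin 3 → F} (hv : S.f₁ v v ≠ 0) : kr (S.turn v) 1 ∈ H :=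
  O.kr_mem _ _ (turn_mem S hv)

end Cfsg.Agent.OO34
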