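import Cfsg.Agent.OO34.Split

/-!
Normal forms of the involutions of the tensor stabiliser commuting with diagonal elements of a
frame (helper70).
-/

set_option autoImplicit false
set_option linter.unusedSectionVars false
set_option linter.unusedSimpArgs false
set_option linter.unusedVariables false

namespace Cfsg.Agent.OO34

open Matrix Cfsg.Agent.MaxSub Cfsg.Agent.TensorMax Cfsg.Agent.TensorInv Module QuadraticMap

variable {F : Type*} [Field F]

section Refine

variable {m : ℕ} {f : (Fin m → F) →ₗ[F] (Fin m → F) →ₗ[F] F}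
variable (hf : Sym f) {w : Fin m → (Fin m → F)} (hw : Fam f w)
include hf hw

/-- Two maps agreeing on an orthogonal basis are equal. -/
theorem ext_basis {K L : (Fin m → F) →ₗ[F] (Fin m → F)} (h : ∀ i, K (w i) = L (w i))
    (x : Fin m → F) : K x = L x := by
  have hx : x = ∑ i, ((f (w i) (w i))⁻¹ * f (w i) x) • w i := by
    refine sub_eq_zero.1 (hf.eq_zero_of_basis hw fun j => ?_)
    rw [map_sub, map_sum, Finset.sum_eq_single j]
    · rw [map_smul, smul_eq_mul, mul_comm _ (f (w j) x), mul_assoc,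
        inv_mul_cancel₀ (hw.aniso j), mul_one, sub_self]
    · intro i _ hi
      rw [map_smul, hw.orth j i (Ne.symm hi), smul_zero]
    · simp
  rw [hx, map_sum, map_sum]
  exact Finset.sum_congr rfl fun i _ => by rw [map_smul, map_smul, h]

theorem sgnMap_congr {w' : Fin m → (Fin m → F)} (hw' : Fam f w') {a : Fin m → Bool}
    (h : ∀ i, sgnMap f w a (w' i) = sig F (a i) • w' i) (x : Fin m → F) :
    sgnMap f w' a x = sgnMap f w a x :=
  ext_basis hf hw' (fun i => by rw [sgnMap_basis hf hw', h]) x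

theorem sgnMap_congr_patterns {a : Fin m → Bool} {x : Fin m → F} {σ : Bool}
    (hx : ∀ j, a j ≠ σ → f (w j) x = 0) : sgnMap f w a x = sig F σ • x := by
  refine sub_eq_zero.1 (hf.eq_zero_of_basis hw fun j => ?_)
  rw [map_sub, map_smul, smul_eq_mul, perp_sgnMap hf hw]
  by_cases hj : a j = σ
  · rw [hj, sub_self]
  · rw [hx j hj, mul_zero, mul_zero, sub_self]

/-- An involution commuting with an element of a frame has eigenvectors in one of its two
eigenspaces, and the frame can be changed inside this eigenspace only. -/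
theorem refine_class (k : (Fin m → F) →ₗ[F] (Fin m → F)) (hk : ∀ x y, f (k x) (k y) = f x y)
    (hkk : ∀ x, k (k x) = x) {a : Fin m → Bool}
    (hc : ∀ x, k (sgnMap f w a x) = sgnMap f w a (k x)) :
    ∃ w', Fam f w' ∧ (∀ x, sgnMap f w' a x = sgnMap f w a x) ∧
      (∀ i, a i = true → w' i = w i) ∧ ∀ i, a i = false → ∃ b, k (w' i) = sig F b • w' i := by
  classical
  have h2 := hf.two
  set s := sgnMap f w a with hsdef
  have hss : ∀ x, s (s x) = x := sgnMap_sgnMap hf hw a
  have hkadj : ∀ x y, f (k x) y = f x (k y) := fun x y => by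
    conv_lhs => rw [← hkk y, hk]
  have hsadj : ∀ x y, f (s x) y = f x (s y) := fun x y => by
    simp only [hsdef, sgnMap_apply, map_sum, map_smul, LinearMap.sum_apply, LinearMap.smul_apply,
      smul_eq_mul]
    exact Finset.sum_congr rfl fun i _ => by rw [hf.symm (w i) x]; ring
  let K : (Fin m → F) →ₗ[F] (Fin m → F) :=
    (2 : F)⁻¹ • (k + k ∘ₗ s + LinearMap.id - s)
  have hKdef : ∀ x, K x = (2 : F)⁻¹ • (k x + k (s x) + x - s x) := fun x => rfl
  have hKK : ∀ x, K (K x) = x := fun x => by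
    rw [hKdef, hKdef]
    simp only [map_smul, map_add, map_sub, hkk, hc, hss]
    match_scalars <;> field_simp <;> ring
  have hKadj : ∀ x y, f (K x) y = f x (K y) := fun x y => by
    rw [hKdef, hKdef]
    simp only [map_smul, map_add, map_sub, LinearMap.smul_apply, LinearMap.add_apply,
      LinearMap.sub_apply, hkadj, hsadj, ← hc]
  have hKiso : ∀ x y, f (K x) (K y) = f x y := fun x y => by rw [hKadj, hKK]
  set w₁ : Fin (Fintype.card {i // a i = true}) → (Fin m → F) :=
    fun r => w ((Fintype.equivFin {i // a i = true}).symm r).1 with hw₁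
  have hfam : Fam f w₁ := ⟨fun r => hw.aniso _, fun r r' h => hw.orth _ _ fun h' =>
    h ((Fintype.equivFin _).symm.injective (Subtype.ext h'))⟩
  have hKw : ∀ r, K (w₁ r) = (1 : F) • w₁ r := fun r => by
    have e := sgnMap_basis hf hw a ((Fintype.equivFin {i // a i = true}).symm r).1
    rw [((Fintype.equivFin {i // a i = true}).symm r).2, sig_true] at e
    rw [hKdef, hw₁, hsdef, e, map_smul]
    match_scalars <;> field_simp <;> ring
  obtain ⟨e, σ, ι, he, hKe, hσ, hι, -, hιinj⟩ := hf.exists_eigen_basis hfam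
    (by simpa using Fintype.card_subtype_le (fun i => a i = true)) K hKiso hKK (fun _ => 1) hKw
    (fun _ => one_mul 1)
  let j : {i // a i = true} → Fin m := fun i => ι (Fintype.equivFin {i // a i = true} i)
  have hj : Function.Injective j := hιinj.comp (Fintype.equivFin {i // a i = true}).injective
  have hje : ∀ i, e (j i) = w i.1 := fun i => by
    simp only [j, hι, hw₁, Equiv.symm_apply_apply]
  let π : Equiv.Perm (Fin m) :=
    Equiv.extendSubtype (p := fun i => a i = true) (q := fun i => i ∈ Set.range j)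
      (Equiv.ofInjective j hj)
  have hπ : ∀ i, ∀ h : a i = true, π i = j ⟨i, h⟩ := fun i h => by
    simp only [π]
    rw [Equiv.extendSubtype_apply_of_mem _ i h]
    rfl
  have hπw : ∀ i, a i = true → e (π i) = w i := fun i h => by rw [hπ i h, hje]
  have hfam' : Fam f (fun i => e (π i)) :=
    ⟨fun i => he.aniso _, fun i i' h => he.orth _ _ (π.injective.ne h)⟩
  have hperp : ∀ i, a i = false → ∀ l, a l ≠ false → f (w l) (e (π i)) = 0 := fun i hi l hl => by
    rw [← hπw l (by simpa using hl)]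
    exact he.orth _ _ (π.injective.ne fun h => hl (by rw [h, hi]))
  have hsgn : ∀ i, s (e (π i)) = sig F (a i) • e (π i) := fun i => by
    cases hi : a i
    · exact sgnMap_congr_patterns hf hw (hperp i hi)
    · rw [hπw i hi, hsdef, sgnMap_basis hf hw, hi]
  refine ⟨fun i => e (π i), hfam', sgnMap_congr hf hw hfam' hsgn, hπw, fun i hi => ?_⟩
  have h3 : k (e (π i)) = σ (π i) • e (π i) := by
    rw [← hKe, hKdef, hsgn, hi, sig_false, one_smul]
    match_scalars <;> field_simp <;> ring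
  rcases mul_self_eq_one_iff.1 (hσ (π i)) with h | h
  · exact ⟨false, by rw [h3, h, sig_false]⟩
  · exact ⟨true, by rw [h3, h, sig_true]⟩

/-- An involution commuting with an element of a frame is diagonal in a frame of this element. -/
theorem refine_frame (k : (Fin m → F) →ₗ[F] (Fin m → F)) (hk : ∀ x y, f (k x) (k y) = f x y)
    (hkk : ∀ x, k (k x) = x) {a : Fin m → Bool}
    (hc : ∀ x, k (sgnMap f w a x) = sgnMap f w a (k x)) :
    ∃ w', Fam f w' ∧ (∀ x, sgnMap f w' a x = sgnMap f w a x) ∧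
      ∃ b, ∀ x, k x = sgnMap f w' b x := by
  classical
  obtain ⟨w', hw', hs', -, he'⟩ := refine_class hf hw k hk hkk hc
  have hflip : ∀ x, sgnMap f w' (fun i => !a i) x = -sgnMap f w' a x := fun x =>
    ext_basis hf hw' (L := -sgnMap f w' a) (fun i => by
      rw [LinearMap.neg_apply, sgnMap_basis hf hw', sgnMap_basis hf hw']
      cases a i <;> simp) x
  obtain ⟨w'', hw'', hs'', hkeep, he''⟩ := refine_class hf hw' k hk hkk (a := fun i => !a i)
    (fun x => by rw [hflip, hflip, map_neg, hs', hs', hc])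
  have hflip' : ∀ x, sgnMap f w'' (fun i => !a i) x = -sgnMap f w'' a x := fun x =>
    ext_basis hf hw'' (L := -sgnMap f w'' a) (fun i => by
      rw [LinearMap.neg_apply, sgnMap_basis hf hw'', sgnMap_basis hf hw'']
      cases a i <;> simp) x
  have heig : ∀ i, ∃ b, k (w'' i) = sig F b • w'' i := fun i => by
    cases hi : a i
    · obtain ⟨b, hb⟩ := he' i hi
      exact ⟨b, by rw [hkeep i (by simp [hi]), hb]⟩
    · exact he'' i (by simp [hi])
  choose b hb using heig
  refine ⟨w'', hw'', fun x => ?_, b, fun x =>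
    ext_basis hf hw'' (fun i => by rw [hb, sgnMap_basis hf hw'']) x⟩
  rw [← hs', ← neg_neg (sgnMap f w'' a x), ← hflip', hs'', hflip, neg_neg]

/-- An involution commuting with elements of a frame separating its vectors is diagonal. -/
theorem diag_of_separated (k : (Fin m → F) →ₗ[F] (Fin m → F)) (hkk : ∀ x, k (k x) = x)
    {a a' : Fin m → Bool} (hsep : ∀ i j, a i = a j → a' i = a' j → i = j)
    (hc : ∀ x, k (sgnMap f w a x) = sgnMap f w a (k x))
    (hc' : ∀ x, k (sgnMap f w a' x) = sgnMap f w a' (k x)) :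
    ∃ b, ∀ x, k x = sgnMap f w b x := by
  have h2 := hf.two
  have key : ∀ c : Fin m → Bool, (∀ x, k (sgnMap f w c x) = sgnMap f w c (k x)) →
      ∀ i j, c i ≠ c j → f (w i) (k (w j)) = 0 := fun c hcc i j hij => by
    have h := congrArg (f (w i)) (hcc (w j))
    rw [sgnMap_basis hf hw, map_smul, map_smul, smul_eq_mul, perp_sgnMap hf hw] at h
    revert hij h
    cases c i <;> cases c j <;> simp <;> intro h <;>
      exact (mul_eq_zero.1 (show (2 : F) * f (w i) (k (w j)) = 0 by
        first | linear_combination h | linear_combination -h)).resolve_left h2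
  have heig : ∀ j, ∃ c : F, k (w j) = c • w j := fun j => by
    refine ⟨(f (w j) (w j))⁻¹ * f (w j) (k (w j)), sub_eq_zero.1 (hf.eq_zero_of_basis hw fun i => ?_)⟩
    rw [map_sub, map_smul, smul_eq_mul]
    by_cases hij : i = j
    · subst hij
      rw [mul_comm _ (f (w i) (k (w i))), mul_assoc, inv_mul_cancel₀ (hw.aniso i), mul_one, sub_self]
    · rw [hw.orth i j hij, mul_zero, sub_zero]
      by_cases h1 : a i = a j
      · exact key a' hc' i j fun h3 => hij (hsep i j h1 h3)
      · exact key a hc i j h1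
  have heig' : ∀ j, ∃ b, k (w j) = sig F b • w j := fun j => by
    obtain ⟨c, hcj⟩ := heig j
    have h := hkk (w j)
    rw [hcj, map_smul, hcj, smul_smul] at h
    have h3 := congrArg (f (w j)) h
    rw [map_smul, smul_eq_mul] at h3
    rcases mul_self_eq_one_iff.1 (mul_right_cancel₀ (hw.aniso j) (h3.trans (one_mul _).symm))
      with h | h
    · exact ⟨false, by rw [hcj, h, sig_false]⟩
    · exact ⟨true, by rw [hcj, h, sig_true]⟩
  choose b hb using heig'
  exact ⟨b, fun x => ext_basis hf hw (fun i => by rw [hb, sgnMap_basis hf hw]) x⟩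

theorem sgnMap_zero (x : Fin m → F) : sgnMap f w (fun _ => false) x = x :=
  ext_basis hf hw (L := LinearMap.id) (fun i => by simp [sgnMap_basis hf hw]) x

end Refine

namespace Frame

variable {S : OForm F} (R : Frame S)

theorem act_sgn_sgn₁ (a : Fin 3 → Bool) (x : Fin 3 → F) :
    act (sgn S.sym₁ R.he a) (act (sgn S.sym₁ R.he a) x) = x := by
  rw [sgn_apply, sgn_apply, sgnMap_sgnMap S.sym₁ R.he]

/-- Permuting a frame. -/
def perm (σ : Equiv.Perm (Fin 3)) (τ : Equiv.Perm (Fin 4)) : Frame S :=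
  ⟨fun i => R.e (σ i), fun i => R.l (τ i),
    ⟨fun i => R.he.aniso _, fun i j h => R.he.orth _ _ (σ.injective.ne h)⟩,
    ⟨fun i => R.hl.aniso _, fun i j h => R.hl.orth _ _ (τ.injective.ne h)⟩⟩

theorem D_perm (σ : Equiv.Perm (Fin 3)) (τ : Equiv.Perm (Fin 4)) (a : Fin 3 → Bool)
    (b : Fin 4 → Bool) : (R.perm σ τ).D (fun i => a (σ i)) (fun i => b (τ i)) = R.D a b := by
  refine (R.perm σ τ).ext fun i => ?_
  rw [(R.perm σ τ).D_p]
  exact (R.D_p a b (σ i.1, τ i.2)).symm

theorem D_congr (R' : Frame S) {a : Fin 3 → Bool} {b : Fin 4 → Bool}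
    (h₁ : ∀ x, sgnMap S.f₁ R'.e a x = sgnMap S.f₁ R.e a x)
    (h₂ : ∀ x, sgnMap S.f₂ R'.l b x = sgnMap S.f₂ R.l b x) : R'.D a b = R.D a b :=
  gl_ext_emb fun v x => by
    rw [Frame.D, Frame.D, act_kr, act_kr, sgn_apply, sgn_apply, sgn_apply, sgn_apply, h₁, h₂]

theorem kr_eq_D (R' : Frame S) {g : GL (Fin 3) F} {k : GL (Fin 4) F} {a : Fin 3 → Bool}
    {b : Fin 4 → Bool} (h₁ : ∀ x, act g x = sgnMap S.f₁ R'.e a x)
    (h₂ : ∀ v, act k v = sgnMap S.f₂ R'.l b v) : kr g k = R'.D a b :=
  gl_ext_emb fun v x => by rw [Frame.D, act_kr, act_kr, sgn_apply, sgn_apply, h₁, h₂]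

theorem D_not (a : Fin 3 → Bool) (b : Fin 4 → Bool) :
    R.D (fun i => !a i) (fun i => !b i) = R.D a b :=
  R.ext fun i => by rw [R.D_p, R.D_p, tbl, tbl]; cases a i.1 <;> cases b i.2 <;> rfl

/-- An element of `Ω` diagonal in a frame has tables of even weight. -/
theorem D_normal [Fintype F] {a : Fin 3 → Bool} {b : Fin 4 → Bool}
    (h : R.D a b ∈ Geo.omegaGL ⇑S.Q) :
    ∃ a' b', Even (Finset.univ.filter fun i => a' i = true).card ∧
      Even (Finset.univ.filter fun i => b' i = true).card ∧ R.D a b = R.D a' b' := by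
  have h' := R.D_even h
  have key : ∀ (a : Fin 3 → Bool) (b : Fin 4 → Bool),
      Even (Finset.univ.filter fun i => tbl a b i = true).card →
      Even (Finset.univ.filter fun i => a i = true).card →
      Even (Finset.univ.filter fun i => b i = true).card := by
    decide +kernel
  by_cases hA : Even (Finset.univ.filter fun i => a i = true).card
  · exact ⟨a, b, hA, key a b h' hA, rfl⟩
  · have hflip : ∀ a : Fin 3 → Bool, ¬ Even (Finset.univ.filter fun i => a i = true).card →
        Even (Finset.univ.filter fun i => (!a i) = true).card := by decide +kernel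
    refine ⟨_, _, hflip a hA, key (fun i => !a i) (fun i => !b i) ?_ (hflip a hA),
      (R.D_not a b).symm⟩
    simpa [tbl] using h'

/-- The involutions of the tensor stabiliser in `Ω` commuting with a diagonal element. -/
theorem exists_normal [Fintype F] {c : GL (Fin 3 × Fin 4) F} (a₀ : Fin 3 → Bool)
    (b₀ : Fin 4 → Bool) (hK : c ∈ Geo.kroneckerSubgroup 3 4 F) (hc : c ∈ Geo.omegaGL ⇑S.Q)
    (hcc : c * c = 1) (hcom : c * R.D a₀ b₀ = R.D a₀ b₀ * c) :
    ∃ (R' : Frame S) (a : Fin 3 → Bool) (b : Fin 4 → Bool),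
      Even (Finset.univ.filter fun i => a i = true).card ∧
      Even (Finset.univ.filter fun i => b i = true).card ∧
      R'.D a₀ b₀ = R.D a₀ b₀ ∧
      R'.D a₀ (fun _ => false) = R.D a₀ (fun _ => false) ∧
      R'.D (fun _ => false) b₀ = R.D (fun _ => false) b₀ ∧ c = R'.D a b := by
  obtain ⟨g, k, rfl, hg, hk, hgi, hki⟩ :=
    S.involution_split hK (S.mem_isometry_iff.2 (S.Q_act hc)) hcc
  obtain ⟨h1, h2⟩ := S.commute_split hg (R.act_sgn_sgn₁ a₀) (g := g) hcom
  simp only [sgn_apply] at h1 h2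
  obtain ⟨e', he', hse, a, ha⟩ := refine_frame S.sym₁ R.he (act g) hgi hg h1
  obtain ⟨l', hl', hsl, b, hb⟩ := refine_frame S.sym₂ R.hl (act k) hki hk h2
  have hD := Frame.kr_eq_D (⟨e', l', he', hl'⟩ : Frame S) ha hb
  obtain ⟨a', b', ha', hb', hab⟩ := Frame.D_normal (⟨e', l', he', hl'⟩ : Frame S) (hD ▸ hc)
  exact ⟨⟨e', l', he', hl'⟩, a', b', ha', hb',
    R.D_congr (⟨e', l', he', hl'⟩ : Frame S) hse hsl,
    R.D_congr (⟨e', l', he', hl'⟩ : Frame S) hse
      (fun x => by rw [sgnMap_zero S.sym₂ hl', sgnMap_zero S.sym₂ R.hl]),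
    R.D_congr (⟨e', l', he', hl'⟩ : Frame S)
      (fun x => by rw [sgnMap_zero S.sym₁ he', sgnMap_zero S.sym₁ R.he]) hsl, hD.trans hab⟩

/-- The same when a second element separates the vectors of `F⁴`. -/
theorem exists_normal₂ [Fintype F] {c : GL (Fin 3 × Fin 4) F} (a₀ a₁ : Fin 3 → Bool)
    (b₀ b₁ : Fin 4 → Bool) (hsep : ∀ i j, b₀ i = b₀ j → b₁ i = b₁ j → i = j)
    (hK : c ∈ Geo.kroneckerSubgroup 3 4 F) (hc : c ∈ Geo.omegaGL ⇑S.Q)
    (hcc : c * c = 1) (hcom : c * R.D a₀ b₀ = R.D a₀ b₀ * c)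
    (hcom' : c * R.D a₁ b₁ = R.D a₁ b₁ * c) :
    ∃ (R' : Frame S) (a : Fin 3 → Bool) (b : Fin 4 → Bool),
      Even (Finset.univ.filter fun i => a i = true).card ∧
      Even (Finset.univ.filter fun i => b i = true).card ∧
      (∀ b', R'.D a₀ b' = R.D a₀ b') ∧ R'.l = R.l ∧ c = R'.D a b := by
  obtain ⟨g, k, rfl, hg, hk, hgi, hki⟩ :=
    S.involution_split hK (S.mem_isometry_iff.2 (S.Q_act hc)) hcc
  obtain ⟨h1, h2⟩ := S.commute_split hg (R.act_sgn_sgn₁ a₀) (g := g) hcom
  obtain ⟨-, h2'⟩ := S.commute_split hg (R.act_sgn_sgn₁ a₁) (g := g) hcom'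
  simp only [sgn_apply] at h1 h2 h2'
  obtain ⟨e', he', hse, a, ha⟩ := refine_frame S.sym₁ R.he (act g) hgi hg h1
  obtain ⟨b, hb⟩ := diag_of_separated S.sym₂ R.hl (act k) hk hsep h2 h2'
  have hD := Frame.kr_eq_D (⟨e', R.l, he', R.hl⟩ : Frame S) ha hb
  obtain ⟨a', b', ha', hb', hab⟩ := Frame.D_normal (⟨e', R.l, he', R.hl⟩ : Frame S) (hD ▸ hc)
  exact ⟨⟨e', R.l, he', R.hl⟩, a', b', ha', hb',
    fun b'' => R.D_congr (⟨e', R.l, he', R.hl⟩ : Frame S) hse (fun _ => rfl), rfl, hD.trans hab⟩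

/-- The same when two elements separate the vectors of both factors. -/
theorem exists_diag [Fintype F] {c : GL (Fin 3 × Fin 4) F} (a₀ a₁ : Fin 3 → Bool)
    (b₀ b₁ : Fin 4 → Bool) (hsepa : ∀ i j, a₀ i = a₀ j → a₁ i = a₁ j → i = j)
    (hsep : ∀ i j, b₀ i = b₀ j → b₁ i = b₁ j → i = j)
    (hK : c ∈ Geo.kroneckerSubgroup 3 4 F) (hc : c ∈ Geo.omegaGL ⇑S.Q)
    (hcc : c * c = 1) (hcom : c * R.D a₀ b₀ = R.D a₀ b₀ * c)
    (hcom' : c * R.D a₁ b₁ = R.D a₁ b₁ * c) :
    ∃ (a : Fin 3 → Bool) (b : Fin 4 → Bool),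
      Even (Finset.univ.filter fun i => a i = true).card ∧
      Even (Finset.univ.filter fun i => b i = true).card ∧ c = R.D a b := by
  obtain ⟨g, k, rfl, hg, hk, hgi, hki⟩ :=
    S.involution_split hK (S.mem_isometry_iff.2 (S.Q_act hc)) hcc
  obtain ⟨h1, h2⟩ := S.commute_split hg (R.act_sgn_sgn₁ a₀) (g := g) hcom
  obtain ⟨h1', h2'⟩ := S.commute_split hg (R.act_sgn_sgn₁ a₁) (g := g) hcom'
  simp only [sgn_apply] at h1 h2 h1' h2'
  obtain ⟨a, ha⟩ := diag_of_separated S.sym₁ R.he (act g) hg hsepa h1 h1'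
  obtain ⟨b, hb⟩ := diag_of_separated S.sym₂ R.hl (act k) hk hsep h2 h2'
  have hD := R.kr_eq_D ha hb
  obtain ⟨a', b', ha', hb', hab⟩ := R.D_normal (hD ▸ hc)
  exact ⟨a', b', ha', hb', hD.trans hab⟩

end Frame

end Cfsg.Agent.OO34
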