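import Cfsg.Agent.OO34.Engine

/-!
Centralisers in an overgroup of two commuting diagonal elements lie in the tensor stabiliser as
soon as the centralisers of half-turns do (helper70).
-/

set_option autoImplicit false
set_option linter.unusedSectionVars false
set_option linter.unusedSimpArgs false
set_option linter.unusedVariables false
set_option maxRecDepth 4000

namespace Cfsg.Agent.OO34

open Matrix Cfsg.Agent.MaxSub Cfsg.Agent.TensorMax Cfsg.Agent.TensorInv Module QuadraticMap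

variable {F : Type*} [Field F] {S : OForm F} {H : Subgroup (GL (Fin 3 × Fin 4) F)}

/-- Centralisers of half-turns lie in the tensor stabiliser. -/
def TurnGood (S : OForm F) (H : Subgroup (GL (Fin 3 × Fin 4) F)) : Prop :=
  ∀ v, S.f₁ v v ≠ 0 → ∀ h ∈ H, h * kr (S.turn v) 1 = kr (S.turn v) 1 * h →
    h ∈ Geo.kroneckerSubgroup 3 4 F

/-- The elements of `H` commuting with given diagonal elements lie in the tensor stabiliser. -/
def CentGood (S : OForm F) (H : Subgroup (GL (Fin 3 × Fin 4) F)) (R : Frame S) {n : ℕ}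
    (zs : Fin n → Tbl) : Prop :=
  ∀ h ∈ H, (∀ r, h * R.E (zs r) = R.E (zs r) * h) → h ∈ Geo.kroneckerSubgroup 3 4 F

def b₁ : Fin 4 → Bool := ![false, false, true, true]

def b₂ : Fin 4 → Bool := ![false, true, false, true]

def b₃ : Fin 4 → Bool := ![false, true, true, false]

def o₃ : Fin 3 → Bool := fun _ => false

def o₄ : Fin 4 → Bool := fun _ => false

/-- The table of a half-turn. -/
def tt (k : Fin 3) : Tbl := (Frame.tv k, o₄)

def zPure : Fin 2 → Tbl := ![(o₃, b₁), (o₃, b₂)]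

def zMixed : Fin 2 → Tbl := ![(o₃, b₁), (Frame.tv 0, b₂)]

def zTriple : Fin 2 → Tbl := ![(Frame.tv 0, b₁), (Frame.tv 1, b₂)]

theorem mem_ofFn_iff {n : ℕ} {zs : Fin n → Tbl} {P : Tbl → Prop} :
    (∀ t ∈ List.ofFn zs, P t) ↔ ∀ r, P (zs r) := by
  simp [List.mem_ofFn]

namespace Frame

variable (R : Frame S)

theorem E_spn_fn (R' : Frame S) {n : ℕ} {zs : Fin n → Tbl}
    (hz : ∀ r, R'.E (zs r) = R.E (zs r)) {s : Tbl} (hs : s ∈ spn (List.ofFn zs)) :
    R'.E s = R.E s := R.E_spn R' _ (mem_ofFn_iff.2 hz) s hs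

theorem comm_spn_fn {n : ℕ} {zs : Fin n → Tbl} {h : GL (Fin 3 × Fin 4) F}
    (hz : ∀ r, h * R.E (zs r) = R.E (zs r) * h) {s : Tbl} (hs : s ∈ spn (List.ofFn zs)) :
    h * R.E s = R.E s * h := R.comm_spn _ (mem_ofFn_iff.2 hz) s hs

theorem turn_E_mem [Fintype F] (O : Over S H) (k : Fin 3) : R.E (tt k) ∈ H := by
  rw [show R.E (tt k) = kr (S.turn (R.e k)) 1 from R.E_turn k]
  exact turn_mem_over S O (R.he.aniso k)

/-- A half-turn among the products settles the centraliser. -/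
theorem good_of_turn (hT : TurnGood S H) {h : GL (Fin 3 × Fin 4) F} (hh : h ∈ H) {n : ℕ}
    {zs : Fin n → Tbl} (hz : ∀ r, h * R.E (zs r) = R.E (zs r) * h) {k : Fin 3}
    (hk : tt k ∈ spn (List.ofFn zs)) : h ∈ Geo.kroneckerSubgroup 3 4 F := by
  refine hT _ (R.he.aniso k) h hh ?_
  rw [← show R.E (tt k) = kr (S.turn (R.e k)) 1 from R.E_turn k]
  exact R.comm_spn_fn hz hk

theorem comm_cons {n : ℕ} {zs : Fin n → Tbl} {t : Tbl} {h : GL (Fin 3 × Fin 4) F}
    (ht : h * R.E t = R.E t * h) (hz : ∀ r, h * R.E (zs r) = R.E (zs r) * h) :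
    ∀ r, h * R.E (Matrix.vecCons t zs r) = R.E (Matrix.vecCons t zs r) * h :=
  fun r => Fin.cases (by simpa using ht) (fun r => by simpa using hz r) r

theorem conj_cons (R' : Frame S) {n : ℕ} {zs : Fin n → Tbl} {t t' : Tbl}
    {h : GL (Fin 3 × Fin 4) F} (ht : h * R.E t = R'.E t' * h)
    (hz : ∀ r, h * R.E (zs r) = R.E (zs r) * h) (hR : ∀ r, R'.E (zs r) = R.E (zs r)) :
    ∀ r, h * R.E (Matrix.vecCons t zs r) = R'.E (Matrix.vecCons t' zs r) * h :=
  fun r => Fin.cases (by simpa using ht) (fun r => by simpa [hR r] using hz r) r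

theorem polar_p_prod (i : Fin 3 × Fin 4) :
    polar S.Q (R.p i) (R.p i) = S.f₁ (R.e i.1) (R.e i.1) * S.f₂ (R.l i.2) (R.l i.2) := by
  rw [R.polar_p, if_pos rfl]

/-- The square classes of two patterns occurring once. -/
theorem sq_single (R' : Frame S) {h : GL (Fin 3 × Fin 4) F}
    (hQ : ∀ z, S.Q (act h z) = S.Q z) {n : ℕ} {t t' : Fin n → Tbl}
    (hh : ∀ r, h * R.E (t r) = R'.E (t' r) * h) (c : Fin n → Bool) {i j : Fin 3 × Fin 4}
    (hi : (Finset.univ.filter fun p => ∀ r, tbl (t r).1 (t r).2 p = c r) = {i})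
    (hj : (Finset.univ.filter fun p => ∀ r, tbl (t' r).1 (t' r).2 p = c r) = {j}) :
    IsSquare (S.f₁ (R.e i.1) (R.e i.1) * S.f₂ (R.l i.2) (R.l i.2) *
      (S.f₁ (R'.e j.1) (R'.e j.1) * S.f₂ (R'.l j.2) (R'.l j.2))) := by
  have h1 := R.isSquare_prod R' hQ t t' hh c
  rwa [hi, hj, Finset.prod_singleton, Finset.prod_singleton, R.polar_p_prod, R'.polar_p_prod] at h1

end Frame

theorem isSquare_cancel {a b : F} (hb : b ≠ 0) (h : IsSquare (a * (b * b))) : IsSquare a := by
  obtain ⟨r, hr⟩ := h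
  exact ⟨r / b, by field_simp; linear_combination hr⟩

variable [Fintype F] (O : Over S H) (R : Frame S) {n : ℕ} (zs : Fin n → Tbl) (ti tx : Tbl)

include O in
/-- Diagonal elements commuting with `zs` in which the conjugates of `tx` must lie. -/
theorem image_mem (hti : R.E ti ∈ H) (htx : R.E tx ∈ H)
    (hgood : ∀ h ∈ H, (∀ r, h * R.E (zs r) = R.E (zs r) * h) → h * R.E ti = R.E ti * h →
      h ∈ Geo.kroneckerSubgroup 3 4 F)
    (hc : ∀ c ∈ H, c ∈ Geo.kroneckerSubgroup 3 4 F → c * c = 1 →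
      (∀ r, c * R.E (zs r) = R.E (zs r) * c) → c * R.E ti = R.E ti * c →
      (∃ s ∈ spn (List.ofFn zs), c = R.E s) ∨
        ∀ h ∈ H, (∀ r, h * R.E (zs r) = R.E (zs r) * h) → h * c = c * h →
          h ∈ Geo.kroneckerSubgroup 3 4 F)
    (hd : ∀ h ∈ H, (∀ r, h * R.E (zs r) = R.E (zs r) * h) → h * R.E tx ≠ R.E ti * h)
    (hdec : ∀ s ∈ spn (List.ofFn zs), s = t0 ∨
      (¬ CntEq (Matrix.vecCons tx zs) (Matrix.vecCons (tmul ti s) zs) ∧
        (¬ CntEq (Matrix.vecCons ti zs) (Matrix.vecCons (tmul ti s) zs) ∨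
          ¬ CntEq (Matrix.vecCons tx zs) (Matrix.vecCons (tmul tx s) zs))))
    {h : GL (Fin 3 × Fin 4) F} (hh : h ∈ H) (hz : ∀ r, h * R.E (zs r) = R.E (zs r) * h) :
    ∃ j, j ∈ H ∧ j ∈ Geo.kroneckerSubgroup 3 4 F ∧ j ∈ Geo.omegaGL ⇑S.Q ∧ j * j = 1 ∧
      (∀ r, j * R.E (zs r) = R.E (zs r) * j) ∧ h * R.E tx = j * h ∧
      ∀ z, S.Q (act h z) = S.Q z := by
  classical
  set L : Subgroup (GL (Fin 3 × Fin 4) F) :=
    H ⊓ Subgroup.centralizer (Set.range fun r => R.E (zs r)) with hL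
  have hmem : ∀ g, g ∈ L ↔ g ∈ H ∧ ∀ r, g * R.E (zs r) = R.E (zs r) * g := fun g => by
    rw [hL, Subgroup.mem_inf, Subgroup.mem_centralizer_iff]
    exact and_congr_right fun _ => ⟨fun h r => (h _ ⟨r, rfl⟩).symm, fun h _ ⟨r, hr⟩ =>
      hr ▸ (h r).symm⟩
  have htiL : R.E ti ∈ L := (hmem _).2 ⟨hti, fun r => R.E_comm _ _⟩
  have htxL : R.E tx ∈ L := (hmem _).2 ⟨htx, fun r => R.E_comm _ _⟩
  have hcnt : ∀ {t t' : Tbl} {g}, g ∈ L → g * R.E t = R.E t' * g →
      CntEq (Matrix.vecCons t zs) (Matrix.vecCons t' zs) := fun hg ht =>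
    R.cnt_of_conj R (R.conj_cons R ht ((hmem _).1 hg).2 fun _ => rfl)
  have key := two_class L (Geo.kroneckerSubgroup 3 4 F) {z | ∃ s ∈ spn (List.ofFn zs), z = R.E s}
    (by
      refine ⟨t0, ?_, R.E_t0.symm⟩
      generalize List.ofFn zs = l
      induction l with
      | nil => simp [spn]
      | cons g l ih => exact List.mem_append_left _ ih)
    (fun z ⟨s, hs, hzs⟩ g hg => hzs ▸ R.comm_spn_fn ((hmem g).1 hg).2 hs)
    htiL htxL (R.E_sq ti) (R.E_sq tx)
    (fun g hg he => hgood g ((hmem g).1 hg).1 ((hmem g).1 hg).2 he)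
    (fun c hc' hcK hcc hci => (hc c ((hmem c).1 hc').1 hcK hcc ((hmem c).1 hc').2 hci).imp id
      fun h g hg he => h g ((hmem g).1 hg).1 ((hmem g).1 hg).2 he)
    (fun z ⟨s, hs, hzs⟩ g hg he => by
      subst hzs
      rcases hdec s hs with rfl | ⟨h1, -⟩
      · rw [R.E_t0, mul_one] at he
        exact hd g ((hmem g).1 hg).1 ((hmem g).1 hg).2 he
      · rw [R.E_mul] at he
        exact h1 (hcnt hg he))
    (fun z ⟨s, hs, hzs⟩ hz1 => by
      subst hzs
      rcases hdec s hs with rfl | ⟨-, h1 | h1⟩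
      · exact absurd R.E_t0 hz1
      · exact Or.inl fun g hg he => h1 (hcnt hg (by rw [he, R.E_mul]))
      · exact Or.inr fun g hg he => h1 (hcnt hg (by rw [he, R.E_mul])))
    ((hmem h).2 ⟨hh, hz⟩)
  have hjH : h * R.E tx * h⁻¹ ∈ H := mul_mem (mul_mem hh htx) (inv_mem hh)
  refine ⟨_, hjH, key, O.le hjH, ?_, fun r => ?_, by rw [inv_mul_cancel_right], S.Q_act (O.le hh)⟩
  · calc h * R.E tx * h⁻¹ * (h * R.E tx * h⁻¹) = h * (R.E tx * R.E tx) * h⁻¹ := by group
      _ = 1 := by rw [R.E_sq, mul_one, mul_inv_cancel]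
  · have h1 : h⁻¹ * R.E (zs r) = R.E (zs r) * h⁻¹ := by
      rw [inv_mul_eq_iff_eq_mul, ← mul_assoc, hz, mul_inv_cancel_right]
    rw [mul_assoc, h1, ← mul_assoc, mul_assoc h, R.E_comm, ← mul_assoc, hz]
    group

include O in
/-- Two commuting elements of `F⁴`-type. -/
theorem good_pure (hT : TurnGood S H) : CentGood S H R zPure := by
  intro h hh hz
  have hsep : ∀ i j, b₁ i = b₁ j → b₂ i = b₂ j → i = j := by decide +kernel
  refine kron_of_turns (S.Q_act (O.le hh)) fun v hv => ?_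
  obtain ⟨e, he, rfl, hns⟩ := S.exists_nonsquare_pair hv
  let R₁ : Frame S := ⟨e, R.l, he, R.hl⟩
  have hR₁ : ∀ r, R₁.E (zPure r) = R.E (zPure r) :=
    Fin.forall_fin_two.2 ⟨R.E_left_congr R₁ rfl b₁, R.E_left_congr R₁ rfl b₂⟩
  have hz₁ : ∀ r, h * R₁.E (zPure r) = R₁.E (zPure r) * h := fun r => by rw [hR₁]; exact hz r
  have hclass : ∀ (a : Fin 3 → Bool) (b : Fin 4 → Bool),
      Even (Finset.univ.filter fun i => a i = true).card →
      Even (Finset.univ.filter fun i => b i = true).card →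
      (a, b) ∈ spn (List.ofFn zPure) ∨
        ∃ k, tt k ∈ spn (List.ofFn (Matrix.vecCons (a, b) zPure)) := by decide +kernel
  have hcand : ∀ (a : Fin 3 → Bool) (b : Fin 4 → Bool),
      Even (Finset.univ.filter fun i => a i = true).card →
      Even (Finset.univ.filter fun i => b i = true).card →
      CntEq (Matrix.vecCons (tt 0) zPure) (Matrix.vecCons (a, b) zPure) →
      ∃ k, (a, b) = tt k := by decide +kernel
  obtain ⟨j, hjH, hjK, hjΩ, hjj, hjz, hconj, hQ⟩ :=
    image_mem O R₁ zPure (tt 1) (tt 0) (R₁.turn_E_mem O 1) (R₁.turn_E_mem O 0)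
      (fun g hg hgz hgi => R₁.good_of_turn hT hg (zs := Matrix.vecCons (tt 1) zPure)
        (R₁.comm_cons hgi hgz) (k := 1) (by decide +kernel))
      (fun c hcH hcK hcc hcz hci => by
        obtain ⟨R', a, b, ha, hb, -, hl, rfl⟩ := R₁.exists_normal₂ o₃ o₃ b₁ b₂ hsep hcK
          (O.le hcH) hcc (hcz 0) (hcz 1)
        have hR' : ∀ r, R'.E (zPure r) = R₁.E (zPure r) :=
          Fin.forall_fin_two.2 ⟨R₁.E_left_congr R' hl b₁, R₁.E_left_congr R' hl b₂⟩
        rcases hclass a b ha hb with hs | ⟨k, hk⟩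
        · refine Or.inl ⟨(a, b), hs, ?_⟩
          rw [← R₁.E_spn_fn R' hR' hs, Frame.E]
        · exact Or.inr fun g hg hgz hgc => R'.good_of_turn hT hg
            (R'.comm_cons (t := (a, b)) hgc (fun r => by rw [hR']; exact hgz r)) hk)
      (fun g hg hgz he' => by
        refine hns (isSquare_cancel (R₁.hl.aniso 0) ?_)
        have := R₁.sq_single R₁ (S.Q_act (O.le hg)) (R₁.conj_cons R₁ he' hgz fun _ => rfl)
          (fun _ => false) (i := (0, 0)) (j := (1, 0)) (by decide +kernel) (by decide +kernel)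
        refine (congrArg IsSquare ?_).mp this
        show _ = S.f₁ (e 0) (e 0) * S.f₁ (e 1) (e 1) * _
        ring)
      (by decide +kernel) hh hz₁
  obtain ⟨R', a, b, ha, hb, -, hl, rfl⟩ := R₁.exists_normal₂ o₃ o₃ b₁ b₂ hsep hjK hjΩ hjj
    (hjz 0) (hjz 1)
  have hR' : ∀ r, R'.E (zPure r) = R₁.E (zPure r) :=
    Fin.forall_fin_two.2 ⟨R₁.E_left_congr R' hl b₁, R₁.E_left_congr R' hl b₂⟩
  obtain ⟨k, hk⟩ := hcand a b ha hb (R₁.cnt_of_conj R' (R₁.conj_cons R' (t' := (a, b)) hconj hz₁ hR'))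
  refine ⟨R'.e k, R'.he.aniso k, ?_⟩
  rw [← R'.E_turn k, ← show R₁.E (tt 0) = kr (S.turn (e 0)) 1 from R₁.E_turn 0,
    show (Frame.tv k, fun _ : Fin 4 => false) = (a, b) from hk.symm]
  exact hconj

include O in
/-- An element of `F⁴`-type and a mixed one. -/
theorem good_mixed (hT : TurnGood S H) : CentGood S H R zMixed := by
  intro h hh hz
  have hsep : ∀ i j, b₁ i = b₁ j → b₂ i = b₂ j → i = j := by decide +kernel
  have hclass : ∀ (a : Fin 3 → Bool) (b : Fin 4 → Bool),
      Even (Finset.univ.filter fun i => a i = true).card →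
      Even (Finset.univ.filter fun i => b i = true).card →
      (a, b) ∈ spn (List.ofFn zMixed) ∨
        ∃ k, tt k ∈ spn (List.ofFn (Matrix.vecCons (a, b) zMixed)) := by decide +kernel
  have hcand : ∀ (a : Fin 3 → Bool) (b : Fin 4 → Bool),
      Even (Finset.univ.filter fun i => a i = true).card →
      Even (Finset.univ.filter fun i => b i = true).card →
      CntEq (Matrix.vecCons (tt 0) zMixed) (Matrix.vecCons (a, b) zMixed) →
      ∃ k, (a, b) = tt k := by decide +kernel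
  -- the two half-turns are not conjugate, whatever the image is
  have disc : ∀ (R' : Frame S), R'.l = R.l → (∀ r, R'.E (zMixed r) = R.E (zMixed r)) →
      ∀ k : Fin 3, k ≠ 0 → ∀ g ∈ H, (∀ r, g * R.E (zMixed r) = R.E (zMixed r) * g) →
      g * R.E (tt 0) = R'.E (tt k) * g → False := by
    intro R' hl hR' k hk g hg hgz he'
    have hsingle : ∀ k : Fin 3, k ≠ 0 →
        ((Finset.univ.filter fun p => ∀ r, Frame.tbl (Matrix.vecCons (tt k) zMixed r).1
          (Matrix.vecCons (tt k) zMixed r).2 p = (fun _ => false : Fin 3 → Bool) r) = {(k, 1)}) ∧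
        ((Finset.univ.filter fun p => ∀ r, Frame.tbl (Matrix.vecCons (tt k) zMixed r).1
          (Matrix.vecCons (tt k) zMixed r).2 p = (![false, true, false] : Fin 3 → Bool) r) =
            {(k, 3)}) := by decide +kernel
    have hc := R.conj_cons R' he' hgz hR'
    have h1 := R.sq_single R' (S.Q_act (O.le hg)) hc (fun _ => false) (i := (0, 0))
      (j := (k, 1)) (by decide +kernel) (hsingle k hk).1
    have h2 := R.sq_single R' (S.Q_act (O.le hg)) hc ![false, true, false] (i := (0, 2))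
      (j := (k, 3)) (by decide +kernel) (hsingle k hk).2
    refine S.disc_nonsquare R.hl (isSquare_cancel
      (mul_ne_zero (R.he.aniso 0) (R'.he.aniso k)) ?_)
    refine (congrArg IsSquare ?_).mp (h1.mul h2)
    rw [hl]
    ring
  obtain ⟨j, hjH, hjK, hjΩ, hjj, hjz, hconj, hQ⟩ :=
    image_mem O R zMixed (tt 1) (tt 0) (R.turn_E_mem O 1) (R.turn_E_mem O 0)
      (fun g hg hgz hgi => R.good_of_turn hT hg (zs := Matrix.vecCons (tt 1) zMixed)
        (R.comm_cons hgi hgz) (k := 1) (by decide +kernel))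
      (fun c hcH hcK hcc hcz hci => by
        obtain ⟨R', a, b, ha, hb, h0, hl, rfl⟩ := R.exists_normal₂ (Frame.tv 0) o₃ b₂ b₁
          (fun i j p q => hsep i j q p) hcK (O.le hcH) hcc (hcz 1) (hcz 0)
        have hR' : ∀ r, R'.E (zMixed r) = R.E (zMixed r) :=
          Fin.forall_fin_two.2 ⟨R.E_left_congr R' hl b₁, h0 b₂⟩
        rcases hclass a b ha hb with hs | ⟨k, hk⟩
        · refine Or.inl ⟨(a, b), hs, ?_⟩
          rw [← R.E_spn_fn R' hR' hs, Frame.E]
        · exact Or.inr fun g hg hgz hgc => R'.good_of_turn hT hg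
            (R'.comm_cons (t := (a, b)) hgc (fun r => by rw [hR']; exact hgz r)) hk)
      (fun g hg hgz he' => disc R rfl (fun _ => rfl) 1 (by decide) g hg hgz he')
      (by decide +kernel) hh hz
  obtain ⟨R', a, b, ha, hb, h0, hl, rfl⟩ := R.exists_normal₂ (Frame.tv 0) o₃ b₂ b₁
    (fun i j p q => hsep i j q p) hjK hjΩ hjj (hjz 1) (hjz 0)
  have hR' : ∀ r, R'.E (zMixed r) = R.E (zMixed r) :=
    Fin.forall_fin_two.2 ⟨R.E_left_congr R' hl b₁, h0 b₂⟩
  obtain ⟨k, hk⟩ := hcand a b ha hb (R.cnt_of_conj R' (R.conj_cons R' (t' := (a, b)) hconj hz hR'))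
  have hconj' : h * R.E (tt 0) = R'.E (tt k) * h := by rw [← hk]; exact hconj
  by_cases hk0 : k = 0
  · subst hk0
    refine R.good_of_turn hT hh (zs := ![tt 0]) (k := 0) (fun r => ?_) (by decide +kernel)
    fin_cases r
    rw [show R'.E (tt 0) = R.E (tt 0) from h0 o₄] at hconj'
    exact hconj'
  · exact (disc R' hl hR' k hk0 h hh hz hconj').elim

include O in
/-- Two mixed elements. -/
theorem good_triple (hT : TurnGood S H) : CentGood S H R zTriple := by
  intro h hh hz
  have hsep : ∀ i j, b₁ i = b₁ j → b₂ i = b₂ j → i = j := by decide +kernel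
  have hsepa : ∀ i j, Frame.tv 0 i = Frame.tv 0 j → Frame.tv 1 i = Frame.tv 1 j → i = j := by
    decide +kernel
  have hclass : ∀ (a : Fin 3 → Bool) (b : Fin 4 → Bool),
      Even (Finset.univ.filter fun i => a i = true).card →
      Even (Finset.univ.filter fun i => b i = true).card →
      (a, b) ∈ spn (List.ofFn zTriple) ∨
        ∃ k, tt k ∈ spn (List.ofFn (Matrix.vecCons (a, b) zTriple)) := by decide +kernel
  have hcand : ∀ (a : Fin 3 → Bool) (b : Fin 4 → Bool),
      Even (Finset.univ.filter fun i => a i = true).card →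
      Even (Finset.univ.filter fun i => b i = true).card →
      CntEq (Matrix.vecCons (tt 0) zTriple) (Matrix.vecCons (a, b) zTriple) →
      ∃ k, (a, b) = tt k := by decide +kernel
  have disc : ∀ k : Fin 3, k ≠ 0 → ∀ g ∈ H, (∀ r, g * R.E (zTriple r) = R.E (zTriple r) * g) →
      g * R.E (tt 0) = R.E (tt k) * g → False := by
    intro k hk g hg hgz he'
    have hpat : ∀ k : Fin 3, k ≠ 0 → ∃ (c c' : Fin 3 → Bool) (m m' n n' : Fin 4),
        ((Finset.univ.filter fun p => ∀ r, Frame.tbl (Matrix.vecCons (tt 0) zTriple r).1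
          (Matrix.vecCons (tt 0) zTriple r).2 p = c r) = {(0, m)}) ∧
        ((Finset.univ.filter fun p => ∀ r, Frame.tbl (Matrix.vecCons (tt k) zTriple r).1
          (Matrix.vecCons (tt k) zTriple r).2 p = c r) = {(k, m')}) ∧
        ((Finset.univ.filter fun p => ∀ r, Frame.tbl (Matrix.vecCons (tt 0) zTriple r).1
          (Matrix.vecCons (tt 0) zTriple r).2 p = c' r) = {(0, n)}) ∧
        ((Finset.univ.filter fun p => ∀ r, Frame.tbl (Matrix.vecCons (tt k) zTriple r).1
          (Matrix.vecCons (tt k) zTriple r).2 p = c' r) = {(k, n')}) ∧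
        List.Perm [m, m', n, n'] [0, 1, 2, 3] := by
      intro k hk
      revert hk
      fin_cases k
      · exact fun h => absurd rfl h
      · exact fun _ => ⟨![false, false, false], ![false, false, true], 1, 2, 0, 3,
          by decide +kernel, by decide +kernel, by decide +kernel, by decide +kernel,
          by decide +kernel⟩
      · exact fun _ => ⟨![false, false, false], ![false, false, true], 1, 3, 0, 2,
          by decide +kernel, by decide +kernel, by decide +kernel, by decide +kernel,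
          by decide +kernel⟩
    obtain ⟨c, c', m, m', p, p', e1, e2, e3, e4, hperm⟩ := hpat k hk
    have hc := R.conj_cons R he' hgz fun _ => rfl
    have h1 := R.sq_single R (S.Q_act (O.le hg)) hc c e1 e2
    have h2 := R.sq_single R (S.Q_act (O.le hg)) hc c' e3 e4
    have hprod := (hperm.map fun m => S.f₂ (R.l m) (R.l m)).prod_eq
    simp only [List.map_cons, List.map_nil, List.prod_cons, List.prod_nil, mul_one] at hprod
    refine S.disc_nonsquare R.hl (isSquare_cancel
      (mul_ne_zero (R.he.aniso 0) (R.he.aniso k)) ?_)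
    refine (congrArg IsSquare ?_).mp (h1.mul h2)
    rw [show S.f₂ (R.l 0) (R.l 0) * S.f₂ (R.l 1) (R.l 1) *
        (S.f₂ (R.l 2) (R.l 2) * S.f₂ (R.l 3) (R.l 3)) =
      S.f₂ (R.l m) (R.l m) * (S.f₂ (R.l m') (R.l m') *
        (S.f₂ (R.l p) (R.l p) * S.f₂ (R.l p') (R.l p'))) by rw [hprod]; ring]
    ring
  obtain ⟨j, hjH, hjK, hjΩ, hjj, hjz, hconj, hQ⟩ :=
    image_mem O R zTriple (tt 1) (tt 0) (R.turn_E_mem O 1) (R.turn_E_mem O 0)
      (fun g hg hgz hgi => R.good_of_turn hT hg (zs := Matrix.vecCons (tt 1) zTriple)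
        (R.comm_cons hgi hgz) (k := 1) (by decide +kernel))
      (fun c hcH hcK hcc hcz hci => by
        obtain ⟨a, b, ha, hb, rfl⟩ := R.exists_diag (Frame.tv 0) (Frame.tv 1) b₁ b₂ hsepa hsep
          hcK (O.le hcH) hcc (hcz 0) (hcz 1)
        rcases hclass a b ha hb with hs | ⟨k, hk⟩
        · exact Or.inl ⟨_, hs, rfl⟩
        · exact Or.inr fun g hg hgz hgc => R.good_of_turn hT hg (R.comm_cons (t := (a, b)) hgc hgz) hk)
      (fun g hg hgz he' => disc 1 (by decide) g hg hgz he')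
      (by decide +kernel) hh hz
  obtain ⟨a, b, ha, hb, rfl⟩ := R.exists_diag (Frame.tv 0) (Frame.tv 1) b₁ b₂ hsepa hsep
    hjK hjΩ hjj (hjz 0) (hjz 1)
  obtain ⟨k, hk⟩ := hcand a b ha hb (R.cnt_of_conj R (R.conj_cons R (t' := (a, b)) hconj hz fun _ => rfl))
  have hconj' : h * R.E (tt 0) = R.E (tt k) * h := by rw [← hk]; exact hconj
  by_cases hk0 : k = 0
  · subst hk0
    refine R.good_of_turn hT hh (zs := ![tt 0]) (k := 0) (fun r => ?_) (by decide +kernel)
    fin_cases r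
    exact hconj'
  · exact (disc k hk0 h hh hz hconj').elim

end Cfsg.Agent.OO34
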