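import Cfsg.Agent.OO34.ParabolicScalar

/-!
Without root elements, an element of `H` stabilising a singular line `F³ ⊗ n`, or commuting with a
Siegel element of the second factor, lies in the tensor stabiliser (helper74).
-/

set_option autoImplicit false
set_option linter.unusedSectionVars false
set_option linter.unusedSimpArgs false

namespace Cfsg.Agent.OO34

open Matrix Cfsg.Agent.MaxSub Cfsg.Agent.TensorMax Cfsg.Agent.TensorInv Module QuadraticMap

variable {F : Type*} [Field F] [Fintype F] {S : OForm F}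
  {H : Subgroup (GL (Fin 3 × Fin 4) F)} {n n' : Fin 4 → F}

/-- An exponent of the elements of the line stabiliser kernel. -/
theorem InQ.exists_odd_pow {u : GL (Fin 3 × Fin 4) F} (hu : InQ S n u) (hn : S.f₂ n n = 0) :
    ∃ N : ℕ, Odd N ∧ u ^ N = 1 := by
  classical
  obtain ⟨p, _⟩ := CharP.exists F
  haveI : Fact p.Prime := ⟨CharP.char_is_prime F p⟩
  have hp2 : p ≠ 2 := by
    rintro rfl
    exact S.two CharTwo.two_eq_zero
  have hp3 : 3 ≤ p := by
    have := (Fact.out : p.Prime).two_le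
    omega
  refine ⟨p, (Fact.out : p.Prime).odd_of_ne_two hp2, Units.ext ?_⟩
  set M : Matrix (Fin 3 × Fin 4) (Fin 3 × Fin 4) F :=
    (u : Matrix (Fin 3 × Fin 4) (Fin 3 × Fin 4) F) - 1 with hM
  have hMz : ∀ z, M *ᵥ z = act u z - z := fun z => by
    rw [hM, sub_mulVec, one_mulVec, act_apply]
  have h3 : M ^ 3 = 0 := by
    refine Matrix.toLin'.injective (LinearMap.ext fun z => ?_)
    rw [Matrix.toLin'_apply, map_zero, LinearMap.zero_apply,
      show M ^ 3 = M * (M * M) by rw [pow_succ', pow_two], ← mulVec_mulVec, ← mulVec_mulVec, hMz z]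
    obtain ⟨y, hy⟩ := hu.move (act u z - z) (by rw [map_sub, hu.pr_act, sub_self])
    rw [hMz, hMz, hy, hu.fixed, sub_self]
  have hMp : M ^ p = 0 := by
    rw [show p = 3 + (p - 3) by omega, pow_add, h3, zero_mul]
  rw [Units.val_pow_eq_pow_val, Units.val_one,
    show (u : Matrix (Fin 3 × Fin 4) (Fin 3 × Fin 4) F) = 1 + M by rw [hM, add_sub_cancel],
    add_pow_char_of_commute _ (Commute.one_left M), one_pow, hMp, add_zero]

variable (O : Over S H) (hR : ¬ Root S H)
include O hR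

/-- An element stabilising a singular line lies in the tensor stabiliser. -/
theorem kron_of_line {n : Fin 4 → F} (hn : n ≠ 0) (hnn : S.f₂ n n = 0)
    {h : GL (Fin 3 × Fin 4) F} (hh : h ∈ H)
    (hline : ∀ x, ∃ y, act h (emb n x) = emb n y) :
    h ∈ Cfsg.Geo.kroneckerSubgroup 3 4 F := by
  classical
  obtain ⟨n', P⟩ := S.exists_hyp hn hnn
  set L := S.proj n n' with hLdef
  have hL := S.proj_mem P
  have hhi := S.mem_iso_of_omega (O.le hh)
  -- the map on the line
  let α : (Fin 3 → F) →ₗ[F] (Fin 3 → F) := S.pr n' ∘ₗ act h ∘ₗ emb n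
  have hα : ∀ x, act h (emb n x) = emb n (α x) := fun x => by
    obtain ⟨y, hy⟩ := hline x
    simp only [α, LinearMap.comp_apply, hy, S.pr_emb, P.n'n, one_smul]
  have hαi : Function.Injective α := fun x y hxy =>
    emb_injective P.ne (act_injective h (by rw [hα, hα, hxy]))
  have hαs : Function.Surjective α := LinearMap.injective_iff_surjective.1 hαi
  have hker : ∀ z, S.pr n z = 0 → S.pr n (act h z) = 0 := fun z hz => by
    refine S.sym₁.nd _ fun y => ?_
    obtain ⟨x, rfl⟩ := hαs y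
    rw [← S.polar_pr, ← hα, S.polar_iso hhi, S.polar_pr, hz, map_zero, LinearMap.zero_apply]
  have hker' : ∀ z, S.pr n z = 0 → S.pr n (act h⁻¹ z) = 0 := fun z hz => by
    refine S.sym₁.nd _ fun y => ?_
    rw [← S.polar_pr, ← S.polar_iso hhi, act_act_inv, hα, S.polar_pr, hz, map_zero,
      LinearMap.zero_apply]
  -- conjugating the Siegel elements back
  have himg : ∀ t, S.f₂ n t = 0 → S.f₂ n' t = 0 → ∃ t₁, S.f₂ n t₁ = 0 ∧ S.f₂ n' t₁ = 0 ∧
      ∀ z, S.pr n z = 0 → S.pr t (act h z) = α (S.pr t₁ z) := by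
    intro t ht ht'
    set u := h⁻¹ * kr 1 (siegel S.f₂ n t) * h with hu
    have hE := S.inQ_siegel P ht
    have huH : u ∈ H := mul_mem (mul_mem (inv_mem hh) (O.siegel₂_mem P.nn ht)) hh
    have huQ : InQ S n u := by
      refine ⟨S.mem_iso_of_omega (O.le huH), fun x => ?_, fun z hz => ?_⟩
      · rw [hu, act_mul, act_mul, hα, hE.fixed, ← hα, act_inv_act]
      · obtain ⟨y, hy⟩ := hE.move _ (hker z hz)
        obtain ⟨w, hw⟩ := hαs y
        refine ⟨w, act_injective h ?_⟩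
        rw [map_sub, hu, act_mul, act_mul, act_act_inv, hy, hα, hw]
    obtain ⟨t₁, h1, h1', he⟩ := huQ.eq_siegel O P hR huH
    refine ⟨t₁, h1, h1', fun z hz => ?_⟩
    have hu' : h * u = kr 1 (siegel S.f₂ n t) * h := by rw [hu]; group
    have h2 := congrArg (fun g => act g z) hu'
    simp only [he, act_mul, S.act_siegel P.nn h1, S.act_siegel P.nn ht, hz, hker z hz, map_zero,
      smul_zero, add_zero, sub_zero, map_sub, hα] at h2
    exact (emb_injective P.ne (sub_right_injective h2)).symm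
  obtain ⟨v₀, hv₀⟩ := S.sym₁.exists_aniso (by norm_num)
  obtain ⟨w₀, hw₀⟩ := hαs v₀
  let lam : (Fin 4 → F) → (Fin 4 → F) →ₗ[F] F := fun s =>
    { toFun := fun d => S.f₁ v₀ (S.pr (L d) (act h (emb (L s) w₀))) / S.f₁ v₀ v₀
      map_add' := fun d d' => by rw [map_add L, S.pr_add, map_add, add_div]
      map_smul' := fun r d => by
        rw [map_smul L, S.pr_smul, map_smul, smul_eq_mul, RingHom.id_apply, smul_eq_mul,
          mul_div_assoc] }
  choose r hr using fun s => S.rep₂ (lam s)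
  let T : (Fin 4 → F) →ₗ[F] (Fin 4 → F) :=
    { toFun := r
      map_add' := fun s s' => by
        refine sub_eq_zero.1 (S.sym₂.nd _ fun d => ?_)
        rw [S.sym₂.symm, map_sub, map_add, hr, hr, hr]
        simp only [lam, LinearMap.coe_mk, AddHom.coe_mk, map_add L, emb_add_left, map_add]
        ring
      map_smul' := fun c s => by
        refine sub_eq_zero.1 (S.sym₂.nd _ fun d => ?_)
        rw [S.sym₂.symm, map_sub, RingHom.id_apply, map_smul, hr, hr]
        simp only [lam, LinearMap.coe_mk, AddHom.coe_mk, map_smul L, emb_smul_left, map_smul,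
          smul_eq_mul]
        ring }
  have hT : ∀ s d, S.f₂ d (T s) = lam s d := hr
  have hTn : ∀ s, S.f₂ n (T s) = 0 := fun s => by
    rw [hT]
    show S.f₁ v₀ (S.pr (L n) _) / _ = 0
    rw [hLdef, S.proj_n P, S.pr_zero, map_zero, zero_div]
  have hTn' : ∀ s, S.f₂ n' (T s) = 0 := fun s => by
    rw [hT]
    show S.f₁ v₀ (S.pr (L n') _) / _ = 0
    rw [hLdef, S.proj_n' P, S.pr_zero, map_zero, zero_div]
  have hTimg : ∀ s, S.f₂ n s = 0 → S.f₂ n' s = 0 → ∀ w,
      ∃ c, act h (emb s w) = emb (T s) (α w) + emb n c := by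
    intro s hs hs' w
    have hz : ∀ w, S.pr n (emb s w) = 0 := fun w => by rw [S.pr_emb, hs, zero_smul]
    refine ⟨_, S.eq_emb P (hker _ (hz w)) (hTn s) (hTn' s) fun t ht ht' => ?_⟩
    obtain ⟨t₁, -, -, ht₁⟩ := himg t ht ht'
    rw [ht₁ _ (hz w), S.pr_emb, map_smul, hT]
    congr 1
    show _ = S.f₁ v₀ (S.pr (L t) (act h (emb (L s) w₀))) / S.f₁ v₀ v₀
    rw [hLdef, S.proj_eq ht ht', S.proj_eq hs hs', ht₁ _ (hz w₀), S.pr_emb, map_smul, hw₀,
      map_smul, smul_eq_mul, mul_div_assoc, div_self hv₀, mul_one]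
  -- the similitude factor
  have hprod : ∀ s s', S.f₂ n s = 0 → S.f₂ n' s = 0 → S.f₂ n s' = 0 → S.f₂ n' s' = 0 → ∀ y y',
      S.f₁ (α y) (α y') * S.f₂ (T s) (T s') = S.f₁ y y' * S.f₂ s s' := by
    intro s s' hs hs' hs2 hs2' y y'
    obtain ⟨c, hc⟩ := hTimg s hs hs' y
    obtain ⟨c', hc'⟩ := hTimg s' hs2 hs2' y'
    have h1 := S.polar_iso hhi (emb s y) (emb s' y')
    rw [hc, hc', S.polar_pair P (hTn s) (hTn s'), S.polar_emb] at h1
    exact h1
  obtain ⟨s₀, hs0, hsp⟩ := exists_perp S.f₂ ![n, n'] (by norm_num)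
  have hs₀ : S.f₂ n s₀ = 0 := hsp 0
  have hs₀' : S.f₂ n' s₀ = 0 := hsp 1
  have hss := OForm.Hyp.aniso S P hs₀ hs₀' hs0
  set ν := S.f₂ (T s₀) (T s₀) / S.f₂ s₀ s₀ with hνdef
  have hν : ν ≠ 0 := by
    intro h0
    have h1 : S.f₂ (T s₀) (T s₀) = 0 := by
      rcases div_eq_zero_iff.1 h0 with h | h
      · exact h
      · exact absurd h hss
    have := hprod s₀ s₀ hs₀ hs₀' hs₀ hs₀' v₀ v₀
    rw [h1, mul_zero] at this
    exact mul_ne_zero hv₀ hss this.symm
  have hαf : ∀ y y', S.f₁ (α y) (α y') = ν⁻¹ * S.f₁ y y' := fun y y' => by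
    have := hprod s₀ s₀ hs₀ hs₀' hs₀ hs₀' y y'
    rw [hνdef, inv_div, div_mul_eq_mul_div, eq_div_iff fun h1 => hν (by rw [hνdef, h1, zero_div])]
    linear_combination this
  have hTf : ∀ s s', S.f₂ n s = 0 → S.f₂ n' s = 0 → S.f₂ n s' = 0 → S.f₂ n' s' = 0 →
      S.f₂ (T s) (T s') = ν * S.f₂ s s' := by
    intro s s' h1 h2 h3 h4
    have := hprod s s' h1 h2 h3 h4 v₀ v₀
    rw [hαf] at this
    field_simp at this
    linear_combination this
  -- the Kronecker product
  let κ : (Fin 4 → F) →ₗ[F] (Fin 4 → F) :=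
    T ∘ₗ L + (S.f₂ n').smulRight n + (ν • S.f₂ n).smulRight n'
  have hκ : ∀ w, κ w = T (L w) + S.f₂ n' w • n + (ν * S.f₂ n w) • n' := fun w => rfl
  have hκf : ∀ v w, S.f₂ (κ v) (κ w) = ν * S.f₂ v w := by
    intro v w
    have e0 : S.f₂ (L v) (L w) =
        S.f₂ v w - S.f₂ n' v * S.f₂ n w - S.f₂ n' w * S.f₂ n v := by
      simp only [hLdef, OForm.proj_apply, map_sub, map_smul, LinearMap.sub_apply,
        LinearMap.smul_apply, smul_eq_mul, P.nn, P.nn', P.n'n, P.n'n', S.sym₂.symm n v,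
        S.sym₂.symm n' v]
      ring
    simp only [hκ, map_add, map_smul, LinearMap.add_apply, LinearMap.smul_apply, smul_eq_mul,
      hTn, hTn', S.sym₂.symm n (T (L v)), S.sym₂.symm n' (T (L v)), P.nn, P.nn', P.n'n, P.n'n']
    rw [hTf (L v) (L w) (hL v).1 (hL v).2 (hL w).1 (hL w).2, e0]
    ring
  have hκi : Function.Injective κ := (injective_iff_map_eq_zero _).2 fun w hw =>
    S.sym₂.nd _ fun v => by
      have := hκf w v
      rw [hw, map_zero, LinearMap.zero_apply] at this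
      exact (mul_eq_zero.1 this.symm).resolve_left hν
  let αe := LinearEquiv.ofBijective α ⟨hαi, hαs⟩
  let κe := LinearEquiv.ofBijective κ ⟨hκi, LinearMap.injective_iff_surjective.1 hκi⟩
  let g₁ : GL (Fin 3) F := mkGL α αe.symm.toLinearMap (αe.apply_symm_apply) (αe.symm_apply_apply)
  let g₂ : GL (Fin 4) F := mkGL κ κe.symm.toLinearMap (κe.apply_symm_apply) (κe.symm_apply_apply)
  have hg₁ : ∀ x, act g₁ x = α x := fun x => mkGL_mulVec _ _ _ _ x
  have hg₂ : ∀ x, act g₂ x = κ x := fun x => mkGL_mulVec _ _ _ _ x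
  have hτi : kr g₁ g₂ ∈ Cfsg.isometryGroup F ⇑S.Q :=
    S.kr_mem_isometry (μ := ν⁻¹) (ν := ν) (inv_mul_cancel₀ hν)
      (fun x y => by rw [hg₁, hg₁, hαf]) (fun v w => by rw [hg₂, hg₂, hκf])
  set τ := kr g₁ g₂ with hτdef
  have hτ : ∀ v x, act τ (emb v x) = emb (κ v) (α x) := fun v x => by
    rw [hτdef, act_kr, hg₁, hg₂]
  have hκn : κ n = n := by
    rw [hκ, hLdef, S.proj_n P, map_zero, P.nn, P.n'n]
    simp
  have hτn : ∀ x, act τ (emb n x) = emb n (α x) := fun x => by rw [hτ, hκn]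
  set h' := τ⁻¹ * h with hh'
  have hh'n : ∀ x, act h' (emb n x) = emb n x := fun x => by
    rw [hh', act_mul, hα, ← hτn, act_inv_act]
  have hD : ∀ z, S.pr n z = 0 → ∃ y, act h z - act τ z = emb n y := by
    intro z hz
    have hjs : ∀ j, ∃ y, act h (emb (L (Pi.single j 1)) (col j z)) -
        act τ (emb (L (Pi.single j 1)) (col j z)) = emb n y := fun j => by
      obtain ⟨c, hc⟩ := hTimg _ (hL (Pi.single j 1)).1 (hL (Pi.single j 1)).2 (col j z)
      refine ⟨c, ?_⟩
      rw [hc, hτ, hκ, hLdef, S.proj_eq (hL _).1 (hL _).2, ← hLdef, (hL (Pi.single j 1)).1,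
        (hL (Pi.single j 1)).2, mul_zero, zero_smul, zero_smul, add_zero, add_zero,
        add_sub_cancel_left]
    choose y hy using hjs
    refine ⟨∑ j, y j, ?_⟩
    have hdec : z = (∑ j, emb (L (Pi.single j 1)) (col j z)) + emb n (S.pr n' z) := by
      conv_lhs => rw [eq_sum_emb z]
      rw [S.pr_eq_sum, map_sum, ← Finset.sum_add_distrib]
      have hz' : (0 : V F 3 4) = ∑ j, emb n' (S.f₂ n (Pi.single j 1) • col j z) := by
        rw [← map_sum, ← S.pr_eq_sum, hz, map_zero]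
      conv_rhs => rw [← add_zero (∑ j, _), hz', ← Finset.sum_add_distrib]
      refine Finset.sum_congr rfl fun j _ => ?_
      rw [← emb_smul_comm, ← emb_smul_comm, ← emb_add_left, ← emb_add_left, hLdef, S.proj_add]
    conv_lhs => rw [hdec]
    rw [map_add, map_add, map_sum, map_sum, hα, hτn, add_sub_add_right_eq_sub,
      ← Finset.sum_sub_distrib, Finset.sum_congr rfl fun j _ => hy j, map_sum]
  have hh'Q : InQ S n h' := by
    refine ⟨mul_mem (inv_mem hτi) hhi, hh'n, fun z hz => ?_⟩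
    obtain ⟨y, hy⟩ := hD z hz
    obtain ⟨w, hw⟩ := hαs y
    refine ⟨w, act_injective τ ?_⟩
    rw [map_sub, hh', act_mul, act_act_inv, hy, hτn, hw]
  obtain ⟨N, hN, hN1⟩ := hh'Q.exists_odd_pow P.nn
  have hh'O : h' ∈ Geo.omegaGL ⇑S.Q := S.mem_of_odd hh'Q.iso hN hN1
  have hτO : τ ∈ Geo.omegaGL ⇑S.Q := by
    have : τ = h * h'⁻¹ := by rw [hh', _root_.mul_inv_rev, inv_inv, mul_inv_cancel_left]
    rw [this]
    exact mul_mem (O.le hh) (inv_mem hh'O)
  have hh'H : h' ∈ H := mul_mem (inv_mem (O.kr_mem _ _ hτO)) hh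
  obtain ⟨t, -, -, he⟩ := hh'Q.eq_siegel O P hR hh'H
  rw [show h = τ * h' by rw [hh', mul_inv_cancel_left], he, hτdef]
  exact mul_mem (kr_mem _ _) (kr_mem _ _)

omit O hR in
/-- An element commuting with a Siegel element stabilises the line. -/
theorem line_of_comm {n t : Fin 4 → F} (hn : n ≠ 0) (hnn : S.f₂ n n = 0) (ht : S.f₂ n t = 0)
    (htt : S.f₂ t t ≠ 0) {h : GL (Fin 3 × Fin 4) F}
    (hc : ∀ z, act h (act (kr 1 (siegel S.f₂ n t)) z) = act (kr 1 (siegel S.f₂ n t)) (act h z))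
    (x : Fin 3 → F) : ∃ y, act h (emb n x) = emb n y := by
  obtain ⟨n', P⟩ := S.exists_hyp hn hnn
  set X := act (kr (1 : GL (Fin 3) F) (siegel S.f₂ n t)) with hX
  let q : V F 3 4 →ₗ[F] V F 3 4 := X - LinearMap.id
  have hq2 : ∀ z, q (q z) = emb n (-S.f₂ t t • S.pr n z) := fun z => by
    have e : ∀ z, q z = emb t (S.pr n z) - emb n (S.pr t z) -
        emb n ((S.f₂ t t / 2) • S.pr n z) := fun z => by
      simp only [q, LinearMap.sub_apply, LinearMap.id_apply, hX, S.act_siegel hnn ht]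
      abel
    rw [e (q z), e z]
    simp only [map_sub, S.pr_emb, ht, hnn, S.sym₂.symm n t, zero_smul, sub_zero, map_zero,
      smul_zero, smul_smul, map_smul, zero_sub, neg_smul, map_neg]
  have hqh : ∀ z, q (act h z) = act h (q z) := fun z => by
    simp only [q, LinearMap.sub_apply, LinearMap.id_apply, map_sub, hc]
  have hx : emb n x = q (q (emb n' ((-S.f₂ t t)⁻¹ • x))) := by
    rw [hq2, S.pr_emb, P.nn', one_smul, smul_smul, mul_inv_cancel₀ (neg_ne_zero.2 htt), one_smul]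
  have h2 := congrArg (act h) hx
  rw [← hqh, ← hqh, hq2] at h2
  exact ⟨_, h2⟩

/-- An element commuting with a Siegel element lies in the tensor stabiliser. -/
theorem kron_of_comm_siegel {n t : Fin 4 → F} (hn : n ≠ 0) (hnn : S.f₂ n n = 0)
    (ht : S.f₂ n t = 0) (htt : S.f₂ t t ≠ 0) {h : GL (Fin 3 × Fin 4) F} (hh : h ∈ H)
    (hc : ∀ z, act h (act (kr 1 (siegel S.f₂ n t)) z) = act (kr 1 (siegel S.f₂ n t)) (act h z)) :
    h ∈ Cfsg.Geo.kroneckerSubgroup 3 4 F :=
  kron_of_line O hR hn hnn hh (line_of_comm hn hnn ht htt hc)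

end Cfsg.Agent.OO34
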