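import Cfsg.Agent.OO34.RootFull
import Cfsg.Agent.OO34.Member

/-!
Elements fixing a singular line `F³ ⊗ n` pointwise and moving its orthogonal into it: their blocks
(helper74).
-/

set_option autoImplicit false
set_option linter.unusedSectionVars false
set_option linter.unusedSimpArgs false

namespace Cfsg.Agent.OO34

open Matrix Cfsg.Agent.MaxSub Cfsg.Agent.TensorMax Cfsg.Agent.TensorInv Module QuadraticMap

variable {F : Type*} [Field F]

namespace OForm

variable (S : OForm F)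

theorem polar_iso {g : GL (Fin 3 × Fin 4) F} (hg : g ∈ Cfsg.isometryGroup F ⇑S.Q) (z z' : V F 3 4) :
    polar S.Q (act g z) (act g z') = polar S.Q z z' := by
  simp only [QuadraticMap.polar, ← map_add, S.mem_isometry_iff.1 hg]

theorem mem_iso_of_omega {g : GL (Fin 3 × Fin 4) F} (hg : g ∈ Geo.omegaGL ⇑S.Q) :
    g ∈ Cfsg.isometryGroup F ⇑S.Q := S.mem_isometry_iff.2 (S.Q_act hg)

theorem polar_pr' (w : Fin 4 → F) (y : Fin 3 → F) (z : V F 3 4) :
    polar S.Q (emb w y) z = S.f₁ y (S.pr w z) := by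
  rw [polar_comm, S.polar_pr, S.sym₁.symm]

theorem pr_sub (v w : Fin 4 → F) (z : V F 3 4) : S.pr (v - w) z = S.pr v z - S.pr w z := by
  rw [sub_eq_add_neg, S.pr_add, ← neg_one_smul F w, S.pr_smul, neg_one_smul, sub_eq_add_neg]

theorem pr_zero (z : V F 3 4) : S.pr 0 z = 0 := by
  rw [← zero_smul F (0 : Fin 4 → F), S.pr_smul, zero_smul]

theorem eq_f₁ {x x' : Fin 3 → F} (h : ∀ y, S.f₁ x y = S.f₁ x' y) : x = x' :=
  sub_eq_zero.1 (S.sym₁.nd _ fun y => by rw [map_sub, LinearMap.sub_apply, h, sub_self])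

theorem rep₂ (ξ : (Fin 4 → F) →ₗ[F] F) : ∃ d, ∀ v, S.f₂ v d = ξ v := by
  have hinj : Function.Injective S.f₂ := (injective_iff_map_eq_zero _).2 fun u hu =>
    S.sym₂.nd u fun x => LinearMap.congr_fun hu x
  obtain ⟨d, hd⟩ := (LinearMap.injective_iff_surjective_of_finrank_eq_finrank
    (by rw [Subspace.dual_finrank_eq])).mp hinj ξ
  exact ⟨d, fun v => by rw [S.sym₂.symm d v]; exact LinearMap.congr_fun hd v⟩

theorem turn_turn (e : Fin 3 → F) : S.turn e * S.turn e = 1 := gl_ext fun x => by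
  show act (S.turn e * S.turn e) x = act (1 : GL (Fin 3) F) x
  rw [act_mul, act_one, turn, act_apply, act_apply, mkGL_mulVec, mkGL_mulVec]
  simp [reflMap_reflMap]

theorem turn_inv (e : Fin 3 → F) : (S.turn e)⁻¹ = S.turn e :=
  inv_eq_of_mul_eq_one_right (S.turn_turn e)

theorem turn_act_act (e x : Fin 3 → F) : act (S.turn e) (act (S.turn e) x) = x := by
  rw [← act_mul, S.turn_turn, act_one]

theorem turn_form {e : Fin 3 → F} (he : S.f₁ e e ≠ 0) (x y : Fin 3 → F) :
    S.f₁ (act (S.turn e) x) (act (S.turn e) y) = S.f₁ x y := by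
  rw [S.turn_apply, S.turn_apply]
  simp only [map_sub, LinearMap.sub_apply, map_smul, LinearMap.smul_apply, smul_eq_mul,
    S.sym₁.symm e x]
  field_simp
  ring

theorem turn_adj {e : Fin 3 → F} (he : S.f₁ e e ≠ 0) (x y : Fin 3 → F) :
    S.f₁ (act (S.turn e) x) y = S.f₁ x (act (S.turn e) y) := by
  conv_lhs => rw [← S.turn_act_act e y]
  rw [S.turn_form he]

theorem turn_self {e : Fin 3 → F} (he : S.f₁ e e ≠ 0) : act (S.turn e) e = e := by
  rw [S.turn_apply, mul_div_assoc, div_self he, mul_one, two_smul, add_sub_cancel_right]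

theorem turn_perp {e x : Fin 3 → F} (h : S.f₁ e x = 0) : act (S.turn e) x = -x := by
  rw [S.turn_apply, h, mul_zero, zero_div, zero_smul, zero_sub]

/-- The projection away from a singular pair. -/
def proj (n n' : Fin 4 → F) : (Fin 4 → F) →ₗ[F] (Fin 4 → F) :=
  LinearMap.id - (S.f₂ n').smulRight n - (S.f₂ n).smulRight n'

theorem proj_apply (n n' d : Fin 4 → F) :
    S.proj n n' d = d - S.f₂ n' d • n - S.f₂ n d • n' := rfl

variable {n n' : Fin 4 → F}

theorem proj_mem (P : S.Hyp n n') (d : Fin 4 → F) :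
    S.f₂ n (S.proj n n' d) = 0 ∧ S.f₂ n' (S.proj n n' d) = 0 := by
  simp [proj_apply, P.nn, P.nn', P.n'n, P.n'n']

theorem proj_eq {t : Fin 4 → F} (ht : S.f₂ n t = 0) (ht' : S.f₂ n' t = 0) :
    S.proj n n' t = t := by simp [proj_apply, ht, ht']

theorem proj_n (P : S.Hyp n n') : S.proj n n' n = 0 := by
  simp [proj_apply, P.nn, P.n'n]

theorem proj_n' (P : S.Hyp n n') : S.proj n n' n' = 0 := by
  simp [proj_apply, P.n'n', P.nn']

theorem proj_add (d : Fin 4 → F) :
    S.proj n n' d + S.f₂ n' d • n + S.f₂ n d • n' = d := by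
  rw [proj_apply]; abel

/-- Equality may be tested against `n`, `n'` and their orthogonal. -/
theorem eq_of_three (P : S.Hyp n n') {z z' : V F 3 4} (h : S.pr n z = S.pr n z')
    (h' : S.pr n' z = S.pr n' z')
    (ht : ∀ t, S.f₂ n t = 0 → S.f₂ n' t = 0 → S.pr t z = S.pr t z') : z = z' := by
  refine sub_eq_zero.1 (S.eq_zero_of_pr fun w => ?_)
  rw [← S.proj_add (n := n) (n' := n') w, S.pr_add, S.pr_add, S.pr_smul, S.pr_smul, map_sub,
    map_sub, map_sub, h, h', ht _ (S.proj_mem P w).1 (S.proj_mem P w).2]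
  simp

theorem pr_kr {g : GL (Fin 3) F} (w : Fin 4 → F) (z : V F 3 4) :
    S.pr w (act (kr g (1 : GL (Fin 4) F)) z) = act g (S.pr w z) := by
  refine sub_eq_zero.1 ?_
  have h : ∀ z, (S.pr w ∘ₗ act (kr g (1 : GL (Fin 4) F)) - act g ∘ₗ S.pr w) z = 0 := by
    intro z
    rw [eq_sum_emb z, map_sum]
    refine Finset.sum_eq_zero fun j _ => ?_
    simp only [LinearMap.sub_apply, LinearMap.comp_apply, act_kr, act_one, S.pr_emb, map_smul,
      sub_self]
  exact h z

theorem kr_left_iso {g : GL (Fin 3) F} (hg : ∀ x y, S.f₁ (act g x) (act g y) = S.f₁ x y) :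
    kr g (1 : GL (Fin 4) F) ∈ Cfsg.isometryGroup F ⇑S.Q :=
  S.kr_mem_isometry (μ := 1) (ν := 1) (one_mul 1) (fun x y => by rw [hg, one_mul])
    (fun v w => by rw [act_one, act_one, one_mul])

theorem kr_right_iso {k : GL (Fin 4) F} (hk : ∀ v w, S.f₂ (act k v) (act k w) = S.f₂ v w) :
    kr (1 : GL (Fin 3) F) k ∈ Cfsg.isometryGroup F ⇑S.Q :=
  S.kr_mem_isometry (μ := 1) (ν := 1) (one_mul 1) (fun x y => by rw [act_one, act_one, one_mul])
    (fun v w => by rw [hk, one_mul])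

end OForm

/-- Isometries fixing `F³ ⊗ n` pointwise and moving its orthogonal into it. -/
structure InQ (S : OForm F) (n : Fin 4 → F) (u : GL (Fin 3 × Fin 4) F) : Prop where
  iso : u ∈ Cfsg.isometryGroup F ⇑S.Q
  fixed : ∀ x, act u (emb n x) = emb n x
  move : ∀ z, S.pr n z = 0 → ∃ y, act u z - z = emb n y

/-- The displacement of the partner line. -/
def disp (n' : Fin 4 → F) (u : GL (Fin 3 × Fin 4) F) : (Fin 3 → F) →ₗ[F] V F 3 4 :=
  act u ∘ₗ emb n' - emb n'

theorem disp_eq (n' : Fin 4 → F) (u : GL (Fin 3 × Fin 4) F) (x : Fin 3 → F) :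
    act u (emb n' x) = emb n' x + disp n' u x := by simp [disp]

namespace InQ

variable {S : OForm F} {n n' : Fin 4 → F} {u u' : GL (Fin 3 × Fin 4) F}

theorem one : InQ S n 1 :=
  ⟨one_mem _, fun x => act_one _, fun z _ => ⟨0, by rw [act_one, sub_self, map_zero]⟩⟩

theorem mul (hu : InQ S n u) (hu' : InQ S n u') : InQ S n (u * u') := by
  refine ⟨mul_mem hu.iso hu'.iso, fun x => by rw [act_mul, hu'.fixed, hu.fixed], fun z hz => ?_⟩
  obtain ⟨y, hy⟩ := hu'.move z hz
  obtain ⟨y', hy'⟩ := hu.move z hz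
  refine ⟨y + y', ?_⟩
  rw [act_mul, show act u' z = z + emb n y by rw [← hy]; abel, map_add, hu.fixed, map_add, ← hy']
  abel

theorem pr_act (hu : InQ S n u) (z : V F 3 4) : S.pr n (act u z) = S.pr n z := by
  refine S.eq_f₁ fun y => ?_
  rw [← S.polar_pr, ← S.polar_pr]
  conv_lhs => rw [← hu.fixed y]
  exact S.polar_iso hu.iso _ _

theorem inv (hu : InQ S n u) : InQ S n u⁻¹ := by
  refine ⟨inv_mem hu.iso, fun x => ?_, fun z hz => ?_⟩
  · conv_lhs => rw [← hu.fixed x]
    rw [act_inv_act]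
  · have h1 : S.pr n (act u⁻¹ z) = 0 := by rw [← hu.pr_act, act_act_inv, hz]
    obtain ⟨y, hy⟩ := hu.move _ h1
    rw [act_act_inv] at hy
    exact ⟨-y, by rw [map_neg, ← hy, neg_sub]⟩

theorem pr_disp (hu : InQ S n u) (x : Fin 3 → F) : S.pr n (disp n' u x) = 0 := by
  simp only [disp, LinearMap.sub_apply, LinearMap.comp_apply, map_sub, hu.pr_act, sub_self]

theorem exists_y (hu : InQ S n u) (P : S.Hyp n n') {z : V F 3 4} (hz : S.pr n z = 0) :
    ∃ y, act u z = z + emb n y ∧ ∀ x, S.f₁ y x = -polar S.Q z (disp n' u x) := by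
  obtain ⟨y, hy⟩ := hu.move z hz
  have hy' : act u z = z + emb n y := by rw [← hy]; abel
  refine ⟨y, hy', fun x => ?_⟩
  have h := S.polar_iso hu.iso z (emb n' x)
  rw [hy', disp_eq, polar_add_left, polar_add_right, polar_add_right, S.polar_emb, P.nn',
    S.polar_pr' n y (disp n' u x), hu.pr_disp, map_zero] at h
  linear_combination h

/-- Products add the displacements, modulo the line. -/
theorem disp_mul (hu : InQ S n u) (hu' : InQ S n u') (P : S.Hyp n n') (x : Fin 3 → F) :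
    ∃ y, disp n' (u * u') x = disp n' u x + disp n' u' x + emb n y ∧
      ∀ x', S.f₁ y x' = -polar S.Q (disp n' u' x) (disp n' u x') := by
  obtain ⟨y, hy, hy'⟩ := hu.exists_y P (hu'.pr_disp (n' := n') x)
  refine ⟨y, ?_, hy'⟩
  have h := disp_eq n' (u * u') x
  rw [act_mul, disp_eq, map_add, hy, disp_eq] at h
  linear_combination (norm := abel) -h

theorem conj (hu : InQ S n u) {g : GL (Fin 3) F}
    (hg : ∀ x y, S.f₁ (act g x) (act g y) = S.f₁ x y) :
    InQ S n (kr g 1 * u * (kr g 1)⁻¹) := by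
  have hG := S.kr_left_iso hg
  have e : ∀ x, act (kr g (1 : GL (Fin 4) F))⁻¹ (emb n x) = emb n (act g⁻¹ x) := fun x => by
    rw [kr_inv, inv_one, act_kr, act_one]
  refine ⟨mul_mem (mul_mem hG hu.iso) (inv_mem hG), fun x => ?_, fun z hz => ?_⟩
  · rw [act_mul, act_mul, e, hu.fixed, ← e, act_act_inv]
  · obtain ⟨y, hy⟩ := hu.move (act (kr g (1 : GL (Fin 4) F))⁻¹ z) (by
      rw [kr_inv, inv_one, S.pr_kr, hz, map_zero])
    refine ⟨act g y, ?_⟩
    have h2 := congrArg (act (kr g (1 : GL (Fin 4) F))) hy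
    rw [map_sub, act_act_inv, act_kr, act_one] at h2
    rw [act_mul, act_mul, h2]

theorem disp_conj (g : GL (Fin 3) F) (x : Fin 3 → F) :
    disp n' (kr g (1 : GL (Fin 4) F) * u * (kr g 1)⁻¹) x =
      act (kr g (1 : GL (Fin 4) F)) (disp n' u (act g⁻¹ x)) := by
  have e : act (kr g (1 : GL (Fin 4) F))⁻¹ (emb n' x) = emb n' (act g⁻¹ x) := by
    rw [kr_inv, inv_one, act_kr, act_one]
  have h := disp_eq n' (kr g (1 : GL (Fin 4) F) * u * (kr g 1)⁻¹) x
  rw [act_mul, act_mul, e, disp_eq, map_add, ← e, act_act_inv] at h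
  exact (add_left_cancel h).symm

variable {H : Subgroup (GL (Fin 3 × Fin 4) F)}

/-- Without root elements, such elements commute. -/
theorem comm (hu : InQ S n u) (hu' : InQ S n u') (P : S.Hyp n n') (hR : ¬ Root S H)
    (h : u ∈ H) (h' : u' ∈ H) : u * u' = u' * u := by
  set w := u * u' * (u' * u)⁻¹ with hw
  have hwact : ∀ v, act w (act (u' * u) v) = act (u * u') v := fun v => by
    rw [hw, act_mul, act_inv_act]
  by_contra hne
  have hwH : w ∈ H := mul_mem (mul_mem h h') (inv_mem (mul_mem h' h))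
  have hw1 : w ≠ 1 := fun h1 => hne (mul_inv_eq_one.1 (hw ▸ h1))
  clear_value w
  refine hR ⟨n, P.ne, P.nn, w, hwH, hw1, fun v x hv => ?_⟩
  have hz : S.pr n (emb v x) = 0 := by rw [S.pr_emb, hv, zero_smul]
  obtain ⟨y, hy, -⟩ := hu.exists_y P hz
  obtain ⟨y', hy', -⟩ := hu'.exists_y P hz
  have en : ∀ y, act w (emb n y) = emb n y := fun y => by
    have := hwact (emb n y)
    rwa [act_mul, act_mul, hu.fixed, hu'.fixed, hu.fixed] at this
  have e := hwact (emb v x)
  simp only [act_mul, hy, hy', map_add, hu'.fixed, hu.fixed, en] at e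
  linear_combination (norm := abel) e

/-- The displacements of two such elements pair symmetrically. -/
theorem polar_disp (hu : InQ S n u) (hu' : InQ S n u') (P : S.Hyp n n') (hR : ¬ Root S H)
    (h : u ∈ H) (h' : u' ∈ H) (x x' : Fin 3 → F) :
    polar S.Q (disp n' u' x) (disp n' u x') = polar S.Q (disp n' u x) (disp n' u' x') := by
  obtain ⟨y, hy, hy'⟩ := hu.disp_mul hu' P x
  obtain ⟨z, hz, hz'⟩ := hu'.disp_mul hu P x
  rw [hu.comm hu' P hR h h', hz, add_comm (disp n' u' x) (disp n' u x), add_left_cancel_iff] at hy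
  have := hy' x'
  rw [← emb_injective P.ne hy, hz'] at this
  linear_combination this

end InQ

namespace OForm

variable (S : OForm F) {n n' : Fin 4 → F}

/-- The block of `t`. -/
def blk (n' : Fin 4 → F) (u : GL (Fin 3 × Fin 4) F) (t : Fin 4 → F) :
    (Fin 3 → F) →ₗ[F] (Fin 3 → F) :=
  S.pr t ∘ₗ disp n' u

theorem blk_apply (u : GL (Fin 3 × Fin 4) F) (t : Fin 4 → F) (x : Fin 3 → F) :
    S.blk n' u t x = S.pr t (disp n' u x) := rfl

theorem blk_mul {u u' : GL (Fin 3 × Fin 4) F} (P : S.Hyp n n') (hu : InQ S n u)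
    (hu' : InQ S n u') {t : Fin 4 → F} (ht : S.f₂ n t = 0) (x : Fin 3 → F) :
    S.blk n' (u * u') t x = S.blk n' u t x + S.blk n' u' t x := by
  obtain ⟨y, hy, -⟩ := hu.disp_mul hu' P x
  rw [blk_apply, hy, map_add, map_add, S.pr_emb, S.sym₂.symm n t, ht, zero_smul, add_zero]
  rfl

theorem blk_inv {u : GL (Fin 3 × Fin 4) F} (P : S.Hyp n n') (hu : InQ S n u) {t : Fin 4 → F}
    (ht : S.f₂ n t = 0) (x : Fin 3 → F) : S.blk n' u⁻¹ t x = -S.blk n' u t x := by
  have h := S.blk_mul P hu hu.inv ht x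
  rw [mul_inv_cancel, show S.blk n' 1 t x = 0 by simp [blk_apply, disp, act_one]] at h
  linear_combination (norm := abel) -h

theorem blk_conj (g : GL (Fin 3) F) (u : GL (Fin 3 × Fin 4) F) (t : Fin 4 → F) (x : Fin 3 → F) :
    S.blk n' (kr g 1 * u * (kr g 1)⁻¹) t x = act g (S.blk n' u t (act g⁻¹ x)) := by
  rw [blk_apply, InQ.disp_conj, S.pr_kr]
  rfl

/-- A displacement with proportional blocks. -/
theorem eq_emb (P : S.Hyp n n') {z : V F 3 4} (hz : S.pr n z = 0) {τ : Fin 4 → F}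
    (hτ : S.f₂ n τ = 0) (hτ' : S.f₂ n' τ = 0) {y : Fin 3 → F}
    (h : ∀ t, S.f₂ n t = 0 → S.f₂ n' t = 0 → S.pr t z = S.f₂ t τ • y) :
    z = emb τ y + emb n (S.pr n' z) := by
  refine S.eq_of_three P ?_ ?_ fun t ht ht' => ?_
  · rw [map_add, S.pr_emb, S.pr_emb, hτ, P.nn, hz]; simp
  · rw [map_add, S.pr_emb, S.pr_emb, hτ', P.n'n]; simp
  · rw [map_add, S.pr_emb, S.pr_emb, h t ht ht', S.sym₂.symm n t, ht]; simp

theorem polar_pair (P : S.Hyp n n') {τ τ' : Fin 4 → F} (hτ : S.f₂ n τ = 0) (hτ' : S.f₂ n τ' = 0)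
    (y y' a b : Fin 3 → F) :
    polar S.Q (emb τ y + emb n a) (emb τ' y' + emb n b) = S.f₁ y y' * S.f₂ τ τ' := by
  rw [polar_add_left, polar_add_right, polar_add_right, S.polar_emb, S.polar_emb, S.polar_emb,
    S.polar_emb, hτ', P.nn, S.sym₂.symm n τ, hτ]
  ring

/-- The Siegel element of the second factor, on the tensor product. -/
theorem act_siegel {t : Fin 4 → F} (hn : S.f₂ n n = 0) (ht : S.f₂ n t = 0) (z : V F 3 4) :
    act (kr (1 : GL (Fin 3) F) (siegel S.f₂ n t)) z =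
      z + emb t (S.pr n z) - emb n (S.pr t z) - emb n ((S.f₂ t t / 2) • S.pr n z) := by
  refine ext_emb (f := act (kr (1 : GL (Fin 3) F) (siegel S.f₂ n t)))
    (g := LinearMap.id + emb t ∘ₗ S.pr n - emb n ∘ₗ S.pr t -
      emb n ∘ₗ ((S.f₂ t t / 2) • S.pr n)) (fun v x => ?_) z
  simp only [LinearMap.add_apply, LinearMap.sub_apply, LinearMap.id_apply, LinearMap.comp_apply,
    LinearMap.smul_apply, act_kr, act_one, siegel_apply S.sym₂ hn ht, S.pr_emb, emb_sub_left,
    emb_add_left, emb_smul_left, map_smul, smul_smul]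

theorem inQ_siegel {t : Fin 4 → F} (P : S.Hyp n n') (ht : S.f₂ n t = 0) :
    InQ S n (kr 1 (siegel S.f₂ n t)) := by
  refine ⟨S.kr_right_iso (siegel_form S.sym₂ P.nn ht), fun x => ?_, fun z hz => ?_⟩
  · rw [act_kr, act_one, siegel_self S.sym₂ P.nn ht]
  · refine ⟨-S.pr t z, ?_⟩
    rw [S.act_siegel P.nn ht, hz, smul_zero, map_zero, map_zero, map_neg]
    abel

theorem blk_siegel (P : S.Hyp n n') {s t : Fin 4 → F} (hs : S.f₂ n s = 0) (hs' : S.f₂ n' s = 0)
    (ht : S.f₂ n t = 0) (x : Fin 3 → F) :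
    S.blk n' (kr 1 (siegel S.f₂ n s)) t x = S.f₂ t s • x := by
  have e : disp n' (kr 1 (siegel S.f₂ n s)) x =
      emb s x - emb n ((S.f₂ s s / 2) • x) := by
    have h := disp_eq n' (kr 1 (siegel S.f₂ n s)) x
    rw [S.act_siegel P.nn hs, S.pr_emb, S.pr_emb, P.nn', one_smul, S.sym₂.symm n' s, hs',
      zero_smul, map_zero, sub_zero] at h
    linear_combination (norm := abel) -h
  rw [blk_apply, e, map_sub, S.pr_emb, S.pr_emb, S.sym₂.symm n t, ht, zero_smul, sub_zero]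

end OForm

end Cfsg.Agent.OO34
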