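import Cfsg.Agent.OO34.ParabolicBase

/-!
Without root elements, the elements of `H` fixing `F³ ⊗ n` pointwise and moving its orthogonal
into it are Siegel elements of the second factor (helper74).
-/

set_option autoImplicit false
set_option linter.unusedSectionVars false
set_option linter.unusedSimpArgs false

namespace Cfsg.Agent.OO34

open Matrix Cfsg.Agent.MaxSub Cfsg.Agent.TensorMax Cfsg.Agent.TensorInv Module QuadraticMap

variable {F : Type*} [Field F] [Fintype F] {S : OForm F}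
  {H : Subgroup (GL (Fin 3 × Fin 4) F)} {n n' : Fin 4 → F}

namespace InQ

variable {u : GL (Fin 3 × Fin 4) F}

/-- The blocks are self-adjoint. -/
theorem blk_symm (hu : InQ S n u) (h : u ∈ H) (O : Over S H) (P : S.Hyp n n') (hR : ¬ Root S H)
    {t : Fin 4 → F} (ht : S.f₂ n t = 0) (ht' : S.f₂ n' t = 0) (x y : Fin 3 → F) :
    S.f₁ (S.blk n' u t x) y = S.f₁ x (S.blk n' u t y) := by
  have hE := hu.polar_disp (S.inQ_siegel P ht) P hR h (O.siegel₂_mem P.nn ht) x y
  have e : ∀ x, disp n' (kr (1 : GL (Fin 3) F) (siegel S.f₂ n t)) x =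
      emb t x - emb n ((S.f₂ t t / 2) • x) := fun x => by
    have h := disp_eq n' (kr 1 (siegel S.f₂ n t)) x
    rw [S.act_siegel P.nn ht, S.pr_emb, S.pr_emb, P.nn', one_smul, S.sym₂.symm n' t, ht',
      zero_smul, map_zero, sub_zero] at h
    linear_combination (norm := abel) -h
  rw [e, e, polar_sub_left, polar_sub_right, S.polar_pr' t x, S.polar_pr' n _,
    S.polar_pr (disp n' u x) t, S.polar_pr (disp n' u x) n, hu.pr_disp, hu.pr_disp, map_zero,
    map_zero, LinearMap.zero_apply, sub_zero, sub_zero] at hE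
  exact hE.symm

end InQ

/-- Linear maps agreeing against an orthogonal basis agree. -/
theorem map_ext_basis {e : Fin 3 → (Fin 3 → F)} (he : Fam S.f₁ e)
    {φ ψ : (Fin 3 → F) →ₗ[F] (Fin 3 → F)} (h : ∀ i j, S.f₁ (e i) (φ (e j)) = S.f₁ (e i) (ψ (e j)))
    (x : Fin 3 → F) : φ x = ψ x := by
  have hj : ∀ j, φ (e j) = ψ (e j) := fun j => sub_eq_zero.1
    (S.sym₁.eq_zero_of_basis he fun i => by rw [map_sub, h, sub_self])
  have hx : x = ∑ j, ((S.f₁ (e j) (e j))⁻¹ * S.f₁ (e j) x) • e j := by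
    refine sub_eq_zero.1 (S.sym₁.eq_zero_of_basis he fun i => ?_)
    rw [map_sub, map_sum, Finset.sum_eq_single i]
    · rw [map_smul, smul_eq_mul]
      field_simp [he.aniso i]
      ring
    · intro j _ hj
      rw [map_smul, he.orth i j (Ne.symm hj), smul_zero]
    · simp
  rw [hx, map_sum, map_sum]
  exact Finset.sum_congr rfl fun j _ => by rw [map_smul, map_smul, hj]

/-- A suitable non-zero coefficient. -/
theorem exists_mu (S : OForm F) {A B : F} (hA : A ≠ 0) (hB : B ≠ 0) :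
    ∃ μ : F, μ ≠ 0 ∧ A + μ ^ 2 * B ≠ 0 := by
  by_contra hno
  push Not at hno
  have h1 := hno 1 one_ne_zero
  have h2 := hno 2 S.two
  have h3 : (3 : F) * B = 0 := by linear_combination h2 - h1
  have h30 : (3 : F) = 0 := (mul_eq_zero.1 h3).resolve_right hB
  -- characteristic three: a scalar outside the prime field
  classical
  obtain ⟨μ, hμ⟩ : ∃ μ : F, μ ∉ ({0, 1, -1} : Finset F) := by
    by_contra hc
    push Not at hc
    have := Finset.card_le_card (s := (Finset.univ : Finset F)) fun x _ => hc x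
    have h5 := S.five
    rw [Nat.card_eq_fintype_card] at h5
    have := (Finset.card_univ (α := F))
    have h6 : ({0, 1, -1} : Finset F).card ≤ 3 := Finset.card_le_three
    omega
  simp only [Finset.mem_insert, Finset.mem_singleton, not_or] at hμ
  have h4 : (μ - 1) * (μ + 1) * B = 0 := by linear_combination hno μ hμ.1 - h1
  rcases mul_eq_zero.1 h4 with h4 | h4
  · rcases mul_eq_zero.1 h4 with h4 | h4
    · exact hμ.2.1 (sub_eq_zero.1 h4)
    · exact hμ.2.2 (eq_neg_of_add_eq_zero_left h4)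
  · exact hB h4

variable (O : Over S H) (P : S.Hyp n n') (hR : ¬ Root S H) {u : GL (Fin 3 × Fin 4) F}
include O P hR

/-- The blocks have no entry off the diagonal. -/
theorem blk_offdiag (hu : InQ S n u) (h : u ∈ H) {e : Fin 3 → (Fin 3 → F)} (he : Fam S.f₁ e)
    {t₀ : Fin 4 → F} (ht₀ : S.f₂ n t₀ = 0) (ht₀' : S.f₂ n' t₀ = 0) :
    S.f₁ (e 1) (S.blk n' u t₀ (e 0)) = 0 := by
  -- conjugates by the half-turns
  let G : Fin 3 → GL (Fin 3 × Fin 4) F := fun k => kr (S.turn (e k)) 1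
  have hG : ∀ k, G k ∈ H := fun k => turn_mem_over S O (he.aniso k)
  have hc : ∀ k, InQ S n (G k * u * (G k)⁻¹) := fun k => hu.conj (S.turn_form (he.aniso k))
  have hcH : ∀ k, G k * u * (G k)⁻¹ ∈ H := fun k => mul_mem (mul_mem (hG k) h) (inv_mem (hG k))
  set U := u * (G 2 * u * (G 2)⁻¹) * (G 0 * u * (G 0)⁻¹)⁻¹ * (G 1 * u * (G 1)⁻¹)⁻¹ with hUdef
  have hU : InQ S n U := ((hu.mul (hc 2)).mul (hc 0).inv).mul (hc 1).inv
  have hUH : U ∈ H := mul_mem (mul_mem (mul_mem h (hcH 2)) (inv_mem (hcH 0))) (inv_mem (hcH 1))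
  let T : Fin 3 → (Fin 3 → F) →ₗ[F] (Fin 3 → F) := fun k => act (S.turn (e k))
  have hblk : ∀ t, S.f₂ n t = 0 → ∀ x, S.blk n' U t x = S.blk n' u t x +
      T 2 (S.blk n' u t (T 2 x)) - T 0 (S.blk n' u t (T 0 x)) - T 1 (S.blk n' u t (T 1 x)) := by
    intro t ht x
    rw [hUdef, S.blk_mul P ((hu.mul (hc 2)).mul (hc 0).inv) (hc 1).inv ht,
      S.blk_mul P (hu.mul (hc 2)) (hc 0).inv ht, S.blk_mul P hu (hc 2) ht,
      S.blk_inv P (hc 0) ht, S.blk_inv P (hc 1) ht]
    simp only [G, T, S.blk_conj, S.turn_inv]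
    abel
  have hT : ∀ k j, T k (e j) = (if j = k then (1 : F) else -1) • e j := by
    intro k j
    split
    · subst ‹j = k›
      rw [one_smul]
      exact S.turn_self (he.aniso j)
    · rename_i hjk
      rw [neg_one_smul]
      exact S.turn_perp (he.orth k j (Ne.symm hjk))
  have hadj : ∀ k x y, S.f₁ x (T k y) = S.f₁ (T k x) y := fun k x y =>
    (S.turn_adj (he.aniso k) x y).symm
  -- the averaged blocks
  let Oab : (Fin 3 → F) →ₗ[F] (Fin 3 → F) :=
    (S.f₁ (e 0)).smulRight (e 1) + (S.f₁ (e 1)).smulRight (e 0)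
  have hO : ∀ x, Oab x = S.f₁ (e 0) x • e 1 + S.f₁ (e 1) x • e 0 := fun x => rfl
  have h00 := he.aniso 0
  have h11 := he.aniso 1
  let c : (Fin 4 → F) → F := fun t =>
    4 * S.f₁ (e 1) (S.blk n' u t (e 0)) / (S.f₁ (e 0) (e 0) * S.f₁ (e 1) (e 1))
  have hval : ∀ t, S.f₂ n t = 0 → S.f₂ n' t = 0 → ∀ x, S.blk n' U t x = c t • Oab x := by
    intro t ht ht'
    refine map_ext_basis (φ := S.blk n' U t) (ψ := c t • Oab) he fun i j => ?_
    have hs : ∀ i j, S.f₁ (e i) (S.blk n' u t (e j)) = S.f₁ (e j) (S.blk n' u t (e i)) := by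
      intro i j
      rw [← hu.blk_symm h O P hR ht ht', S.sym₁.symm]
    rw [hblk t ht, map_sub, map_sub, map_add, hadj, hadj, hadj, hT, hT, hT, hT, hT, hT]
    simp only [map_smul, LinearMap.smul_apply, smul_eq_mul, hO, map_add, c]
    fin_cases i <;> fin_cases j <;>
      simp [he.orth 0 1 (by decide), he.orth 1 0 (by decide), he.orth 0 2 (by decide),
        he.orth 2 0 (by decide), he.orth 1 2 (by decide), he.orth 2 1 (by decide), hs 0 1,
        map_smul, map_neg]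
    all_goals field_simp
    all_goals ring
  -- the vector of the second factor
  let ξ : (Fin 4 → F) →ₗ[F] F :=
    { toFun := fun d => c (S.proj n n' d)
      map_add' := fun d d' => by
        simp only [c, map_add, OForm.blk_apply, S.pr_add]
        ring
      map_smul' := fun r d => by
        simp only [c, map_smul, OForm.blk_apply, S.pr_smul, RingHom.id_apply, smul_eq_mul]
        ring }
  obtain ⟨τ, hτ⟩ := S.rep₂ ξ
  have hc0 : c 0 = 0 := by simp [c, OForm.blk_apply, S.pr_zero]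
  have hτn : S.f₂ n τ = 0 := by
    rw [hτ]; show c (S.proj n n' n) = 0; rw [S.proj_n P, hc0]
  have hτn' : S.f₂ n' τ = 0 := by
    rw [hτ]; show c (S.proj n n' n') = 0; rw [S.proj_n' P, hc0]
  have hcτ : ∀ t, S.f₂ n t = 0 → S.f₂ n' t = 0 → c t = S.f₂ t τ := fun t ht ht' => by
    rw [hτ]; show c t = c (S.proj n n' t); rw [S.proj_eq ht ht']
  have hdU : ∀ x, ∃ y, disp n' U x = emb τ (Oab x) + emb n y := fun x =>
    ⟨_, S.eq_emb P (hU.pr_disp x) hτn hτn' fun t ht ht' => by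
      rw [← S.blk_apply, hval t ht ht', hcτ t ht ht']⟩
  -- a second half-turn
  obtain ⟨μ, hμ, hN⟩ := exists_mu S (he.aniso 1) (he.aniso 2)
  set w := e 1 + μ • e 2 with hw
  have hww : S.f₁ w w = S.f₁ (e 1) (e 1) + μ ^ 2 * S.f₁ (e 2) (e 2) := by
    simp [hw, he.orth 1 2 (by decide), he.orth 2 1 (by decide)]
    ring
  have hw0 : S.f₁ w w ≠ 0 := hww ▸ hN
  have hgw : kr (S.turn w) 1 ∈ H := turn_mem_over S O hw0
  have hV : InQ S n (kr (S.turn w) 1 * U * (kr (S.turn w) 1)⁻¹) := hU.conj (S.turn_form hw0)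
  have hVH : kr (S.turn w) 1 * U * (kr (S.turn w) 1)⁻¹ ∈ H :=
    mul_mem (mul_mem hgw hUH) (inv_mem hgw)
  have hdV : ∀ x, ∃ y, disp n' (kr (S.turn w) 1 * U * (kr (S.turn w) 1)⁻¹) x =
      emb τ (act (S.turn w) (Oab (act (S.turn w) x))) + emb n y := fun x => by
    obtain ⟨y, hy⟩ := hdU (act (S.turn w)⁻¹ x)
    refine ⟨act (S.turn w) y, ?_⟩
    rw [InQ.disp_conj, hy, map_add, act_kr, act_kr, act_one, act_one, S.turn_inv]
  obtain ⟨y₁, h₁⟩ := hdU (e 1)
  obtain ⟨y₂, h₂⟩ := hdU (e 2)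
  obtain ⟨z₁, g₁⟩ := hdV (e 1)
  obtain ⟨z₂, g₂⟩ := hdV (e 2)
  have hrel := hU.polar_disp hV P hR hUH hVH (e 1) (e 2)
  rw [h₁, h₂, g₁, g₂, S.polar_pair P hτn hτn, S.polar_pair P hτn hτn,
    show Oab (e 2) = 0 by simp [hO, he.orth 0 2 (by decide), he.orth 1 2 (by decide)],
    map_zero, zero_mul] at hrel
  have hO1 : Oab (e 1) = S.f₁ (e 1) (e 1) • e 0 := by
    simp [hO, he.orth 0 1 (by decide)]
  have hO2 : act (S.turn w) (Oab (act (S.turn w) (e 2))) =
      -(2 * (μ * S.f₁ (e 2) (e 2)) / S.f₁ w w * S.f₁ (e 1) (e 1)) • e 0 := by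
    have e2 : S.f₁ w (e 2) = μ * S.f₁ (e 2) (e 2) := by simp [hw, he.orth 1 2 (by decide)]
    have e0 : S.f₁ w (e 0) = 0 := by
      simp [hw, he.orth 1 0 (by decide), he.orth 2 0 (by decide)]
    have eO : Oab (act (S.turn w) (e 2)) =
        (2 * (μ * S.f₁ (e 2) (e 2)) / S.f₁ w w * S.f₁ (e 1) (e 1)) • e 0 := by
      rw [S.turn_apply, e2, hO]
      generalize 2 * (μ * S.f₁ (e 2) (e 2)) / S.f₁ w w = p
      simp [hw, he.orth 0 1 (by decide), he.orth 0 2 (by decide), he.orth 1 2 (by decide)]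
    rw [eO, map_smul, S.turn_perp e0, neg_smul, smul_neg]
  rw [hO1, hO2, map_smul, map_smul, LinearMap.smul_apply, smul_eq_mul, smul_eq_mul] at hrel
  have hττ : S.f₂ τ τ = 0 := by
    by_contra h0
    have h2 := S.two
    have : 2 * μ * S.f₁ (e 2) (e 2) * S.f₁ (e 1) (e 1) * S.f₁ (e 1) (e 1) *
        S.f₁ (e 0) (e 0) * S.f₂ τ τ = 0 := by
      field_simp at hrel
      linear_combination hrel
    simp [h0, h2, hμ, he.aniso] at this
  have hτ0 : τ = 0 := by
    by_contra h0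
    exact OForm.Hyp.aniso S P hτn hτn' h0 hττ
  have := hcτ t₀ ht₀ ht₀'
  rw [hτ0, map_zero] at this
  simp only [c, div_eq_zero_iff, mul_eq_zero] at this
  have h4 : (4 : F) ≠ 0 := by
    rw [show (4 : F) = 2 * 2 by norm_num]
    exact mul_ne_zero S.two S.two
  rcases this with (h1 | h1) | h1 | h1
  · exact absurd h1 h4
  · exact h1
  · exact absurd h1 h00
  · exact absurd h1 h11

/-- The blocks are scalar. -/
theorem blk_scalar (hu : InQ S n u) (h : u ∈ H) {t : Fin 4 → F} (ht : S.f₂ n t = 0)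
    (ht' : S.f₂ n' t = 0) : ∃ l : F, ∀ x, S.blk n' u t x = l • x := by
  classical
  obtain ⟨v, hv⟩ := S.sym₁.exists_aniso (by norm_num)
  obtain ⟨w, hvw, hw⟩ := S.sym₁.exists_aniso_perp (by norm_num) hv
  obtain ⟨z, hvz, hwz, hz⟩ := S.sym₁.exists_aniso_perp₂ le_rfl hv hw hvw
  set B := S.blk n' u t with hB
  have off : ∀ x y z : Fin 3 → F, S.f₁ x x ≠ 0 → S.f₁ y y ≠ 0 → S.f₁ z z ≠ 0 → S.f₁ x y = 0 →
      S.f₁ x z = 0 → S.f₁ y z = 0 → S.f₁ y (B x) = 0 := by
    intro x y z hx hy hz hxy hxz hyz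
    refine blk_offdiag O P hR hu h (e := ![x, y, z]) ⟨fun i => ?_, fun i j hij => ?_⟩ ht ht'
    · fin_cases i <;> simpa
    · fin_cases i <;> fin_cases j <;>
        first
        | exact absurd rfl hij
        | simp [hxy, hxz, hyz, S.sym₁.symm x y, S.sym₁.symm x z, S.sym₁.symm y z]
  have heig : ∀ x, S.f₁ x x ≠ 0 → B x = (S.f₁ x (B x) / S.f₁ x x) • x := by
    intro x hx
    obtain ⟨y, hxy, hy⟩ := S.sym₁.exists_aniso_perp (by norm_num) hx
    obtain ⟨z, hxz, hyz, hz⟩ := S.sym₁.exists_aniso_perp₂ le_rfl hx hy hxy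
    refine sub_eq_zero.1 (S.sym₁.eq_zero_of_basis (e := ![x, y, z])
      ⟨fun i => by fin_cases i <;> simpa, fun i j hij => ?_⟩ fun i => ?_)
    · fin_cases i <;> fin_cases j <;>
        first
        | exact absurd rfl hij
        | simp [hxy, hxz, hyz, S.sym₁.symm x y, S.sym₁.symm x z, S.sym₁.symm y z]
    · fin_cases i
      · simp [hx]
      · simp [off x y z hx hy hz hxy hxz hyz, S.sym₁.symm x y, hxy]
      · simp [off x z y hx hz hy hxz hxy (by rw [S.sym₁.symm, hyz]), S.sym₁.symm x z, hxz]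
  let l : (Fin 3 → F) → F := fun x => S.f₁ x (B x) / S.f₁ x x
  have key : ∀ x y, S.f₁ x x ≠ 0 → S.f₁ y y ≠ 0 → S.f₁ x y = 0 → l x = l y := by
    intro x y hx hy hxy
    obtain ⟨μ, hμ, hN⟩ := exists_mu S hx hy
    have hs : S.f₁ (x + μ • y) (x + μ • y) ≠ 0 := by
      rw [show S.f₁ (x + μ • y) (x + μ • y) = S.f₁ x x + μ ^ 2 * S.f₁ y y by
        simp [hxy, S.sym₁.symm x y]; ring]
      exact hN
    have h1 := heig _ hs
    rw [map_add, map_smul, heig x hx, heig y hy] at h1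
    have ex := congrArg (S.f₁ x) h1
    have ey := congrArg (S.f₁ y) h1
    simp only [map_add, map_smul, smul_eq_mul, hxy, S.sym₁.symm x y, mul_zero, add_zero,
      zero_add] at ex ey
    exact (mul_right_cancel₀ hx ex).trans (mul_right_cancel₀ (mul_ne_zero hμ hy)
      (by linear_combination ey)).symm
  have hfam : Fam S.f₁ ![v, w, z] := by
    refine ⟨fun i => by fin_cases i <;> simpa, fun i j hij => ?_⟩
    fin_cases i <;> fin_cases j <;>
      first
      | exact absurd rfl hij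
      | simp [hvw, hvz, hwz, S.sym₁.symm v w, S.sym₁.symm v z, S.sym₁.symm w z]
  refine ⟨l v, fun x => map_ext_basis (φ := B) (ψ := l v • LinearMap.id) hfam (fun i j => ?_) x⟩
  have hj : B (![v, w, z] j) = l v • ![v, w, z] j := by
    fin_cases j
    · exact heig v hv
    · show B w = l v • w
      rw [key v w hv hw hvw]
      exact heig w hw
    · show B z = l v • z
      rw [key v z hv hz hvz]
      exact heig z hz
  rw [hj, LinearMap.smul_apply, LinearMap.id_apply]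

/-- The elements in question are Siegel elements. -/
theorem InQ.eq_siegel (hu : InQ S n u) (h : u ∈ H) :
    ∃ τ, S.f₂ n τ = 0 ∧ S.f₂ n' τ = 0 ∧ u = kr 1 (siegel S.f₂ n τ) := by
  classical
  obtain ⟨v, hv⟩ := S.sym₁.exists_aniso (by norm_num)
  let χ : (Fin 4 → F) →ₗ[F] F :=
    { toFun := fun d => S.f₁ v (S.blk n' u (S.proj n n' d) v) / S.f₁ v v
      map_add' := fun d d' => by
        simp only [map_add, OForm.blk_apply, S.pr_add]
        ring
      map_smul' := fun r d => by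
        simp only [map_smul, OForm.blk_apply, S.pr_smul, RingHom.id_apply, smul_eq_mul]
        ring }
  obtain ⟨τ, hτ⟩ := S.rep₂ χ
  have hχ0 : ∀ d, S.proj n n' d = 0 → χ d = 0 := fun d hd => by
    show S.f₁ v (S.blk n' u (S.proj n n' d) v) / S.f₁ v v = 0
    rw [hd, OForm.blk_apply, S.pr_zero, map_zero, zero_div]
  have hτn : S.f₂ n τ = 0 := by rw [hτ]; exact hχ0 _ (S.proj_n P)
  have hτn' : S.f₂ n' τ = 0 := by rw [hτ]; exact hχ0 _ (S.proj_n' P)
  refine ⟨τ, hτn, hτn', ?_⟩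
  have hE : InQ S n (kr 1 (siegel S.f₂ n τ)) := S.inQ_siegel P hτn
  have hEH := O.siegel₂_mem P.nn hτn
  set w := (kr 1 (siegel S.f₂ n τ))⁻¹ * u with hw
  have hwQ : InQ S n w := hE.inv.mul hu
  have hwH : w ∈ H := mul_mem (inv_mem hEH) h
  have hw0 : ∀ t, S.f₂ n t = 0 → S.f₂ n' t = 0 → ∀ x, S.blk n' w t x = 0 := by
    intro t ht ht' x
    obtain ⟨l, hl⟩ := blk_scalar O P hR hu h ht ht'
    have hlt : S.f₂ t τ = l := by
      rw [hτ]
      show S.f₁ v (S.blk n' u (S.proj n n' t) v) / S.f₁ v v = l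
      rw [S.proj_eq ht ht', hl, map_smul, smul_eq_mul, mul_div_assoc, div_self hv, mul_one]
    rw [hw, S.blk_mul P hE.inv hu ht, S.blk_inv P hE ht, S.blk_siegel P hτn hτn' ht, hl, hlt,
      neg_add_cancel]
  have hfix : InZ S n w := by
    intro v x hv
    have hz : S.pr n (emb v x) = 0 := by rw [S.pr_emb, hv, zero_smul]
    obtain ⟨y, hy, hy'⟩ := hwQ.exists_y P hz
    have hy0 : y = 0 := S.sym₁.nd y fun x' => by
      rw [hy', S.eq_emb P (hwQ.pr_disp x') (τ := 0) (map_zero _) (map_zero _) (y := 0)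
        (fun t ht ht' => by rw [← S.blk_apply, hw0 t ht ht', smul_zero]), map_zero, zero_add,
        S.polar_emb, S.sym₂.symm n v, hv, mul_zero, neg_zero]
    rw [hy, hy0, map_zero, add_zero]
  have hw1 : w = 1 := by
    by_contra hne
    exact hR ⟨n, P.ne, P.nn, w, hwH, hne, hfix⟩
  exact (inv_mul_eq_one.1 hw1).symm

end Cfsg.Agent.OO34
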