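import Cfsg.Agent.OO34.Siegel

/-!
Root elements with centre in a singular line `F³ ⊗ n`: as soon as one of them lies in `H`, all of
them do, for every singular line (helper88).
-/

set_option autoImplicit false
set_option linter.unusedSectionVars false
set_option linter.unusedSimpArgs false

namespace Cfsg.Agent.OO34

open Matrix Cfsg.Agent.MaxSub Cfsg.Agent.TensorMax Cfsg.Agent.TensorInv Module QuadraticMap

variable {F : Type*} [Field F]

namespace OForm

variable (S : OForm F)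

/-- The contraction with `w`. -/
def pr (w : Fin 4 → F) : V F 3 4 →ₗ[F] (Fin 3 → F) := ctr fun j => S.f₂ w (Pi.single j 1)

theorem pr_emb (w v : Fin 4 → F) (x : Fin 3 → F) : S.pr w (emb v x) = S.f₂ w v • x := by
  rw [pr, ctr_emb]
  congr 1
  conv_rhs => rw [pi_eq_sum_univ' v, map_sum]
  exact Finset.sum_congr rfl fun j _ => by rw [map_smul, smul_eq_mul, mul_comm]

theorem pr_eq_sum (w : Fin 4 → F) (z : V F 3 4) :
    S.pr w z = ∑ j, S.f₂ w (Pi.single j 1) • TensorInv.col j z := by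
  conv_lhs => rw [eq_sum_emb z, map_sum]
  exact Finset.sum_congr rfl fun j _ => S.pr_emb _ _ _

theorem polar_pr (z : V F 3 4) (w : Fin 4 → F) (y : Fin 3 → F) :
    polar S.Q z (emb w y) = S.f₁ (S.pr w z) y := by
  rw [S.pr_eq_sum]
  show polarBilin S.Q z (emb w y) = _
  conv_lhs => rw [eq_sum_emb z]
  rw [map_sum, LinearMap.sum_apply, map_sum, LinearMap.sum_apply]
  refine Finset.sum_congr rfl fun j _ => ?_
  rw [polarBilin_apply_apply, S.polar_emb, map_smul, LinearMap.smul_apply, smul_eq_mul,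
    S.sym₂.symm (Pi.single j 1) w, mul_comm]

theorem pr_add (v w : Fin 4 → F) (z : V F 3 4) : S.pr (v + w) z = S.pr v z + S.pr w z := by
  simp only [S.pr_eq_sum, map_add, LinearMap.add_apply, add_smul, Finset.sum_add_distrib]

theorem pr_smul (c : F) (w : Fin 4 → F) (z : V F 3 4) : S.pr (c • w) z = c • S.pr w z := by
  simp only [S.pr_eq_sum, map_smul, LinearMap.smul_apply, smul_eq_mul, Finset.smul_sum, smul_smul]

theorem eq_zero_of_pr {z : V F 3 4} (h : ∀ w, S.pr w z = 0) : z = 0 :=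
  S.eq_zero_of_polar fun v x => by
    rw [polar_comm, S.polar_pr, h, map_zero, LinearMap.zero_apply]

/-- `x ↦ f(a,x) y - f(y,x) a`. -/
def wedge (a y : Fin 3 → F) : (Fin 3 → F) →ₗ[F] (Fin 3 → F) :=
  (S.f₁ a).smulRight y - (S.f₁ y).smulRight a

theorem wedge_apply (a y x : Fin 3 → F) : S.wedge a y x = S.f₁ a x • y - S.f₁ y x • a := by
  simp [wedge]

theorem act_wedge {p : GL (Fin 3) F} (hp : ∀ x y, S.f₁ (act p x) (act p y) = S.f₁ x y)
    (a y x : Fin 3 → F) :
    act p (S.wedge a y x) = S.wedge (act p a) (act p y) (act p x) := by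
  rw [wedge_apply, wedge_apply, map_sub, map_smul, map_smul, hp, hp]

/-- A skew map. -/
def Skew (φ : (Fin 3 → F) →ₗ[F] (Fin 3 → F)) : Prop :=
  ∀ x y, S.f₁ (φ x) y + S.f₁ x (φ y) = 0

theorem skew_wedge (a y : Fin 3 → F) : S.Skew (S.wedge a y) := fun p q => by
  simp only [wedge_apply, map_sub, map_smul, LinearMap.sub_apply, LinearMap.smul_apply,
    smul_eq_mul, S.sym₁.symm a p, S.sym₁.symm y p]
  ring

/-- A hyperbolic pair of `F⁴`. -/
structure Hyp (n n' : Fin 4 → F) : Prop where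
  nn : S.f₂ n n = 0
  n'n' : S.f₂ n' n' = 0
  nn' : S.f₂ n n' = 1

theorem Hyp.symm {n n' : Fin 4 → F} (P : S.Hyp n n') : S.Hyp n' n :=
  ⟨P.n'n', P.nn, by rw [S.sym₂.symm, P.nn']⟩

theorem Hyp.n'n {n n' : Fin 4 → F} (P : S.Hyp n n') : S.f₂ n' n = 1 := P.symm.nn'

theorem Hyp.ne {n n' : Fin 4 → F} (P : S.Hyp n n') : n ≠ 0 := fun h => one_ne_zero (by
  rw [← P.nn', h, map_zero, LinearMap.zero_apply])

theorem exists_hyp {n : Fin 4 → F} (hn : n ≠ 0) (hnn : S.f₂ n n = 0) : ∃ n', S.Hyp n n' := by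
  obtain ⟨n', h1, h2⟩ := TensorInv.exists_partner S.two S.sym₂.symm S.sym₂.nd hn hnn
  exact ⟨n', hnn, h1, h2⟩

theorem Hyp.aniso {n n' t : Fin 4 → F} (P : S.Hyp n n') (h : S.f₂ n t = 0) (h' : S.f₂ n' t = 0)
    (ht : t ≠ 0) : S.f₂ t t ≠ 0 := fun h0 => by
  obtain ⟨c, rfl⟩ := S.minus n t P.nn h h0 P.ne
  rw [map_smul, smul_eq_mul, P.n'n, mul_one] at h'
  exact ht (by rw [h', zero_smul])

/-- A basis `a`, `c`, `d` of `F³` with `a`, `c` singular and `d` orthogonal to both. -/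
structure Frame (a c d : Fin 3 → F) : Prop where
  aa : S.f₁ a a = 0
  cc : S.f₁ c c = 0
  ac : S.f₁ a c = 1
  ad : S.f₁ a d = 0
  cd : S.f₁ c d = 0
  dd : S.f₁ d d ≠ 0

theorem Frame.symm {a c d : Fin 3 → F} (R : S.Frame a c d) : S.Frame c a d :=
  ⟨R.cc, R.aa, by rw [S.sym₁.symm, R.ac], R.cd, R.ad, R.dd⟩

theorem Frame.span {a c d : Fin 3 → F} (haa : S.f₁ a a = 0) (hcc : S.f₁ c c = 0)
    (hac : S.f₁ a c = 1) (had : S.f₁ a d = 0) (hcd : S.f₁ c d = 0) (hd : d ≠ 0)
    (x : Fin 3 → F) : ∃ p q r : F, x = p • a + q • c + r • d := by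
  let T : (Fin 3 → F) →ₗ[F] (Fin 3 → F) :=
    (LinearMap.proj 0).smulRight a + (LinearMap.proj 1).smulRight c +
      (LinearMap.proj 2).smulRight d
  have hT : ∀ p, T p = p 0 • a + p 1 • c + p 2 • d := fun p => rfl
  have hinj : Function.Injective T := by
    rw [injective_iff_map_eq_zero]
    intro p hp
    rw [hT] at hp
    have e1 := congrArg (S.f₁ a) hp
    have e2 := congrArg (S.f₁ c) hp
    simp [haa, hac, had, hcc, hcd, S.sym₁.symm a c] at e1 e2
    rw [e1, e2] at hp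
    simp at hp
    funext i
    fin_cases i
    · exact e2
    · exact e1
    · exact hp.resolve_right hd
  obtain ⟨p, rfl⟩ := LinearMap.injective_iff_surjective.1 hinj x
  exact ⟨p 0, p 1, p 2, hT p⟩

theorem Frame.decomp {a c d : Fin 3 → F} (R : S.Frame a c d) (x : Fin 3 → F) :
    x = S.f₁ c x • a + S.f₁ a x • c + (S.f₁ d x / S.f₁ d d) • d := by
  have hd : d ≠ 0 := fun h => R.dd (by simp [h])
  obtain ⟨p, q, r, rfl⟩ := Frame.span S R.aa R.cc R.ac R.ad R.cd hd x
  simp [R.aa, R.cc, R.ac, R.ad, R.cd, S.sym₁.symm a c, S.sym₁.symm a d, S.sym₁.symm c d, R.dd]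

theorem exists_frame [Finite F] : ∃ a c d : Fin 3 → F, S.Frame a c d := by
  obtain ⟨a, ha, haa⟩ := S.sym₁.exists_singular le_rfl
  obtain ⟨c, hcc, hac⟩ := TensorInv.exists_partner S.two S.sym₁.symm S.sym₁.nd ha haa
  obtain ⟨d, hd, hperp⟩ := exists_perp S.f₁ ![a, c] (by omega)
  have had : S.f₁ a d = 0 := hperp 0
  have hcd : S.f₁ c d = 0 := hperp 1
  refine ⟨a, c, d, haa, hcc, hac, had, hcd, fun hdd => hd (S.sym₁.nd d fun y => ?_)⟩
  obtain ⟨p, q, r, rfl⟩ := Frame.span S haa hcc hac had hcd hd y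
  simp [hdd, S.sym₁.symm a d, S.sym₁.symm c d, had, hcd]

/-- A skew map in the coordinates of a frame. -/
def comb (a c d : Fin 3 → F) (α β γ : F) : (Fin 3 → F) →ₗ[F] (Fin 3 → F) :=
  α • S.wedge a d + β • S.wedge a c + γ • S.wedge c d

theorem comb_swap (a c d : Fin 3 → F) (α β γ : F) :
    S.comb a c d α β γ = S.comb c a d γ (-β) α := by
  refine LinearMap.ext fun x => ?_
  simp only [comb, LinearMap.add_apply, LinearMap.smul_apply, wedge_apply]
  module

theorem comb_sub (a c d : Fin 3 → F) (α β γ α' β' γ' : F) :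
    S.comb a c d α β γ - S.comb a c d α' β' γ' = S.comb a c d (α - α') (β - β') (γ - γ') := by
  simp only [comb]
  module

theorem skew_eq_comb {a c d : Fin 3 → F} (R : S.Frame a c d) {φ : (Fin 3 → F) →ₗ[F] (Fin 3 → F)}
    (hφ : S.Skew φ) : φ = S.comb a c d (S.f₁ (φ c) d / S.f₁ d d) (S.f₁ (φ c) a)
      (S.f₁ (φ a) d / S.f₁ d d) := by
  have hdd := R.dd
  have hdiag : ∀ x, S.f₁ (φ x) x = 0 := fun x => by
    have h := hφ x x
    rw [S.sym₁.symm (φ x) x] at h
    exact (mul_eq_zero.1 (show (2 : F) * S.f₁ (φ x) x = 0 by linear_combination h)).resolve_left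
      S.two
  refine LinearMap.ext fun x => ?_
  conv_lhs => rw [R.decomp S x, map_add, map_add, map_smul, map_smul, map_smul,
    R.decomp S (φ a), R.decomp S (φ c), R.decomp S (φ d)]
  conv_rhs => rw [R.decomp S x]
  have h1 : S.f₁ a (φ a) = 0 := by rw [S.sym₁.symm, hdiag]
  have h2 : S.f₁ c (φ c) = 0 := by rw [S.sym₁.symm, hdiag]
  have h3 : S.f₁ d (φ d) = 0 := by rw [S.sym₁.symm, hdiag]
  have h4 : S.f₁ c (φ a) = -S.f₁ (φ c) a := by linear_combination hφ c a
  have h5 : S.f₁ c (φ d) = -S.f₁ (φ c) d := by linear_combination hφ c d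
  have h6 : S.f₁ a (φ d) = -S.f₁ (φ a) d := by linear_combination hφ a d
  simp only [comb, LinearMap.add_apply, LinearMap.smul_apply, wedge_apply, map_add, map_smul,
    smul_eq_mul, R.aa, R.cc, R.ac, R.ad, R.cd, S.sym₁.symm a c, S.sym₁.symm a d, S.sym₁.symm c d,
    h1, h2, h3, h4, h5, h6, S.sym₁.symm (φ a) d, S.sym₁.symm (φ c) d, S.sym₁.symm (φ c) a]
  match_scalars <;> field_simp <;> ring

end OForm

/-- `H` has the root element of the singular vector `n` and the map `φ`. -/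
def Rt (S : OForm F) (H : Subgroup (GL (Fin 3 × Fin 4) F)) (n : Fin 4 → F)
    (φ : (Fin 3 → F) →ₗ[F] (Fin 3 → F)) : Prop :=
  ∃ g ∈ H, ∀ v x, act g (emb v x) = emb v x + S.f₂ n v • emb n (φ x)

/-- `H` has all root elements with centre in `F³ ⊗ n`. -/
def AllRt (S : OForm F) (H : Subgroup (GL (Fin 3 × Fin 4) F)) (n : Fin 4 → F) : Prop :=
  ∀ a y, Rt S H n (S.wedge a y)

variable {S : OForm F} {H : Subgroup (GL (Fin 3 × Fin 4) F)}

theorem exists_rt (O : Over S H) {n n' : Fin 4 → F} (P : S.Hyp n n') {g : GL (Fin 3 × Fin 4) F}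
    (hg : g ∈ H) (hg1 : g ≠ 1) (hZ : InZ S n g) :
    ∃ φ, S.Skew φ ∧ φ ≠ 0 ∧ Rt S H n φ := by
  let φ : (Fin 3 → F) →ₗ[F] (Fin 3 → F) := S.pr n' ∘ₗ (act g - LinearMap.id) ∘ₗ emb n'
  have hperp : ∀ z w, S.f₂ n w = 0 → S.pr w (act g z - z) = 0 := fun z w hw =>
    S.sym₁.nd _ fun y => by
      have h := S.polar_act (O.le hg) z (emb w y)
      rw [hZ w y hw] at h
      rw [← S.polar_pr, polar_sub_left, h, sub_self]
  have hval : ∀ x, act g (emb n' x) = emb n' x + emb n (φ x) := fun x => by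
    refine eq_add_of_sub_eq' (sub_eq_zero.1 (S.eq_zero_of_pr fun w => ?_))
    have e : w = (w - S.f₂ n w • n') + S.f₂ n w • n' := by abel
    have h0 : S.f₂ n (w - S.f₂ n w • n') = 0 := by
      rw [map_sub, map_smul, smul_eq_mul, P.nn', mul_one, sub_self]
    have hφ : φ x = S.pr n' (act g (emb n' x) - emb n' x) := rfl
    rw [map_sub, S.pr_emb, S.sym₂.symm n w]
    conv_lhs => arg 1; rw [e, S.pr_add, S.pr_smul, hperp _ _ h0, zero_add, ← hφ]
    rw [sub_self]
  have hrt : ∀ v x, act g (emb v x) = emb v x + S.f₂ n v • emb n (φ x) := fun v x => by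
    have e : v = (v - S.f₂ n v • n') + S.f₂ n v • n' := by abel
    have h0 : S.f₂ n (v - S.f₂ n v • n') = 0 := by
      rw [map_sub, map_smul, smul_eq_mul, P.nn', mul_one, sub_self]
    conv_lhs => rw [e, emb_add_left, map_add, hZ _ _ h0, emb_smul_left, map_smul, hval, smul_add]
    rw [← add_assoc, ← emb_smul_left, ← emb_add_left, ← e]
  refine ⟨φ, fun x y => ?_, fun h0 => hg1 (gl_ext_emb fun v x => ?_), g, hg, hrt⟩
  · have h := S.polar_act (O.le hg) (emb n' x) (emb n' y)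
    rw [hval, hval, polar_add_left, polar_add_right, polar_add_right] at h
    simp only [S.polar_emb, P.nn, P.n'n', P.nn', P.n'n, mul_zero, mul_one, zero_add,
      add_zero] at h
    rw [add_comm]
    exact h
  · rw [hrt, h0, act_one, LinearMap.zero_apply, map_zero, smul_zero, add_zero]

namespace Rt

variable {n : Fin 4 → F} {φ ψ : (Fin 3 → F) →ₗ[F] (Fin 3 → F)}

theorem sub (hn : S.f₂ n n = 0) (h : Rt S H n φ) (h' : Rt S H n ψ) : Rt S H n (φ - ψ) := by
  obtain ⟨g, hg, e⟩ := h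
  obtain ⟨g', hg', e'⟩ := h'
  refine ⟨g'⁻¹ * g, mul_mem (inv_mem hg') hg, fun v x => act_injective g' ?_⟩
  rw [← act_mul, mul_inv_cancel_left, e, map_add, map_smul, e', e', hn, zero_smul, add_zero,
    LinearMap.sub_apply, map_sub, smul_sub]
  abel

theorem zero : Rt S H n 0 := ⟨1, one_mem H, fun v x => by
  rw [act_one, LinearMap.zero_apply, map_zero, smul_zero, add_zero]⟩

theorem conj {p : GL (Fin 3) F} {k : GL (Fin 4) F}
    (hk : ∀ v w, S.f₂ (act k v) (act k w) = S.f₂ v w) (hpk : kr p k ∈ H)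
    (hψ : ∀ x, ψ (act p x) = act p (φ x)) (h : Rt S H n φ) : Rt S H (act k n) ψ := by
  obtain ⟨g, hg, e⟩ := h
  refine ⟨kr p k * g * (kr p k)⁻¹, mul_mem (mul_mem hpk hg) (inv_mem hpk), fun v x => ?_⟩
  obtain ⟨v, rfl⟩ : ∃ v', act k v' = v := ⟨_, act_act_inv k v⟩
  obtain ⟨x, rfl⟩ : ∃ x', act p x' = x := ⟨_, act_act_inv p x⟩
  rw [act_mul, act_mul, ← act_kr, act_inv_act, e, map_add, map_smul, act_kr, act_kr, hk, hψ]

end Rt

section

variable [Fintype F] (O : Over S H)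
include O

theorem Rt.unip {n : Fin 4 → F} {a c d : Fin 3 → F} (R : S.Frame a c d) {α β γ : F} (s : F)
    (h : Rt S H n (S.comb a c d α β γ)) :
    Rt S H n (S.comb a c d (α + s * β + γ * S.f₁ d d * (s * s) / 2) (β + γ * s * S.f₁ d d) γ) := by
  have ht : S.f₁ a (s • d) = 0 := by rw [map_smul, R.ad, smul_zero]
  have h2 := S.two
  have hp := siegel_form S.sym₁ R.aa ht
  have key := h.conj (ψ := S.comb a c d (α + s * β + γ * S.f₁ d d * (s * s) / 2)
    (β + γ * s * S.f₁ d d) γ) (fun v w => by rw [act_one, act_one]) (O.siegel₁_mem R.aa ht) ?_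
  · rwa [act_one] at key
  intro x
  have hd : act (siegel S.f₁ a (s • d)) d = d - (s * S.f₁ d d) • a := by
    rw [siegel_apply S.sym₁ R.aa ht, R.ad, map_smul, LinearMap.smul_apply, smul_eq_mul]
    simp
  have hc : act (siegel S.f₁ a (s • d)) c = c + s • d - (S.f₁ d d * (s * s) / 2) • a := by
    rw [siegel_apply S.sym₁ R.aa ht, R.ac]
    simp only [map_smul, LinearMap.smul_apply, smul_eq_mul, S.sym₁.symm c d, R.cd, mul_zero,
      zero_smul, sub_zero, one_smul, mul_one]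
    match_scalars <;> ring
  simp only [OForm.comb, LinearMap.add_apply, LinearMap.smul_apply, map_add, map_smul,
    S.act_wedge hp, siegel_self S.sym₁ R.aa ht, hd, hc]
  simp only [OForm.wedge_apply, map_add, map_sub, map_smul, LinearMap.add_apply,
    LinearMap.sub_apply, LinearMap.smul_apply, smul_eq_mul]
  match_scalars <;> field_simp <;> ring

theorem Rt.step {n : Fin 4 → F} (hn : S.f₂ n n = 0) {a c d : Fin 3 → F} (R : S.Frame a c d)
    {α β γ : F} (h : Rt S H n (S.comb a c d α β γ)) (hne : γ ≠ 0 ∨ β ≠ 0) (r : F) :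
    Rt S H n (S.comb a c d r 0 0) := by
  have h2 := S.two
  have hdd := R.dd
  by_cases hγ : γ = 0
  · subst hγ
    have hβ := hne.resolve_left (by simp)
    convert (h.unip O R (r / β)).sub hn h using 1
    rw [S.comb_sub]
    congr 1 <;> field_simp <;> ring
  · have h1 := (h.unip O R 1).sub hn (h.unip O R (-1))
    rw [S.comb_sub] at h1
    convert (h1.unip O R (r / (2 * γ * S.f₁ d d))).sub hn h1 using 1
    rw [S.comb_sub]
    congr 1 <;> field_simp <;> ring

theorem allRt_of_rt {n : Fin 4 → F} (hn : S.f₂ n n = 0) {φ : (Fin 3 → F) →ₗ[F] (Fin 3 → F)}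
    (hφ : S.Skew φ) (hφ0 : φ ≠ 0) (h : Rt S H n φ) : AllRt S H n := by
  have h2 := S.two
  obtain ⟨a, c, d, R⟩ := S.exists_frame
  have R' := OForm.Frame.symm S R
  have hdd := R.dd
  have hc := S.skew_eq_comb R hφ
  set α := S.f₁ (φ c) d / S.f₁ d d
  set β := S.f₁ (φ c) a
  set γ := S.f₁ (φ a) d / S.f₁ d d
  rw [hc] at h hφ0
  have had : ∀ r, Rt S H n (S.comb a c d r 0 0) := by
    by_cases hne : γ ≠ 0 ∨ β ≠ 0
    · exact h.step O hn R hne
    push Not at hne
    rw [hne.1, hne.2] at h hφ0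
    have hα : α ≠ 0 := fun e => hφ0 (by simp [e, OForm.comb])
    rw [S.comb_swap] at h
    intro r
    have h' := h.step O hn R' (Or.inl hα) 1
    rw [S.comb_swap] at h'
    exact h'.step O hn R (Or.inl one_ne_zero) r
  have hcd : ∀ r, Rt S H n (S.comb a c d 0 0 r) := fun r => by
    have h' := had 1
    rw [S.comb_swap] at h' ⊢
    rw [neg_zero] at h' ⊢
    exact h'.step O hn R' (Or.inl one_ne_zero) r
  have hac : ∀ r, Rt S H n (S.comb a c d 0 r 0) := fun r => by
    convert ((hcd 1).unip O R (r / (2 * S.f₁ d d))).sub hn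
      ((hcd 1).unip O R (-(r / (2 * S.f₁ d d)))) using 1
    rw [S.comb_sub]
    congr 1 <;> field_simp <;> ring
  intro p q
  rw [S.skew_eq_comb R (S.skew_wedge p q)]
  convert ((had (S.f₁ (S.wedge p q c) d / S.f₁ d d)).sub hn
    (hac (-S.f₁ (S.wedge p q c) a))).sub hn
      (hcd (-(S.f₁ (S.wedge p q a) d / S.f₁ d d))) using 1
  rw [S.comb_sub, S.comb_sub]
  congr 1 <;> ring

theorem AllRt.move {e n m : Fin 4 → F} (he : S.f₂ e e = 0) (hn : S.f₂ n n = 0)
    (hen : S.f₂ e n = 1) (hm : S.f₂ m m = 0) (hem : S.f₂ e m ≠ 0) (h : AllRt S H n) :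
    AllRt S H m := by
  set l := S.f₂ e m with hl
  have h2 := S.two
  have ht : S.f₂ e (l⁻¹ • m - n) = 0 := by
    rw [map_sub, map_smul, hen, ← hl, smul_eq_mul, inv_mul_cancel₀ hem, sub_self]
  have hk : act (siegel S.f₂ e (l⁻¹ • m - n)) n = l⁻¹ • m := by
    rw [siegel_apply S.sym₂ he ht, hen]
    simp only [map_sub, map_smul, LinearMap.sub_apply, LinearMap.smul_apply, smul_eq_mul, hm, hn,
      S.sym₂.symm n m]
    match_scalars <;> field_simp <;> ring
  intro a y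
  obtain ⟨g, hg, hg'⟩ := hk ▸ (h ((l * l) • a) y).conj (p := 1)
    (ψ := S.wedge ((l * l) • a) y) (siegel_form S.sym₂ he ht) (O.siegel₂_mem he ht)
    (fun x => by rw [act_one, act_one])
  refine ⟨g, hg, fun v x => ?_⟩
  simp only [hg', map_smul, LinearMap.smul_apply, smul_eq_mul, emb_smul_left,
    OForm.wedge_apply, map_sub]
  match_scalars <;> field_simp

theorem AllRt.all {n : Fin 4 → F} (hn0 : n ≠ 0) (hn : S.f₂ n n = 0) (h : AllRt S H n)
    {m : Fin 4 → F} (hm0 : m ≠ 0) (hm : S.f₂ m m = 0) : AllRt S H m := by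
  obtain ⟨n', P⟩ := S.exists_hyp hn0 hn
  by_cases hne : S.f₂ n' m ≠ 0
  · exact h.move O P.n'n' hn P.n'n hm hne
  push Not at hne
  obtain ⟨c, rfl⟩ := S.minus n' m P.n'n' hne hm P.symm.ne
  obtain ⟨t, ht, hperp⟩ := exists_perp S.f₂ ![n, n'] (by omega)
  have h1 : S.f₂ n t = 0 := hperp 0
  have h2 : S.f₂ n' t = 0 := hperp 1
  have htt := P.aniso S h1 h2 ht
  have h1' : S.f₂ t n = 0 := by rw [S.sym₂.symm, h1]
  have h2' : S.f₂ t n' = 0 := by rw [S.sym₂.symm, h2]
  have h20 := S.two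
  refine h.move O (e := n' + t - (S.f₂ t t / 2) • n) ?_ hn ?_ hm ?_
  · simp [P.nn, P.n'n', P.nn', P.n'n, h1, h2, h1', h2']
    field_simp
    ring
  · simp [P.nn, P.n'n, h1']
  · simp only [map_add, map_sub, map_smul, LinearMap.add_apply, LinearMap.sub_apply,
      LinearMap.smul_apply, smul_eq_mul, P.n'n', P.nn', h2', add_zero, zero_sub, mul_one]
    refine mul_ne_zero (fun e => hm0 (by rw [e, zero_smul])) (neg_ne_zero.2 ?_)
    exact div_ne_zero htt h20

end

end Cfsg.Agent.OO34
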