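import Cfsg.Agent.OO34.Base

/-!
Siegel elements of a symmetric form, and their images in a group between the tensor stabiliser in
`Ω` and `Ω` (helper88).
-/

set_option autoImplicit false
set_option linter.unusedSectionVars false
set_option linter.unusedSimpArgs false

namespace Cfsg.Agent.OO34

open Matrix Cfsg.Agent.MaxSub Cfsg.Agent.TensorMax Cfsg.Agent.TensorInv Module

variable {F : Type*} [Field F] {m : ℕ}

/-- The Siegel map `x ↦ x + f(e,x) t - f(t,x) e - f(t,t)/2 f(e,x) e`. -/
noncomputable def sgMap (f : (Fin m → F) →ₗ[F] (Fin m → F) →ₗ[F] F) (e t : Fin m → F) :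
    (Fin m → F) →ₗ[F] (Fin m → F) :=
  LinearMap.id + (f e).smulRight t - (f t).smulRight e - ((f t t / 2) • f e).smulRight e

theorem sgMap_apply (f : (Fin m → F) →ₗ[F] (Fin m → F) →ₗ[F] F) (e t x : Fin m → F) :
    sgMap f e t x = x + f e x • t - f t x • e - (f t t / 2 * f e x) • e := by
  simp [sgMap]

section

variable {f : (Fin m → F) →ₗ[F] (Fin m → F) →ₗ[F] F} (hf : Sym f)
include hf

theorem sgMap_comp {e t t' : Fin m → F} (he : f e e = 0) (ht : f e t = 0) (ht' : f e t' = 0)
    (x : Fin m → F) : sgMap f e t (sgMap f e t' x) = sgMap f e (t + t') x := by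
  have h2 := hf.two
  simp only [sgMap_apply, map_add, map_sub, map_smul, LinearMap.add_apply, smul_eq_mul, he, ht,
    ht', hf.symm e t, hf.symm t t', mul_zero, sub_zero, add_zero]
  match_scalars <;> field_simp <;> ring

end

open Classical in
/-- The Siegel element of `e` and `t`. -/
noncomputable def siegel (f : (Fin m → F) →ₗ[F] (Fin m → F) →ₗ[F] F) (e t : Fin m → F) :
    GL (Fin m) F :=
  if h : Sym f ∧ f e e = 0 ∧ f e t = 0 then
    mkGL (sgMap f e t) (sgMap f e (-t))
      (fun x => by
        rw [sgMap_comp h.1 h.2.1 h.2.2 (by rw [map_neg, h.2.2, neg_zero]), add_neg_cancel,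
          sgMap_apply]
        simp)
      (fun x => by
        rw [sgMap_comp h.1 h.2.1 (by rw [map_neg, h.2.2, neg_zero]) h.2.2, neg_add_cancel,
          sgMap_apply]
        simp)
  else 1

section

variable {f : (Fin m → F) →ₗ[F] (Fin m → F) →ₗ[F] F} (hf : Sym f)
include hf

theorem siegel_apply {e t : Fin m → F} (he : f e e = 0) (ht : f e t = 0) (x : Fin m → F) :
    act (siegel f e t) x = x + f e x • t - f t x • e - (f t t / 2 * f e x) • e := by
  rw [siegel, dif_pos ⟨hf, he, ht⟩, act_apply, mkGL_mulVec, sgMap_apply]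

theorem siegel_form {e t : Fin m → F} (he : f e e = 0) (ht : f e t = 0) (x y : Fin m → F) :
    f (act (siegel f e t) x) (act (siegel f e t) y) = f x y := by
  have h2 := hf.two
  rw [siegel_apply hf he ht, siegel_apply hf he ht]
  simp only [map_add, map_sub, map_smul, LinearMap.add_apply, LinearMap.sub_apply,
    LinearMap.smul_apply, smul_eq_mul, he, ht, hf.symm e t, hf.symm e x, hf.symm t x]
  field_simp
  ring

theorem siegel_self {e t : Fin m → F} (he : f e e = 0) (ht : f e t = 0) :
    act (siegel f e t) e = e := by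
  rw [siegel_apply hf he ht, he, hf.symm e t, ht]
  simp

theorem siegel_mul {e t t' : Fin m → F} (he : f e e = 0) (ht : f e t = 0) (ht' : f e t' = 0) :
    siegel f e t * siegel f e t' = siegel f e (t + t') := gl_ext fun x => by
  show act (siegel f e t * siegel f e t') x = act (siegel f e (t + t')) x
  rw [act_mul, siegel_apply hf he ht, siegel_apply hf he ht',
    siegel_apply hf he (by rw [map_add, ht, ht', add_zero]), ← sgMap_apply, ← sgMap_apply,
    ← sgMap_apply, sgMap_comp hf he ht ht']

theorem siegel_zero {e : Fin m → F} (he : f e e = 0) : siegel f e 0 = 1 := gl_ext fun x => by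
  show act (siegel f e 0) x = act (1 : GL (Fin m) F) x
  rw [siegel_apply hf he (map_zero _), act_one]
  simp

theorem siegel_pow {e t : Fin m → F} (he : f e e = 0) (ht : f e t = 0) (k : ℕ) :
    siegel f e t ^ k = siegel f e ((k : F) • t) := by
  induction k with
  | zero => rw [pow_zero, Nat.cast_zero, zero_smul, siegel_zero hf he]
  | succ k ih =>
    rw [pow_succ, ih, siegel_mul hf he (by rw [map_smul, ht, smul_zero]) ht, Nat.cast_succ,
      add_smul, one_smul]

theorem siegel_pow_card [Fintype F] {e t : Fin m → F} (he : f e e = 0) (ht : f e t = 0) :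
    siegel f e t ^ Fintype.card F = 1 := by
  rw [siegel_pow hf he ht, Nat.cast_card_eq_zero, zero_smul, siegel_zero hf he]

end

theorem kr_pow {a b : ℕ} (g : GL (Fin a) F) (h : GL (Fin b) F) (k : ℕ) :
    kr g h ^ k = kr (g ^ k) (h ^ k) := by
  induction k with
  | zero => simp [kr_one]
  | succ k ih => rw [pow_succ, ih, kr_mul, pow_succ, pow_succ]

namespace OForm

variable (S : OForm F) [Fintype F]

include S in
theorem odd_card : Odd (Fintype.card F) :=
  Nat.odd_iff.2 <| FiniteField.odd_card_of_char_ne_two fun h2 => by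
    have := ringChar.of_eq h2
    exact S.two CharTwo.two_eq_zero

/-- A product of isometries of the factors, of odd exponent, lies in `Ω`. -/
theorem kr_mem_omega_of_odd {g : GL (Fin 3) F} {k : GL (Fin 4) F}
    (hg : ∀ x y, S.f₁ (act g x) (act g y) = S.f₁ x y)
    (hk : ∀ v w, S.f₂ (act k v) (act k w) = S.f₂ v w) {n : ℕ} (hn : Odd n) (hgn : g ^ n = 1)
    (hkn : k ^ n = 1) : kr g k ∈ Geo.omegaGL ⇑S.Q :=
  S.mem_of_odd (S.kr_mem_isometry (μ := 1) (ν := 1) (one_mul 1)
    (fun x y => by rw [hg, one_mul]) (fun v w => by rw [hk, one_mul])) hn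
    (by rw [kr_pow, hgn, hkn, kr_one])

end OForm

namespace Over

variable {S : OForm F} [Fintype F] {H : Subgroup (GL (Fin 3 × Fin 4) F)} (O : Over S H)
include O

theorem siegel₁_mem {e t : Fin 3 → F} (he : S.f₁ e e = 0) (ht : S.f₁ e t = 0) :
    kr (siegel S.f₁ e t) (1 : GL (Fin 4) F) ∈ H :=
  O.kr_mem _ _ <| S.kr_mem_omega_of_odd (siegel_form S.sym₁ he ht)
    (fun v w => by rw [act_one, act_one]) S.odd_card (siegel_pow_card S.sym₁ he ht) (one_pow _)

theorem siegel₂_mem {e t : Fin 4 → F} (he : S.f₂ e e = 0) (ht : S.f₂ e t = 0) :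
    kr (1 : GL (Fin 3) F) (siegel S.f₂ e t) ∈ H :=
  O.kr_mem _ _ <| S.kr_mem_omega_of_odd (fun v w => by rw [act_one, act_one])
    (siegel_form S.sym₂ he ht) S.odd_card (one_pow _) (siegel_pow_card S.sym₂ he ht)

end Over

end Cfsg.Agent.OO34
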