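import Cfsg.Agent.OO34.Member

/-!
Involutions of the tensor stabiliser inside `Ω`: both factors can be taken to be isometric
involutions, and commutation descends to the factors (helper70).
-/

set_option autoImplicit false
set_option linter.unusedSectionVars false
set_option linter.unusedSimpArgs false

namespace Cfsg.Agent.OO34

open Matrix Cfsg.Agent.MaxSub Cfsg.Agent.TensorMax Cfsg.Agent.TensorInv Module QuadraticMap

variable {F : Type*} [Field F]

/-- A pure tensor determines its factors up to a scalar. -/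
theorem emb_eq_emb {a b : ℕ} {v w : Fin b → F} {x y : Fin a → F} (hv : v ≠ 0) (hx : x ≠ 0)
    (h : emb w y = emb v x) : ∃ c : F, c ≠ 0 ∧ y = c • x ∧ w = c⁻¹ • v := by
  obtain ⟨i, hi⟩ := Function.ne_iff.mp hx
  obtain ⟨j, hj⟩ := Function.ne_iff.mp hv
  simp only [Pi.zero_apply] at hi hj
  have key : ∀ i j, y i * w j = x i * v j := fun i j => congrFun h (i, j)
  have hn : y i * w j ≠ 0 := by rw [key]; exact mul_ne_zero hi hj
  have hwj : w j ≠ 0 := fun h0 => hn (by rw [h0, mul_zero])
  refine ⟨v j / w j, div_ne_zero hj hwj, funext fun k => ?_, funext fun k => ?_⟩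
  · rw [Pi.smul_apply, smul_eq_mul]
    field_simp
    linear_combination key k j
  · rw [Pi.smul_apply, smul_eq_mul, inv_div]
    have h1 := key i j
    have h2 := key i k
    field_simp
    refine mul_left_cancel₀ hi ?_
    linear_combination w j * h2 - w k * h1

/-- A trivial Kronecker product has scalar factors. -/
theorem kr_eq_one {a b : ℕ} (hb : 1 ≤ b) (ha : 1 ≤ a) {g : GL (Fin a) F} {k : GL (Fin b) F}
    (h : kr g k = 1) : ∃ c : F, c ≠ 0 ∧ (∀ x, act g x = c • x) ∧ ∀ v, act k v = c⁻¹ • v := by
  have key : ∀ v x, emb (act k v) (act g x) = emb v x := fun v x => by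
    rw [← act_kr, h, act_one]
  have h1 : (Pi.single ⟨0, ha⟩ 1 : Fin a → F) ≠ 0 := by simp
  have h2 : (Pi.single ⟨0, hb⟩ 1 : Fin b → F) ≠ 0 := by simp
  set x0 : Fin a → F := Pi.single ⟨0, ha⟩ 1
  set v0 : Fin b → F := Pi.single ⟨0, hb⟩ 1
  obtain ⟨c, hc, hgc, hkc⟩ := emb_eq_emb h2 h1 (key v0 x0)
  refine ⟨c, hc, fun x => ?_, fun v => ?_⟩
  · have := key v0 x
    rw [hkc, emb_smul_left] at this
    exact emb_injective h2 (by rw [map_smul, ← this, smul_smul, mul_inv_cancel₀ hc, one_smul])
  · have := key v x0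
    rw [hgc, map_smul] at this
    obtain ⟨i, hi⟩ := Function.ne_iff.mp h1
    refine funext fun j => mul_left_cancel₀ hi ?_
    have hp := congrFun this (i, j)
    simp only [Pi.smul_apply, smul_eq_mul, emb, LinearMap.coe_mk, AddHom.coe_mk] at hp ⊢
    field_simp
    linear_combination hp

/-- A scalar as an element of the general linear group. -/
noncomputable def scal {m : ℕ} (c : F) (hc : c ≠ 0) : GL (Fin m) F :=
  mkGL (c • LinearMap.id) (c⁻¹ • LinearMap.id) (fun x => by simp [smul_smul, hc])
    (fun x => by simp [smul_smul, hc])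

theorem scal_apply {m : ℕ} (c : F) (hc : c ≠ 0) (x : Fin m → F) :
    act (scal (m := m) c hc) x = c • x := by
  rw [act_apply, scal, mkGL_mulVec]; rfl

theorem act_det {m : ℕ} (g : GL (Fin m) F) {c : F} (h : ∀ x, act g (act g x) = c • x) :
    (g : Matrix (Fin m) (Fin m) F).det * (g : Matrix (Fin m) (Fin m) F).det = c ^ m := by
  have : (g : Matrix (Fin m) (Fin m) F) * (g : Matrix (Fin m) (Fin m) F) = c • 1 := by
    refine Matrix.ext_iff_mulVec.2 fun x => ?_
    rw [← Matrix.mulVec_mulVec, Matrix.smul_mulVec, Matrix.one_mulVec]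
    exact h x
  rw [← Matrix.det_mul, this, Matrix.det_smul, Matrix.det_one, mul_one, Fintype.card_fin]

namespace OForm

variable (S : OForm F)

/-- No invertible map of `F³` is skew. -/
theorem not_skew (g : GL (Fin 3) F) (h : ∀ x y, S.f₁ (act g x) y = -S.f₁ x (act g y)) : False := by
  set A : Matrix (Fin 3) (Fin 3) F :=
    Matrix.of fun i j => S.f₁ (act g (Pi.single i 1)) (Pi.single j 1) with hA
  have hAT : Aᵀ = -A := by
    ext i j
    simp only [hA, transpose_apply, of_apply, Matrix.neg_apply]
    rw [h, S.sym₁.symm]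
  have hdet : A.det = 0 := by
    have h1 := congrArg Matrix.det hAT
    rw [Matrix.det_transpose, Matrix.det_neg, Fintype.card_fin] at h1
    exact (mul_eq_zero.1 (show (2 : F) * A.det = 0 by linear_combination h1)).resolve_left S.two
  obtain ⟨v, hv, hAv⟩ := Matrix.exists_mulVec_eq_zero_iff.2 hdet
  refine hv (S.sym₁.nd v fun x => ?_)
  have hx : ∀ i, S.f₁ (act g (Pi.single i 1)) v = 0 := fun i => by
    have h2 := congrFun hAv i
    rw [pi_eq_sum_univ' v, map_sum]
    simp only [map_smul, smul_eq_mul]
    refine Eq.trans ?_ h2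
    simp [hA, Matrix.mulVec, dotProduct, mul_comm]
  rw [S.sym₁.symm, ← act_act_inv g x, pi_eq_sum_univ' (act g⁻¹ x)]
  simp only [map_sum, map_smul, LinearMap.sum_apply, LinearMap.smul_apply, hx, smul_zero,
    Finset.sum_const_zero]

/-- An involution of the tensor stabiliser is the product of two isometric involutions. -/
theorem involution_split {c : GL (Fin 3 × Fin 4) F} (hK : c ∈ Geo.kroneckerSubgroup 3 4 F)
    (hc : c ∈ Cfsg.isometryGroup F ⇑S.Q) (hcc : c * c = 1) :
    ∃ g k, c = kr g k ∧ (∀ x, act g (act g x) = x) ∧ (∀ v, act k (act k v) = v) ∧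
      (∀ x y, S.f₁ (act g x) (act g y) = S.f₁ x y) ∧
      (∀ v w, S.f₂ (act k v) (act k w) = S.f₂ v w) := by
  obtain ⟨g, k, hgk⟩ := hK
  obtain rfl : c = kr g k := Units.ext (by rw [kr_coe]; exact hgk.symm ▸ rfl)
  rw [kr_mul] at hcc
  obtain ⟨l, hl, hg, hk⟩ := kr_eq_one (by norm_num) (by norm_num) hcc
  simp only [act_mul] at hg hk
  have hd := act_det g hg
  -- the scalar is a square
  set s := (g : Matrix (Fin 3) (Fin 3) F).det / l with hs
  have hsl : s * s = l := by rw [hs]; field_simp; linear_combination hd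
  have hs0 : s ≠ 0 := fun h0 => hl (by rw [← hsl, h0, mul_zero])
  set g' := g * scal s⁻¹ (inv_ne_zero hs0)
  set k' := k * scal s hs0
  have hg' : ∀ x, act g' x = s⁻¹ • act g x := fun x => by
    simp only [g', act_mul, scal_apply, map_smul]
  have hk' : ∀ v, act k' v = s • act k v := fun v => by
    simp only [k', act_mul, scal_apply, map_smul]
  have hkr : kr g k = kr g' k' := gl_ext_emb fun v x => by
    rw [act_kr, act_kr, hg', hk', map_smul, emb_smul_left, smul_smul, inv_mul_cancel₀ hs0, one_smul]
  have hgg : ∀ x, act g' (act g' x) = x := fun x => by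
    rw [hg', hg', map_smul, hg, smul_smul, smul_smul, ← hsl]
    field_simp
    rw [one_smul]
  have hkk : ∀ v, act k' (act k' v) = v := fun v => by
    rw [hk', hk', map_smul, hk, smul_smul, smul_smul, ← hsl]
    field_simp
    rw [one_smul]
  rw [hkr] at hc ⊢
  have hpol : ∀ x y v w, S.f₁ (act g' x) (act g' y) * S.f₂ (act k' v) (act k' w) =
      S.f₁ x y * S.f₂ v w := fun x y v w => by
    have h0 : ∀ z, S.Q (act (kr g' k') z) = S.Q z := S.mem_isometry_iff.1 hc
    have h1 : polar S.Q (act (kr g' k') (emb v x)) (act (kr g' k') (emb w y)) =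
        polar S.Q (emb v x) (emb w y) := by simp only [QuadraticMap.polar, ← map_add, h0]
    rwa [act_kr, act_kr, S.polar_emb, S.polar_emb] at h1
  obtain ⟨u, hu⟩ := S.sym₂.exists_aniso (by norm_num)
  obtain ⟨e, he⟩ := S.sym₁.exists_aniso (by norm_num)
  set μ := S.f₂ u u / S.f₂ (act k' u) (act k' u) with hμ
  have hne : S.f₂ (act k' u) (act k' u) ≠ 0 := fun h0 => by
    have := hpol e e u u
    rw [h0, mul_zero] at this
    exact mul_ne_zero he hu this.symm
  have hgμ : ∀ x y, S.f₁ (act g' x) (act g' y) = μ * S.f₁ x y := fun x y => by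
    rw [hμ]; field_simp; linear_combination hpol x y u u
  have hμ1 : μ = 1 := by
    have h1 := hgμ (act g' e) (act g' e)
    rw [hgg, hgμ e e] at h1
    have h2 : μ * μ = 1 := mul_right_cancel₀ he (by linear_combination -h1)
    rcases mul_self_eq_one_iff.1 h2 with h | h
    · exact h
    · exfalso
      refine S.not_skew g' fun x y => ?_
      conv_lhs => rw [← hgg y, hgμ, h]
      ring
  have hgi : ∀ x y, S.f₁ (act g' x) (act g' y) = S.f₁ x y := fun x y => by
    rw [hgμ, hμ1, one_mul]
  refine ⟨g', k', rfl, hgg, hkk, hgi, fun v w => ?_⟩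
  have := hpol e e v w
  rw [hgi] at this
  exact mul_left_cancel₀ he this

include S in
/-- Commuting products of isometric involutions have commuting factors. -/
theorem commute_split {g s : GL (Fin 3) F} {k t : GL (Fin 4) F}
    (hg : ∀ x, act g (act g x) = x) (hs : ∀ x, act s (act s x) = x)
    (h : kr g k * kr s t = kr s t * kr g k) :
    (∀ x, act g (act s x) = act s (act g x)) ∧ (∀ v, act k (act t v) = act t (act k v)) := by
  rw [kr_mul, kr_mul] at h
  have h1 : kr ((s * g)⁻¹ * (g * s)) ((t * k)⁻¹ * (k * t)) = 1 := by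
    rw [← kr_mul, h, kr_mul, inv_mul_cancel, inv_mul_cancel, kr_one]
  obtain ⟨c, hc, hgc, hkc⟩ := kr_eq_one (by norm_num) (by norm_num) h1
  have hgs : ∀ x, act g (act s x) = c • act s (act g x) := fun x => by
    have h2 := congrArg (act (s * g)) (hgc x)
    rw [← act_mul, ← mul_assoc, mul_inv_cancel, one_mul, map_smul, act_mul, act_mul] at h2
    exact h2
  have hkt : ∀ v, act k (act t v) = c⁻¹ • act t (act k v) := fun v => by
    have h2 := congrArg (act (t * k)) (hkc v)
    rw [← act_mul, ← mul_assoc, mul_inv_cancel, one_mul, map_smul, act_mul, act_mul] at h2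
    exact h2
  obtain ⟨e, he⟩ := S.sym₁.exists_aniso (by norm_num)
  have he0 : e ≠ 0 := fun h0 => he (by rw [h0, map_zero])
  have hd : (c : F) ^ 3 = 1 := by
    have hM : (g : Matrix (Fin 3) (Fin 3) F) * (s : Matrix (Fin 3) (Fin 3) F) =
        c • ((s : Matrix (Fin 3) (Fin 3) F) * (g : Matrix (Fin 3) (Fin 3) F)) := by
      refine Matrix.ext_iff_mulVec.2 fun x => ?_
      rw [← Matrix.mulVec_mulVec, Matrix.smul_mulVec, ← Matrix.mulVec_mulVec]
      exact hgs x
    have h2 := congrArg Matrix.det hM
    rw [Matrix.det_smul, Matrix.det_mul, Matrix.det_mul, Fintype.card_fin] at h2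
    have hgd := act_det g (c := 1) (fun x => by rw [hg, one_smul])
    have hsd := act_det s (c := 1) (fun x => by rw [hs, one_smul])
    have hne : (g : Matrix (Fin 3) (Fin 3) F).det * (s : Matrix (Fin 3) (Fin 3) F).det ≠ 0 :=
      mul_ne_zero (left_ne_zero_of_mul (a := (g : Matrix (Fin 3) (Fin 3) F).det)
        (by rw [hgd]; simp)) (left_ne_zero_of_mul (a := (s : Matrix (Fin 3) (Fin 3) F).det)
        (by rw [hsd]; simp))
    exact mul_right_cancel₀ hne (by rw [one_mul]; linear_combination -h2)
  have h2 : c * c = 1 := by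
    have h5 : act s (act g e) = c • act g (act s e) := by
      have h3 := hgs (act s e)
      rw [hs] at h3
      have h6 := congrArg (act s) h3
      rw [map_smul, hs] at h6
      exact h6
    rw [hgs e, smul_smul] at h5
    have h7 : (1 : F) • act s (act g e) = (c * c) • act s (act g e) := by rw [one_smul]; exact h5
    refine (smul_left_injective F ?_ h7).symm
    exact fun h0 => he0 ((act_injective g) (by
      rw [map_zero]; exact (act_injective s) (by rw [map_zero]; exact h0)))
  have hc1 : c = 1 := by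
    rw [pow_succ, pow_two, h2, one_mul] at hd; exact hd
  exact ⟨fun x => by rw [hgs, hc1, one_smul], fun v => by rw [hkt, hc1, inv_one, one_smul]⟩

end OForm

end Cfsg.Agent.OO34
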